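import Cfsg.Agent.Lib.JankoFour.Core

/-!
# Data for the splitting of the normaliser of the big elementary subgroup
-/

set_option autoImplicit false
set_option linter.unusedSectionVars false

namespace CfsgLib.JankoFour

open QuadraticMap

variable {V : Type*} [AddCommGroup V] [Module (ZMod 2) V] [Finite V]
  {K : Type*} [Group K] [Finite K] [DistribMulAction K V]

/-- A second hexad group with fixed space disjoint from that of the first, and three involutions generating a
Sylow 2-subgroup (dihedral of order eight times two) of the common normaliser. -/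
def SplitData (q : QuadraticForm (ZMod 2) V) (n : K) (M : Subgroup K) (s : V) (A : Subgroup K) : Prop :=
  ∃ (B : Subgroup K) (a b c : K), Hex q n M s B ∧
    (∀ v : V, (∀ x ∈ A, x • v = v) → (∀ x ∈ B, x • v = v) → v = 0) ∧
    (∀ x ∈ ({a, b, c} : Set K), x * x = 1 ∧ x ∈ Subgroup.normalizer (A : Set K) ∧ x ∈ Subgroup.normalizer (B : Set K)) ∧
    (a * c) * (a * c) = 1 ∧ (b * c) * (b * c) = 1 ∧ (a * b) ^ 4 = 1 ∧
    Nat.card ↥(Subgroup.closure ({a, b, c} : Set K)) = 16 ∧ Subgroup.closure ({a, b, c} : Set K) ⊓ A = ⊥

end CfsgLib.JankoFour
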