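import Cfsg.Agent.Lib.JankoFour.Label
import Cfsg.Agent.Lib.JankoFour.SplitData
import Cfsg.Agent.Lib.M24Cert.SextetStab
import Cfsg.Agent.Lib.Solvable.Gaschutz

/-!
# The normaliser of the big elementary subgroup splits over it
-/

set_option autoImplicit false
set_option linter.unusedSectionVars false
set_option linter.style.haveILetI false
set_option maxHeartbeats 1000000

namespace CfsgLib.JankoFour

open Subgroup QuadraticMap
open Cfsg (GolayPt supports golayCode sextets)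
open CfsgLib.JankoFour.Thompson (Ctx SixData Ns imK imK_eq imK_coe imK_mul imK_val cosetN)
open CfsgLib.LargeFischer (fixSub vadd_self eq_of_vadd)
open CfsgLib.LargeFischer.Thompson (val)
open scoped Pointwise symmDiff

/-- The order of a product with trivial intersection. -/
theorem card_sup_disjoint {G : Type*} [Group G] [Finite G] {A Y : Subgroup G}
    (hY : Y ≤ Subgroup.normalizer (A : Set G)) (h : A ⊓ Y = ⊥) :
    Nat.card ↥(A ⊔ Y) = Nat.card ↥A * Nat.card ↥Y := by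
  rw [← Nat.card_prod]
  refine (Nat.card_congr (Equiv.ofBijective
    (fun p : ↥A × ↥Y => (⟨(p.1 : G) * p.2, mul_mem_sup p.1.2 p.2.2⟩ : ↥(A ⊔ Y))) ⟨?_, ?_⟩)).symm
  · rintro ⟨a, y⟩ ⟨a', y'⟩ e
    have e' : (a : G) * y = a' * y' := congrArg Subtype.val e
    have h1 : (a'⁻¹ * a : ↥A) = (1 : ↥A) := Subtype.ext (by
      show (a' : G)⁻¹ * a = 1
      rw [← Subgroup.mem_bot, ← h]
      refine ⟨A.mul_mem (A.inv_mem a'.2) a.2, ?_⟩
      have : (a' : G)⁻¹ * a = y' * (y : G)⁻¹ := by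
        rw [eq_mul_inv_iff_mul_eq, mul_assoc, e', inv_mul_cancel_left]
      rw [this]
      exact Y.mul_mem y'.2 (Y.inv_mem y.2))
    have ha : a' = a := inv_mul_eq_one.1 h1
    subst ha
    exact Prod.ext rfl (Subtype.ext (mul_left_cancel e'))
  · rintro ⟨x, hx⟩
    have hx' : x ∈ (↑(A ⊔ Y) : Set G) := hx
    rw [Subgroup.coe_mul_of_right_le_normalizer_left A Y hY] at hx'
    obtain ⟨a, ha, y, hy, rfl⟩ := hx'
    exact ⟨(⟨a, ha⟩, ⟨y, hy⟩), rfl⟩

/-- Two involutions whose product has order dividing four, and a third commuting with both. -/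
theorem card_closure_three {G : Type*} [Group G] [Finite G] {a b c : G} (ha : a * a = 1) (hb : b * b = 1)
    (hc : c * c = 1) (hab : (a * b) ^ 4 = 1) (hac : a * c * (a * c) = 1) (hbc : b * c * (b * c) = 1) :
    Nat.card ↥(Subgroup.closure ({a, b, c} : Set G)) ≤ 16 := by
  set x := a * b with hx
  have ia : a⁻¹ = a := inv_eq_of_mul_eq_one_right ha
  have ib : b⁻¹ = b := inv_eq_of_mul_eq_one_right hb
  have ic : c⁻¹ = c := inv_eq_of_mul_eq_one_right hc
  have cac : c * a = a * c := by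
    have := inv_eq_of_mul_eq_one_right hac
    rwa [mul_inv_rev, ic, ia] at this
  have cbc : c * b = b * c := by
    have := inv_eq_of_mul_eq_one_right hbc
    rwa [mul_inv_rev, ic, ib] at this
  have hcx : Commute c x := by
    show c * (a * b) = a * b * c
    rw [← mul_assoc, cac, mul_assoc, cbc, ← mul_assoc]
  have hca : Commute c a := cac
  have hax : a * x * a⁻¹ = x⁻¹ := by
    rw [hx, mul_inv_rev, ib, ia, ← mul_assoc, ha, one_mul]
  let S : Set G := {y | ∃ i j l : ℤ, y = x ^ i * a ^ j * c ^ l}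
  have hSa : ∀ y ∈ S, a * y ∈ S := by
    rintro _ ⟨i, j, l, rfl⟩
    refine ⟨-i, 1 + j, l, ?_⟩
    have h : a * x ^ i * a⁻¹ = x ^ (-i) := by rw [← conj_zpow, hax, inv_zpow, zpow_neg]
    rw [← h, zpow_add, zpow_one]
    group
  have hSb : ∀ y ∈ S, b * y ∈ S := by
    rintro _ ⟨i, j, l, rfl⟩
    have e : b * (x ^ i * a ^ j * c ^ l) = a * (x ^ (i + 1) * a ^ j * c ^ l) := by
      have hb' : b = a * x := by rw [hx, ← mul_assoc, ha, one_mul]
      rw [add_comm i 1, zpow_add, zpow_one, hb']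
      group
    rw [e]
    exact hSa _ ⟨_, _, _, rfl⟩
  have hSc : ∀ y ∈ S, c * y ∈ S := by
    rintro _ ⟨i, j, l, rfl⟩
    refine ⟨i, j, 1 + l, ?_⟩
    rw [← mul_assoc, ← mul_assoc, (hcx.zpow_right i).eq, mul_assoc (x ^ i) c, (hca.zpow_right j).eq, zpow_add, zpow_one]
    group
  have hgen : ∀ g ∈ ({a, b, c} : Set G), ∀ y ∈ S, g * y ∈ S := by
    rintro g (rfl | rfl | rfl)
    exacts [hSa, hSb, hSc]
  have hall : ∀ g ∈ Subgroup.closure ({a, b, c} : Set G), ∀ y ∈ S, g * y ∈ S := by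
    intro g hg
    induction hg using Subgroup.closure_induction_left with
    | one => intro y hy; rwa [one_mul]
    | mul_left g hg h _ ih => intro y hy; rw [mul_assoc]; exact hgen g hg _ (ih y hy)
    | inv_mul_cancel g hg h _ ih =>
      intro y hy
      have : g⁻¹ = g := by rcases hg with rfl | rfl | rfl <;> assumption
      rw [this, mul_assoc]; exact hgen g hg _ (ih y hy)
  have hS1 : (1 : G) ∈ S := ⟨0, 0, 0, by simp⟩
  have hsub : (Subgroup.closure ({a, b, c} : Set G) : Set G) ⊆ S := fun g hg => by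
    have := hall g hg 1 hS1
    rwa [mul_one] at this
  let f : ↥(zpowers x) × ↥(zpowers a) × ↥(zpowers c) → G := fun p => p.1 * p.2.1 * p.2.2
  have hSf : S ⊆ Set.range f := by
    rintro _ ⟨i, j, l, rfl⟩
    exact ⟨(⟨_, zpow_mem (mem_zpowers x) i⟩, ⟨_, zpow_mem (mem_zpowers a) j⟩, ⟨_, zpow_mem (mem_zpowers c) l⟩), rfl⟩
  rw [← SetLike.coe_sort_coe, Nat.card_coe_set_eq]
  refine (Set.ncard_le_ncard (hsub.trans hSf) (Set.toFinite _)).trans ?_
  rw [← Nat.card_coe_set_eq]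
  refine (Finite.card_range_le f).trans ?_
  simp only [Nat.card_prod, Nat.card_zpowers]
  have h1 : orderOf x ≤ 4 := orderOf_le_of_pow_eq_one (by norm_num) hab
  have h2 : orderOf a ≤ 2 := orderOf_le_of_pow_eq_one (by norm_num) (by rw [pow_two, ha])
  have h3 : orderOf c ≤ 2 := orderOf_le_of_pow_eq_one (by norm_num) (by rw [pow_two, hc])
  exact (Nat.mul_le_mul h1 (Nat.mul_le_mul h2 h3)).trans (by norm_num)

variable {G : Type*} [Group G] [Finite G] {z : G} {Q : Subgroup (centralizer ({z} : Set G))} [Q.Normal]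
  {V : Type*} [AddCommGroup V] [Module (ZMod 2) V] [DistribMulAction ((centralizer ({z} : Set G)) ⧸ Q) V] [Finite V]
  {q : QuadraticForm (ZMod 2) V} {π : ↥Q → V} {n : (centralizer ({z} : Set G)) ⧸ Q}
  {M : Subgroup ((centralizer ({z} : Set G)) ⧸ Q)} {φ : ↥M →* ↥Cfsg.Spor.M22} {s : V} {A : Subgroup G}
  {Ab B : Subgroup ((centralizer ({z} : Set G)) ⧸ Q)}

/-- The orbit product of the element of order three. -/
def triple (t x : G) : G := x * (t * x * t⁻¹) * (t * t * x * (t * t)⁻¹)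

theorem triple_mul (t : G) {x y : G} (h : ∀ i j : G, i ∈ ({1, t, t * t} : Set G) → j ∈ ({1, t, t * t} : Set G) →
      Commute (i * x * i⁻¹) (j * y * j⁻¹)) :
    triple t (x * y) = triple t x * triple t y := by
  have h1 := h t 1 (by simp) (by simp)
  have h2 := h (t * t) 1 (by simp) (by simp)
  have h3 := h (t * t) t (by simp) (by simp)
  simp only [one_mul, inv_one, mul_one] at h1 h2
  simp only [triple]
  rw [show t * (x * y) * t⁻¹ = t * x * t⁻¹ * (t * y * t⁻¹) by group,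
    show t * t * (x * y) * (t * t)⁻¹ = t * t * x * (t * t)⁻¹ * (t * t * y * (t * t)⁻¹) by group]
  generalize t * x * t⁻¹ = x1 at *
  generalize t * t * x * (t * t)⁻¹ = x2 at *
  generalize t * y * t⁻¹ = y1 at *
  generalize t * t * y * (t * t)⁻¹ = y2 at *
  calc x * y * (x1 * y1) * (x2 * y2) = x * (y * x1) * (y1 * x2) * y2 := by group
    _ = x * x1 * (y * x2) * y1 * y2 := by rw [← h1.eq, ← h3.eq]; group
    _ = _ := by rw [← h2.eq]; group

/-- The preimage of the fixed space of the second hexad group. -/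
def bigU (π : ↥Q → V) (B : Subgroup ((centralizer ({z} : Set G)) ⧸ Q)) : Set G :=
  {x | ∃ u : ↥Q, π u ∈ (fixSub B : AddSubgroup V) ∧ val u = x}

section Main

variable (c : Ctx Q q π n M φ s A Ab) {T : Fin 6 → V} {nt : centralizer ({z} : Set G)} (d : SixData n M Ab s T nt)
  (hB : Hex q n M s B) (hdis : ∀ v : V, (∀ x ∈ Ab, x • v = v) → (∀ x ∈ B, x • v = v) → v = 0)
include c d

/-- A lift normalising the subgroup of order three. -/
theorem exists_norm_lift (k : (centralizer ({z} : Set G)) ⧸ Q) :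
    ∃ w : centralizer ({z} : Set G), QuotientGroup.mk' Q w = k ∧ w ∈ Subgroup.normalizer (zpowers nt : Set _) := by
  haveI := Fact.mk Nat.prime_three
  haveI hn : (zpowers n).Normal := ⟨fun y hy g => by
    obtain ⟨i, rfl⟩ := hy
    show g * n ^ i * g⁻¹ ∈ zpowers n
    rw [← conj_zpow]
    exact zpow_mem (c.oth.core.normal g) i⟩
  set R := (zpowers n).comap (QuotientGroup.mk' Q) with hR
  haveI : R.Normal := hn.comap _
  have hntR : nt ∈ R := show QuotientGroup.mk' Q nt ∈ zpowers n by rw [d.lift]; exact mem_zpowers n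
  have hcR : Nat.card ↥R = 3 * 2 ^ 13 := by
    have h1 := R.card_mul_index
    rw [hR, index_comap_of_surjective _ (QuotientGroup.mk'_surjective Q), ← hR,
      card_eq_card_quotient_mul_card_subgroup Q, ← (zpowers n).card_mul_index, c.oth.core.card_zn, c.mdl.cardQ] at h1
    refine Nat.eq_of_mul_eq_mul_right (Nat.pos_of_ne_zero (index_ne_zero_of_finite (H := zpowers n))) (h1.trans ?_)
    ring
  have hle : zpowers nt ≤ R := zpowers_le.2 hntR
  have hord : orderOf nt = 3 := orderOf_eq_prime (by rw [pow_succ, pow_two]; exact d.cube)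
    fun e => c.oth.core.n_ne (by rw [← d.lift, e, map_one])
  have hP : Nat.card ↥((zpowers nt).subgroupOf R) = 3 := by
    rw [Nat.card_congr (subgroupOfEquivOfLe hle).toEquiv, Nat.card_zpowers, hord]
  have hidx : ¬ 3 ∣ ((zpowers nt).subgroupOf R).index := by
    have h := ((zpowers nt).subgroupOf R).card_mul_index
    rw [hP, hcR] at h
    rw [show ((zpowers nt).subgroupOf R).index = 2 ^ 13 by omega]
    norm_num
  let P : Sylow 3 ↥R := (IsPGroup.of_card (n := 1) (hP.trans (pow_one 3).symm)).toSylow hidx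
  have htop := Sylow.normalizer_sup_eq_top P
  rw [show ((P : Subgroup ↥R).map R.subtype) = zpowers nt from map_subgroupOf_eq_of_le hle] at htop
  obtain ⟨w₀, hw₀⟩ := QuotientGroup.mk'_surjective Q k
  obtain ⟨m, hm, r, hr, e⟩ := mem_sup_of_normal_right.1 (htop.ge (mem_top w₀))
  obtain ⟨i, hi⟩ := (show QuotientGroup.mk' Q r ∈ zpowers n from hr)
  refine ⟨m * nt ^ i, ?_, mul_mem hm (le_normalizer (zpow_mem (mem_zpowers nt) i))⟩
  rw [map_mul, map_zpow, d.lift, show n ^ i = QuotientGroup.mk' Q r from hi, ← map_mul, e, hw₀]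

/-- In the two-core only the centre normalises the subgroup of order three. -/
theorem norm_Q {w : centralizer ({z} : Set G)} (hQ : QuotientGroup.mk' Q w = 1)
    (hw : w ∈ Subgroup.normalizer (zpowers nt : Set _)) : (w : G) = 1 ∨ (w : G) = z := by
  obtain ⟨i, hi⟩ := (mem_normalizer_iff.1 hw nt).1 (mem_zpowers nt)
  have hord : orderOf nt = 3 := orderOf_eq_prime (by rw [pow_succ, pow_two]; exact d.cube)
    fun e => c.oth.core.n_ne (by rw [← d.lift, e, map_one])
  have e := congrArg (QuotientGroup.mk' Q) (show nt ^ i = w * nt * w⁻¹ from hi)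
  rw [map_zpow, map_mul, map_mul, map_inv, hQ, d.lift, one_mul, inv_one, mul_one] at e
  have hmod : i % 3 = 1 % 3 := by
    have := zpow_eq_zpow_iff_modEq.1 (e.trans (zpow_one n).symm)
    rwa [c.oth.core.ordn] at this
  have hcomm : w * nt = nt * w := by
    rw [← mul_inv_eq_iff_eq_mul, ← show nt ^ i = w * nt * w⁻¹ from hi]
    conv_rhs => rw [← zpow_one nt]
    rw [zpow_eq_zpow_iff_modEq, hord]
    exact hmod
  set u : ↥Q := ⟨w, (QuotientGroup.eq_one_iff _).1 hQ⟩
  have hfix := c.mdl.fixed_of_comm (c := nt) (u := u) hcomm.symm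
  rw [show (QuotientGroup.mk nt : (centralizer ({z} : Set G)) ⧸ Q) = n from d.lift] at hfix
  exact (c.mdl.ker u).1 (c.oth.core.nfix _ hfix)

omit d in
theorem n_fixB (hB : Hex q n M s B) {v : V} (hv : v ∈ (fixSub B : AddSubgroup V)) :
    n • v ∈ (fixSub B : AddSubgroup V) := fun x hx => hB.fix_n v hv x hx

omit d in
theorem bigU_mul {x y : G} (hx : x ∈ bigU π B) (hy : y ∈ bigU π B) : x * y ∈ bigU π B := by
  obtain ⟨u, hu, rfl⟩ := hx
  obtain ⟨v, hv, rfl⟩ := hy
  exact ⟨u * v, by rw [c.mdl.pi_mul]; exact add_mem hu hv, rfl⟩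

include hB

theorem bigU_comm {x y : G} (hx : x ∈ bigU π B) (hy : y ∈ bigU π B) : Commute x y := by
  obtain ⟨u, hu, rfl⟩ := hx
  obtain ⟨v, hv, rfl⟩ := hy
  refine (c.mdl.polar_iff u v).1 ?_
  have h2 := hB.sing _ (show π u + π v ∈ (fixSub B : AddSubgroup V) from add_mem hu hv)
  rw [CfsgLib.LargeFischer.q_add, hB.sing _ hu, hB.sing _ hv] at h2
  simpa using h2

theorem bigU_sq {x : G} (hx : x ∈ bigU π B) : x * x = 1 := by
  obtain ⟨u, hu, rfl⟩ := hx
  exact congrArg (fun y : ↥Q => val y) ((c.mdl.sq u).1 (hB.sing _ hu))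

theorem bigU_nt {x : G} (hx : x ∈ bigU π B) : (nt : G) * x * (nt : G)⁻¹ ∈ bigU π B := by
  obtain ⟨u, hu, rfl⟩ := hx
  obtain ⟨u', e, hp⟩ := c.pi_conj nt u
  exact ⟨u', by rw [hp, d.lift]; exact n_fixB c hB hu, e⟩

theorem bigU_nt2 {x : G} (hx : x ∈ bigU π B) :
    (nt : G) * nt * x * ((nt : G) * nt)⁻¹ ∈ bigU π B := by
  have := bigU_nt c d hB (bigU_nt c d hB hx)
  rwa [show (nt : G) * ((nt : G) * x * (nt : G)⁻¹) * (nt : G)⁻¹ = (nt : G) * nt * x * ((nt : G) * nt)⁻¹ by group] at this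

theorem triple_hom {x y : G} (hx : x ∈ bigU π B) (hy : y ∈ bigU π B) :
    triple (nt : G) (x * y) = triple (nt : G) x * triple (nt : G) y := by
  refine triple_mul _ fun i j hi hj => bigU_comm c d hB ?_ ?_
  · rcases hi with rfl | rfl | rfl
    exacts [by simpa using hx, bigU_nt c d hB hx, bigU_nt2 c d hB hx]
  · rcases hj with rfl | rfl | rfl
    exacts [by simpa using hy, bigU_nt c d hB hy, bigU_nt2 c d hB hy]

theorem triple_cases {x : G} (hx : x ∈ bigU π B) : triple (nt : G) x = 1 ∨ triple (nt : G) x = z := by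
  obtain ⟨u, hu, rfl⟩ := hx
  obtain ⟨u1, e1, p1⟩ := c.pi_conj nt u
  obtain ⟨u2, e2, p2⟩ := c.pi_conj nt u1
  have e : triple (nt : G) (val u) = val (u * u1 * u2) := by
    show _ = val u * val u1 * val u2
    rw [e2, e1, triple]
    group
  rw [e]
  refine (c.mdl.ker _).1 ?_
  rw [c.mdl.pi_mul, c.mdl.pi_mul, p2, p1, d.lift, c.oth.n_sum, vadd_self]

theorem z_bigU : z ∈ bigU π B ∧ triple (nt : G) z = z := by
  obtain ⟨z₀, h, h0⟩ := c.z_val
  refine ⟨⟨z₀, h0 ▸ zero_mem _, h⟩, ?_⟩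
  have e : ∀ w : centralizer ({z} : Set G), (w : G) * z * (w : G)⁻¹ = z := fun w => by
    rw [c.comm_z w, mul_inv_cancel_right]
  rw [triple, e nt, show (nt : G) * nt * z * ((nt : G) * nt)⁻¹ = z from e (nt * nt), c.zz, one_mul]

/-- The complement of the centre in it on which the element of order three has no fixed points. -/
def coreU : Subgroup G where
  carrier := {x | x ∈ bigU π B ∧ triple (nt : G) x = 1}
  mul_mem' := fun {x y} hx hy => ⟨bigU_mul c hx.1 hy.1, by rw [triple_hom c d hB hx.1 hy.1, hx.2, hy.2, one_mul]⟩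
  one_mem' := ⟨⟨1, by rw [c.mdl.pi_one]; exact zero_mem _, rfl⟩, by simp [triple]⟩
  inv_mem' := fun {x} hx => by
    rw [inv_eq_of_mul_eq_one_right (bigU_sq c d hB hx.1)]
    exact hx

theorem mem_coreU {x : G} : x ∈ coreU c d hB ↔ x ∈ bigU π B ∧ triple (nt : G) x = 1 := Iff.rfl

theorem z_not_coreU : z ∉ coreU c d hB := fun h => c.z_ne ((z_bigU c d hB).2.symm.trans h.2)

theorem exists_coreU (v : V) (hv : v ∈ (fixSub B : AddSubgroup V)) :
    ∃ u : ↥Q, π u = v ∧ val u ∈ coreU c d hB := by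
  obtain ⟨u, rfl⟩ := c.mdl.surj v
  have hu : val u ∈ bigU π B := ⟨u, hv, rfl⟩
  rcases triple_cases c d hB hu with h | h
  · exact ⟨u, rfl, hu, h⟩
  · obtain ⟨z₀, hz, h0⟩ := c.z_val
    obtain ⟨hzU, htz⟩ := z_bigU c d hB
    have e : val (u * z₀) = val u * z := (show val (u * z₀) = val u * val z₀ from rfl).trans (congrArg (val u * ·) hz)
    refine ⟨u * z₀, by rw [c.mdl.pi_mul, h0, add_zero], e ▸ bigU_mul c hu hzU, ?_⟩
    rw [e, triple_hom c d hB hu hzU, h, htz, c.zz]

theorem coreU_inj {u u' : ↥Q} (h : val u ∈ coreU c d hB) (h' : val u' ∈ coreU c d hB) (e : π u = π u') :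
    u = u' := by
  rcases c.mdl.pi_eq e with e' | e'
  · exact Subtype.ext (Subtype.ext e'.symm)
  · exfalso
    refine z_not_coreU c d hB ?_
    have := mul_mem (inv_mem h) h'
    rwa [show val u' = val u * z from e', inv_mul_cancel_left] at this

theorem card_coreU : Nat.card ↥(coreU c d hB) = 64 := by
  choose f hf1 hf2 using fun v : ↥(fixSub B : AddSubgroup V) => exists_coreU c d hB v.1 v.2
  rw [← hB.fix64]
  refine (Nat.card_congr (Equiv.ofBijective (fun v => (⟨val (f v), hf2 v⟩ : ↥(coreU c d hB))) ⟨?_, ?_⟩)).symm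
  · intro v w e
    have e' : val (f v) = val (f w) := congrArg (fun y : ↥(coreU c d hB) => (y : G)) e
    rw [Subtype.ext_iff, ← hf1 v, ← hf1 w, show f v = f w from Subtype.ext (Subtype.ext e')]
  · rintro ⟨x, ⟨u, hu, rfl⟩, ht⟩
    refine ⟨⟨π u, hu⟩, Subtype.ext ?_⟩
    show val (f ⟨π u, hu⟩) = val u
    rw [coreU_inj c d hB (hf2 _) (show val u ∈ coreU c d hB from ⟨⟨u, hu, rfl⟩, ht⟩) (hf1 _)]

include hdis

theorem coreU_inf_A : coreU c d hB ⊓ A = ⊥ := by
  rw [eq_bot_iff_forall]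
  rintro x ⟨hx, hA⟩
  obtain ⟨⟨u, hu, rfl⟩, ht⟩ := hx
  have h0 := hdis _ ((c.mem_Q u).1 hA) hu
  rcases (c.mdl.ker u).1 h0 with e | e
  · exact e
  · have h : val u ∈ coreU c d hB := ⟨⟨u, hu, rfl⟩, ht⟩
    rw [show val u = z from e] at h
    exact absurd h (z_not_coreU c d hB)

theorem exists_coreU_mul (x : ↥Q) : ∃ u : ↥Q, val u ∈ coreU c d hB ∧ (val u)⁻¹ * val x ∈ A := by
  let f : ↥(fixSub B : AddSubgroup V) × ↥(fixSub Ab : AddSubgroup V) → V := fun p => p.1 + p.2
  have hf : Function.Injective f := by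
    rintro ⟨a, b⟩ ⟨a', b'⟩ (e : (a : V) + b = a' + b')
    have h : (a : V) + a' = b + b' := eq_of_vadd (by
      calc (a : V) + a' + (b + b') = (a + b) + (a' + b') := by abel
        _ = 0 := by rw [e, vadd_self])
    have h0 := hdis _ (h ▸ add_mem b.2 b'.2 : (a : V) + a' ∈ (fixSub Ab : AddSubgroup V)) (add_mem a.2 a'.2)
    exact Prod.ext (Subtype.ext (eq_of_vadd h0)) (Subtype.ext (eq_of_vadd (h ▸ h0)))
  obtain ⟨⟨a, b⟩, hab⟩ := (hf.bijective_of_nat_card_le (by
    rw [Nat.card_prod, hB.fix64, c.oth.facts.2.1, c.oth.core.cardV]; norm_num)).2 (π x)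
  obtain ⟨u, hu, hu'⟩ := exists_coreU c d hB a.1 a.2
  refine ⟨u, hu', show val (u⁻¹ * x) ∈ A from (c.mem_Q _).2 ?_⟩
  rw [c.mdl.pi_mul, c.mdl.pi_inv, hu, ← hab]
  show (a : V) + (a + b) ∈ _
  rw [← add_assoc, vadd_self, zero_add]
  exact b.2

/-- An element over an involution outside the hexad group, normalising the subgroup of order three, is an
involution. -/
theorem lift_square {w : centralizer ({z} : Set G)} (hwA : (w : G) ∈ Subgroup.normalizer (A : Set G))
    (hw : w ∈ Subgroup.normalizer (zpowers nt : Set _))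
    (hk : QuotientGroup.mk' Q w * QuotientGroup.mk' Q w = 1) (hno : QuotientGroup.mk' Q w ∉ Ab) :
    (w : G) * w = 1 := by
  classical
  rcases norm_Q c d (w := w * w) (by rw [map_mul, hk]) (mul_mem hw hw) with h | hwz
  · exact h
  exfalso
  replace hwz : (w : G) * w = z := hwz
  obtain ⟨ψ, Φ, l⟩ := exists_lab c
  obtain ⟨S, hS, -, -, -, hlast⟩ := l.exists_sextet c
  set σ := ψ ⟨w, hwA⟩ with hσ
  have hσσ : σ * σ = 1 := by
    rw [hσ, ← map_mul, l.ker]
    show (w : G) * w ∈ A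
    rw [hwz]; exact c.z_mem
  have hσM : σ ∈ Cfsg.M24 := l.range ▸ ⟨_, rfl⟩
  obtain ⟨S', hS', hfix', -⟩ := involution_cocode σ hσM hσσ ∅ (dvd_zero _) (by
    rw [Finset.smul_finset_empty, symmDiff_self, Finset.bot_eq_empty]; exact CfsgLib.Golay.empty_mem_supports)
  obtain ⟨g₁, hg₁, e₁⟩ := CfsgLib.M24Cert.sextets_transitive hS
  obtain ⟨g₂, hg₂, e₂⟩ := CfsgLib.M24Cert.sextets_transitive hS'
  obtain ⟨m, hm⟩ : g₁ * g₂⁻¹ ∈ ψ.range := l.range.symm ▸ mul_mem hg₁ (inv_mem hg₂)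
  set g := g₁ * g₂⁻¹
  have hgS : g • S' = S := by rw [← e₂, mul_smul, inv_smul_smul, e₁]
  obtain ⟨x, hx⟩ := hlast (g * σ * g⁻¹) (mul_mem (mul_mem (hm ▸ l.range ▸ ⟨m, rfl⟩) hσM)
      (inv_mem (hm ▸ l.range ▸ ⟨m, rfl⟩)))
    (by rw [show g * σ * g⁻¹ * (g * σ * g⁻¹) = g * (σ * σ) * g⁻¹ by group, hσσ]; group) (fun t ht => by
      rw [← hgS] at ht
      obtain ⟨t', ht', rfl⟩ := Finset.mem_smul_finset.1 ht
      rw [mul_smul, inv_smul_smul, mul_smul, hfix' t' ht'])
  obtain ⟨u, hu, hux⟩ := exists_coreU_mul c d hB hdis x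
  have hu2 : val u * val u = 1 := bigU_sq c d hB hu.1
  -- the involution of the coset
  obtain ⟨a, ha, hinv⟩ : ∃ a ∈ A, a * (w : G) * (a * w) = 1 := by
    have hmem : (m : G) * w * (m : G)⁻¹ * (val u)⁻¹ ∈ A := by
      have h1 : ψ (m * ⟨w, hwA⟩ * m⁻¹ * ⟨val u, c.q_mem_N u⟩⁻¹) = 1 := by
        have hxu : ψ ⟨val x, c.q_mem_N x⟩ = ψ ⟨val u, c.q_mem_N u⟩ := by
          rw [← inv_mul_eq_one, ← map_inv, ← map_mul, l.ker]
          show (val x)⁻¹ * val u ∈ A
          simpa using inv_mem hux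
        rw [map_mul, map_mul, map_mul, map_inv, map_inv, hm, ← hσ, ← hx, hxu, mul_inv_cancel]
      exact (l.ker _).1 h1
    set a₁ := (m : G) * w * (m : G)⁻¹ * (val u)⁻¹ with ha₁
    refine ⟨((m⁻¹ : ↥(Subgroup.normalizer (A : Set G))) : G) * a₁⁻¹ * ((m⁻¹ : ↥(Subgroup.normalizer (A : Set G))) : G)⁻¹, c.conj_mem (m⁻¹ : ↥(Subgroup.normalizer (A : Set G))).2 (inv_mem hmem), ?_⟩
    rw [ha₁]
    have : ((m⁻¹ : ↥(Subgroup.normalizer (A : Set G))) : G) * ((m : G) * w * (m : G)⁻¹ * (val u)⁻¹)⁻¹ * ((m⁻¹ : ↥(Subgroup.normalizer (A : Set G))) : G)⁻¹ * w =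
        (m : G)⁻¹ * val u * (m : G) := by
      rw [Subgroup.coe_inv]; group
    rw [this]
    calc (m : G)⁻¹ * val u * m * ((m : G)⁻¹ * val u * m) = (m : G)⁻¹ * (val u * val u) * m := by group
      _ = 1 := by rw [hu2]; group
  have hwa : (w : G) * a * (w : G)⁻¹ = a * z := by
    have h1 : a * ((w : G) * a * (w : G)⁻¹) * ((w : G) * w) = 1 := by rw [← hinv]; group
    rw [hwz, mul_assoc, mul_eq_one_iff_inv_eq, c.inv ha] at h1
    conv_rhs => rw [h1]
    rw [mul_assoc _ z z, c.zz, mul_one]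
  -- the fixed element
  set t := (nt : G)
  have ht : t ∈ Subgroup.normalizer (A : Set G) := c.nt_N d
  have ht3 : t * t * t = 1 := c.nt_cube d
  set a₁ := t * a * t⁻¹ with ha₁
  set a₂ := t * t * a * (t * t)⁻¹ with ha₂
  have h1A : a₁ ∈ A := c.conj_mem ht ha
  have h2A : a₂ ∈ A := c.conj_mem (mul_mem ht ht) ha
  set a₀ := a * a₁ * a₂ with ha₀
  have ha₀A : a₀ ∈ A := mul_mem (mul_mem ha h1A) h2A
  have ha₀t : t * a₀ = a₀ * t := by
    rw [← mul_inv_eq_iff_eq_mul]
    have : t * a₀ * t⁻¹ = a₁ * a₂ * (t * t * t * a * (t * t * t)⁻¹) := by rw [ha₀, ha₁, ha₂]; group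
    rw [this, ht3, inv_one, mul_one, one_mul, ← c.comm ha (mul_mem h1A h2A), ha₀, ← mul_assoc]
  have hwa₀ : (w : G) * a₀ * (w : G)⁻¹ = a₀ * z := by
    have hzc : ∀ y : centralizer ({z} : Set G), (y : G) * z * (y : G)⁻¹ = z := fun y => by
      rw [c.comm_z y, mul_inv_cancel_right]
    have hpush : ∀ y : centralizer ({z} : Set G), (y : G) * (a * z) * (y : G)⁻¹ = (y : G) * a * (y : G)⁻¹ * z := fun y => by
      rw [show (y : G) * (a * z) * (y : G)⁻¹ = (y : G) * a * (y : G)⁻¹ * ((y : G) * z * (y : G)⁻¹) by group, hzc]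
    have hconj : ∀ y : centralizer ({z} : Set G), (w : G) * ((y : G) * a * (y : G)⁻¹) * (w : G)⁻¹ =
        ((w * y * w⁻¹ : centralizer ({z} : Set G)) : G) * a * ((w * y * w⁻¹ : centralizer ({z} : Set G)) : G)⁻¹ * z := fun y => by
      rw [← hpush, ← hwa]
      simp only [Subgroup.coe_mul, Subgroup.coe_inv]
      group
    have hcs : w * nt * w⁻¹ = nt ∨ w * nt * w⁻¹ = nt * nt := by
      obtain ⟨i, hi⟩ := (isOfFinOrder_of_finite nt).mem_powers_iff_mem_zpowers.2 ((mem_normalizer_iff.1 hw nt).1 (mem_zpowers nt))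
      replace hi : nt ^ i = w * nt * w⁻¹ := hi
      have hord : orderOf nt = 3 := orderOf_eq_prime (by rw [pow_succ, pow_two]; exact d.cube)
        fun e => c.oth.core.n_ne (by rw [← d.lift, e, map_one])
      rw [← pow_mod_orderOf, hord] at hi
      have hlt := Nat.mod_lt i (show 3 > 0 by norm_num)
      interval_cases hh : i % 3
      · exfalso
        rw [pow_zero, eq_comm, mul_inv_eq_one, mul_eq_left] at hi
        rw [hi, orderOf_one] at hord
        omega
      · exact .inl (hi.symm.trans (pow_one _))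
      · exact .inr (hi.symm.trans (pow_two _))
    have e0 : (w : G) * a₀ * (w : G)⁻¹ = (w : G) * a * (w : G)⁻¹ * ((w : G) * a₁ * (w : G)⁻¹) * ((w : G) * a₂ * (w : G)⁻¹) := by
      rw [ha₀]; group
    have e1 : (w : G) * a₁ * (w : G)⁻¹ = ((w * nt * w⁻¹ : centralizer ({z} : Set G)) : G) * a * ((w * nt * w⁻¹ : centralizer ({z} : Set G)) : G)⁻¹ * z := hconj nt
    have e2 : (w : G) * a₂ * (w : G)⁻¹ = ((w * (nt * nt) * w⁻¹ : centralizer ({z} : Set G)) : G) * a * ((w * (nt * nt) * w⁻¹ : centralizer ({z} : Set G)) : G)⁻¹ * z := hconj (nt * nt)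
    have hprod : ∀ p r : G, p ∈ A → r ∈ A → a * z * (p * z) * (r * z) = a * p * r * z := fun p r hp hr => by
      rw [show a * z * (p * z) * (r * z) = a * (z * p) * (z * r) * z by group, c.comm c.z_mem hp, c.comm c.z_mem hr,
        show a * (p * z) * (r * z) * z = a * p * (z * r) * (z * z) by group, c.zz, c.comm c.z_mem hr,
        show a * p * (r * z) * 1 = a * p * r * z by group]
    rw [e0, hwa, e1, e2, show w * (nt * nt) * w⁻¹ = w * nt * w⁻¹ * (w * nt * w⁻¹) by group]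
    rcases hcs with h | h <;> rw [h] <;> simp only [Subgroup.coe_mul]
    · exact hprod a₁ a₂ h1A h2A
    · have e4 : t * t * (t * t) * a * (t * t * (t * t))⁻¹ = a₁ := by
        rw [show t * t * (t * t) = t * t * t * t by group, ht3, one_mul, ha₁]
      show a * z * (a₂ * z) * (t * t * (t * t) * a * (t * t * (t * t))⁻¹ * z) = a₀ * z
      rw [e4, hprod a₂ a₁ h2A h1A, mul_assoc a a₂ a₁, c.comm h2A h1A, ← mul_assoc]
  by_cases hk0 : imK Q a₀ = 1
  · obtain ⟨u₀, hu₀⟩ := (c.imK_eq_one ha₀A).1 hk0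
    have hf := c.mdl.fixed_of_comm (c := nt) (u := u₀) (Subtype.ext (by
      show t * val u₀ = val u₀ * t
      rw [hu₀]; exact ha₀t))
    rw [show (QuotientGroup.mk nt : (centralizer ({z} : Set G)) ⧸ Q) = n from d.lift] at hf
    have hcen : (w : G) * a₀ * (w : G)⁻¹ = a₀ := by
      rcases (c.mdl.ker u₀).1 (c.oth.core.nfix _ hf) with e | e <;> rw [← hu₀, show val u₀ = _ from e]
      · group
      · rw [c.comm_z w, mul_inv_cancel_right]
    exact c.z_ne (mul_eq_left.1 (hwa₀.symm.trans hcen))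
  · obtain ⟨β, ⟨hβ, hβt⟩, -⟩ := c.exists_beta d (c.imK_mem ha₀A) hk0
    have hc := c.fixed_two d hβ.1.1 ha₀A hβ.2 hβt ha₀t
    refine c.no_z_pair hβ.1 (fun h => hk0 (hβ.2 ▸ (c.imK_eq_one hβ.1.1).2 h)) ?_
    have hwβ := c.Ns_conj hwA hβ.1
    suffices (w : G) * β * (w : G)⁻¹ = z * β by rwa [this] at hwβ
    rw [c.comm c.z_mem hβ.1.1]
    rcases hc with e | e
    · rw [← e]; exact hwa₀
    · rw [e, show (w : G) * (β * z) * (w : G)⁻¹ = (w : G) * β * (w : G)⁻¹ * ((w : G) * z * (w : G)⁻¹) by group,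
        c.comm_z w, mul_inv_cancel_right] at hwa₀
      exact mul_right_cancel (hwa₀.trans (by rw [mul_assoc, c.zz, mul_one]))

/-- Elements normalising the subgroup of order three and the second hexad group normalise the complement. -/
theorem coreU_norm {w : centralizer ({z} : Set G)} (hw : w ∈ Subgroup.normalizer (zpowers nt : Set _))
    (hwB : QuotientGroup.mk' Q w ∈ Subgroup.normalizer (B : Set _)) :
    (w : G) ∈ Subgroup.normalizer (coreU c d hB : Set G) := by
  rw [mem_normalizer_iff_map_conj_eq]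
  refine eq_of_le_of_card_ge ?_ (le_of_eq (card_map_of_injective (MulEquiv.injective _)).symm)
  rintro _ ⟨x, ⟨hx, htx⟩, rfl⟩
  obtain ⟨u, hu, rfl⟩ := hx
  obtain ⟨u', e, hp⟩ := c.pi_conj w u
  have hu' : π u' ∈ (fixSub B : AddSubgroup V) := by
    rw [hp]; exact smul_fixSub (fun y hy b hb => (mem_normalizer_iff.1 hy b).1 hb) hwB hu
  show (w : G) * val u * (w : G)⁻¹ ∈ coreU c d hB
  rw [← e]
  refine ⟨⟨u', hu', rfl⟩, ?_⟩
  obtain ⟨i, hi⟩ := (mem_normalizer_iff.1 ((inv_mem hw)) nt).1 (mem_zpowers nt)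
  rw [inv_inv] at hi
  set t := (nt : G)
  have ht : (w : G)⁻¹ * t * w = t ^ i := by
    have := congrArg Subtype.val (show nt ^ i = w⁻¹ * nt * w from hi)
    simpa using this.symm
  have hcan : triple t ((w : G) * val u * (w : G)⁻¹) = (w : G) * triple ((w : G)⁻¹ * t * w) (val u) * (w : G)⁻¹ := by
    simp only [triple]; group
  have ht3 : t ^ (3 : ℤ) = 1 := by
    rw [show (3 : ℤ) = ((3 : ℕ) : ℤ) from rfl, zpow_natCast, pow_succ, pow_two]; exact c.nt_cube d
  have hne : i % 3 ≠ 0 := fun h0 => by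
    obtain ⟨j, rfl⟩ := Int.dvd_of_emod_eq_zero h0
    have h1 : (w : G)⁻¹ * t * w = 1 := by rw [ht, zpow_mul, ht3, one_zpow]
    have h2 : t = 1 := by simpa [mul_assoc] using congrArg (fun y => (w : G) * y * (w : G)⁻¹) h1
    exact c.oth.core.n_ne (by rw [← d.lift, show nt = 1 from Subtype.ext h2, map_one])
  rw [e, hcan, ht, ← Int.emod_add_mul_ediv i 3, zpow_add, zpow_mul, ht3, one_zpow, mul_one]
  have h2 := Int.emod_lt_of_pos i (show (0:ℤ) < 3 by norm_num)
  have h1 := Int.emod_nonneg i (show (3:ℤ) ≠ 0 by norm_num)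
  have key : triple (t ^ (i % 3)) (val u) = 1 := by
    rcases (show i % 3 = 1 ∨ i % 3 = 2 by omega) with h | h <;> rw [h]
    · rwa [zpow_one]
    · rw [zpow_two]
      have hu0 : val u ∈ bigU π B := ⟨u, hu, rfl⟩
      have hc' := bigU_comm c d hB (bigU_nt c d hB hu0) (bigU_nt2 c d hB hu0)
      rw [← htx, triple, triple, show t * t * (t * t) = t * t * t * t by group, c.nt_cube d, one_mul,
        mul_assoc, ← hc'.eq, ← mul_assoc]
  rw [key]; group

/-- A subgroup of order `2 ^ 10` meeting the elementary group trivially. -/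
theorem exists_two_complement {a b k : (centralizer ({z} : Set G)) ⧸ Q}
    (hprop : ∀ x ∈ ({a, b, k} : Set _), x * x = 1 ∧ x ∈ Subgroup.normalizer (Ab : Set _) ∧ x ∈ Subgroup.normalizer (B : Set _))
    (hak : a * k * (a * k) = 1) (hbk : b * k * (b * k) = 1) (hab : (a * b) ^ 4 = 1)
    (h16 : Nat.card ↥(Subgroup.closure ({a, b, k} : Set _)) = 16)
    (hW : Subgroup.closure ({a, b, k} : Set _) ⊓ Ab = ⊥) :
    ∃ X : Subgroup G, X ≤ Subgroup.normalizer (A : Set G) ∧ A ⊓ X = ⊥ ∧ Nat.card ↥X = 2 ^ 10 := by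
  classical
  set W := Subgroup.closure ({a, b, k} : Set ((centralizer ({z} : Set G)) ⧸ Q))
  have hWN : W ≤ Subgroup.normalizer (Ab : Set _) := (closure_le _).2 fun x hx => (hprop x hx).2.1
  set L := Subgroup.normalizer (zpowers nt : Set ↥(centralizer ({z} : Set G)))
  have key : ∀ w : centralizer ({z} : Set G), w ∈ L → QuotientGroup.mk' Q w ∈ W →
      QuotientGroup.mk' Q w * QuotientGroup.mk' Q w = 1 → w * w = 1 := by
    intro w hw hwW h2
    refine Subtype.ext (show (w : G) * w = 1 from ?_)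
    by_cases h1 : QuotientGroup.mk' Q w = 1
    · rcases norm_Q c d h1 hw with e | e <;> rw [e]
      · rw [one_mul]
      · exact c.zz
    · exact lift_square c d hB hdis (c.mem_N_iff.2 (hWN hwW)) hw h2 fun h => h1 (by
        rw [← Subgroup.mem_bot, ← hW]; exact ⟨hwW, h⟩)
  obtain ⟨a', ha', haL⟩ := exists_norm_lift c d a
  obtain ⟨b', hb', hbL⟩ := exists_norm_lift c d b
  obtain ⟨k', hk', hkL⟩ := exists_norm_lift c d k
  have haW : a ∈ W := subset_closure (by simp)
  have hbW : b ∈ W := subset_closure (by simp)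
  have hkW : k ∈ W := subset_closure (by simp)
  have sa := key a' haL (ha'.symm ▸ haW) (ha'.symm ▸ (hprop a (by simp)).1)
  have sb := key b' hbL (hb'.symm ▸ hbW) (hb'.symm ▸ (hprop b (by simp)).1)
  have sk := key k' hkL (hk'.symm ▸ hkW) (hk'.symm ▸ (hprop k (by simp)).1)
  have sak := key (a' * k') (mul_mem haL hkL) (by rw [map_mul, ha', hk']; exact mul_mem haW hkW)
    (by rw [map_mul, ha', hk', hak])
  have sbk := key (b' * k') (mul_mem hbL hkL) (by rw [map_mul, hb', hk']; exact mul_mem hbW hkW)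
    (by rw [map_mul, hb', hk', hbk])
  have sab : (a' * b') ^ 4 = 1 := by
    have h := key ((a' * b') ^ 2) (pow_mem (mul_mem haL hbL) 2) (by rw [map_pow, map_mul, ha', hb']; exact pow_mem (mul_mem haW hbW) 2)
      (by rw [map_pow, map_mul, ha', hb', ← pow_add]; exact hab)
    rwa [← pow_add] at h
  set D := Subgroup.closure ({a', b', k'} : Set ↥(centralizer ({z} : Set G))) with hD
  have hDle : Nat.card ↥D ≤ 16 := card_closure_three sa sb sk sab sak sbk
  have himg : D.map (QuotientGroup.mk' Q) = W := by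
    rw [hD, MonoidHom.map_closure, Set.image_insert_eq, Set.image_pair, ha', hb', hk']
  let f : ↥D → ↥W := fun x => ⟨QuotientGroup.mk' Q x, himg ▸ ⟨x, x.2, rfl⟩⟩
  have hfs : Function.Surjective f := by
    rintro ⟨y, hy⟩
    obtain ⟨x, hx, rfl⟩ := (himg ▸ hy : y ∈ D.map (QuotientGroup.mk' Q))
    exact ⟨⟨x, hx⟩, rfl⟩
  have hfb := hfs.bijective_of_nat_card_le (by rw [h16]; exact hDle)
  have hcD : Nat.card ↥D = 16 := (Nat.card_eq_of_bijective f hfb).trans h16
  have hD1 : ∀ x ∈ D, QuotientGroup.mk' Q x = 1 → x = 1 := fun x hx e =>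
    congrArg Subtype.val (hfb.1 (a₁ := ⟨x, hx⟩) (a₂ := 1) (Subtype.ext (e.trans (map_one _).symm)))
  set D' := D.map (centralizer ({z} : Set G)).subtype
  set U := coreU c d hB
  have hDB : D ≤ L := (closure_le _).2 (by rintro x (rfl | rfl | rfl) <;> assumption)
  have hDU : D' ≤ Subgroup.normalizer (U : Set G) := by
    rintro _ ⟨x, hx, rfl⟩
    exact coreU_norm c d hB hdis (hDB hx)
      ((closure_le _).2 (fun y hy => (hprop y hy).2.2) (himg ▸ ⟨x, hx, rfl⟩ : QuotientGroup.mk' Q x ∈ W))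
  have hUN : U ≤ Subgroup.normalizer (A : Set G) := by
    rintro _ ⟨⟨u, -, rfl⟩, -⟩; exact c.q_mem_N u
  have hDN : D' ≤ Subgroup.normalizer (A : Set G) := by
    rintro _ ⟨x, hx, rfl⟩
    exact c.mem_N_iff.2 (hWN (himg ▸ ⟨x, hx, rfl⟩))
  have hUD : U ⊓ D' = ⊥ := by
    rw [eq_bot_iff_forall]
    rintro _ ⟨⟨⟨u, -, e⟩, -⟩, x, hx, rfl⟩
    rw [hD1 x hx (by
      rw [show x = (u : centralizer ({z} : Set G)) from Subtype.ext e.symm]
      exact (QuotientGroup.eq_one_iff _).2 u.2), map_one]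
  refine ⟨U ⊔ D', sup_le hUN hDN, ?_, ?_⟩
  · rw [eq_bot_iff_forall]
    intro y ⟨hyA, hy⟩
    have hy' : y ∈ (↑(U ⊔ D') : Set G) := hy
    rw [Subgroup.coe_mul_of_right_le_normalizer_left U D' hDU] at hy'
    obtain ⟨p, hp, r, ⟨x, hx, rfl⟩, rfl⟩ := hy'
    obtain ⟨⟨u, -, rfl⟩, -⟩ := (id hp : p ∈ U)
    have hxAb : QuotientGroup.mk' Q x ∈ Ab := by
      have := c.imK_mem hyA
      change imK Q (val u * (x : G)) ∈ Ab at this
      rwa [imK_mul (u : centralizer ({z} : Set G)).2 x.2, imK_val, one_mul, imK_coe] at this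
    have hx1 : x = 1 := hD1 x hx (by rw [← Subgroup.mem_bot, ← hW]; exact ⟨himg ▸ ⟨x, hx, rfl⟩, hxAb⟩)
    subst hx1
    simp only [map_one, mul_one] at hyA ⊢
    rw [← Subgroup.mem_bot, ← coreU_inf_A c d hB hdis]
    exact ⟨hp, hyA⟩
  · rw [card_sup_disjoint hDU hUD, card_coreU c d hB,
      show Nat.card ↥D' = Nat.card ↥D from card_map_of_injective (subtype_injective _), hcD]
    norm_num

end Main

/-- The normaliser splits over the elementary group. -/
theorem exists_complement (c : Ctx Q q π n M φ s A Ab) (hS : SplitData q n M s Ab) :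
    ∃ K : Subgroup G, K ≤ Subgroup.normalizer (A : Set G) ∧ K ⊓ A = ⊥ ∧ K ⊔ A = Subgroup.normalizer (A : Set G) := by
  classical
  obtain ⟨B, a, b, k, hB, hdis, hprop, hak, hbk, hab, h16, hW⟩ := hS
  obtain ⟨T, nt, d⟩ := c.exists_six
  obtain ⟨X, hXN, hAX, hX⟩ := exists_two_complement c d hB hdis hprop hak hbk hab h16 hW
  set N := Subgroup.normalizer (A : Set G) with hN
  have hAN : A ≤ N := le_normalizer
  haveI : (A.subgroupOf N).Normal := normal_in_normalizer
  set U := (A ⊔ X).subgroupOf N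
  have hidx : U.index = 1771 * 135 := by
    have h := U.card_mul_index
    rw [Nat.card_congr (subgroupOfEquivOfLe (sup_le hAN hXN)).toEquiv, card_sup_disjoint hXN hAX, c.card, hX,
      ← c.orbit_stab, c.Zs_facts.1] at h
    omega
  obtain ⟨H, hH⟩ := CfsgLib.Solvable.gaschutz_exists (A.subgroupOf N) U
    (fun x hx y hy => Subtype.ext (c.comm hx hy))
    (fun x hx => (le_sup_left : A ≤ A ⊔ X) hx)
    (by
      rw [hidx, Nat.card_congr (subgroupOfEquivOfLe hAN).toEquiv, c.card]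
      exact Nat.Coprime.pow_left 11 (by norm_num))
    (X.subgroupOf N) (fun x hx => (le_sup_right : X ≤ A ⊔ X) hx)
    (by
      rw [eq_bot_iff_forall]
      intro x hx
      exact Subtype.ext (by
        rw [Subgroup.coe_one, ← Subgroup.mem_bot, ← hAX]
        exact ⟨hx.2, hx.1⟩))
    (subgroupOf_sup hAN hXN).symm
  refine ⟨H.map N.subtype, map_subtype_le H, ?_, ?_⟩
  · rw [eq_bot_iff_forall]
    rintro _ ⟨⟨x, hx, rfl⟩, hA⟩
    exact congrArg Subtype.val (Subgroup.disjoint_def.1 hH.disjoint (show x ∈ A.subgroupOf N from hA) hx)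
  · conv_lhs => rw [show A = (A.subgroupOf N).map N.subtype from (map_subgroupOf_eq_of_le hAN).symm]
    rw [← Subgroup.map_sup, sup_comm, hH.sup_eq_top, ← MonoidHom.range_eq_map, range_subtype]

end CfsgLib.JankoFour
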