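import Cfsg.Agent.Lib.JankoFour.Model
import Cfsg.Agent.Lib.Cores.Basic
import Cfsg.Agent.Lib.MathieuOut.Outer
import Cfsg.Agent.Lib.Golay.Spor
import Cfsg.Agent.S3300

/-!
# Janko-four type: from the hypothesis to the model on the chart
-/

set_option autoImplicit false
set_option linter.unusedSectionVars false
set_option linter.style.haveILetI false

namespace CfsgLib.JankoFour

open Subgroup QuadraticMap Cfsg CfsgLib.LargeExtra
open CfsgLib.LargeFischer (z2_cases vadd_self eq_of_vadd q_add)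

variable {G : Type*} [Group G] [Finite G]

/-- The largest normal 2-subgroup of the centraliser, inside the centraliser. -/
abbrev core2 (z : G) : Subgroup ↥(centralizer ({z} : Set G)) := pCore 2 ↥(centralizer ({z} : Set G))

instance core2_normal (z : G) : (core2 z).Normal := by
  have := CfsgLib.Cores.pCore_characteristic (G := ↥(centralizer ({z} : Set G))) 2
  infer_instance

/-- The chart of `Q` modulo `⟨z⟩` with the action of the centraliser of `z` modulo `Q`. -/
structure ChartModel (z : G) (Q : Subgroup (centralizer ({z} : Set G))) [Q.Normal] {V : Type*} [AddCommGroup V]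
    [Module (ZMod 2) V] [DistribMulAction ((centralizer ({z} : Set G)) ⧸ Q) V] [Finite V]
    (q : QuadraticForm (ZMod 2) V) (π : ↥Q → V) : Prop where
  isom : ∀ (k : (centralizer ({z} : Set G)) ⧸ Q) (v : V), q (k • v) = q v
  faithful : ∀ k : (centralizer ({z} : Set G)) ⧸ Q, (∀ v : V, k • v = v) → k = 1
  nondeg : ∀ v, (∀ w, polar q v w = 0) → v = 0
  cardV : Nat.card V = 2 ^ 12
  pi_mul : ∀ x y, π (x * y) = π x + π y
  surj : Function.Surjective π
  ker : ∀ x : ↥Q, π x = 0 ↔ ((x : centralizer ({z} : Set G)) : G) = 1 ∨ ((x : centralizer ({z} : Set G)) : G) = z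
  sq : ∀ x : ↥Q, q (π x) = 0 ↔ x * x = 1
  equiv : ∀ (c : centralizer ({z} : Set G)) (x : ↥Q),
    (QuotientGroup.mk c : (centralizer ({z} : Set G)) ⧸ Q) • π x = π (MulAut.conjNormal c x)

/-- The conditions on the extraspecial core alone. -/
structure CoreHyp (z : G) : Prop where
  ord : orderOf z = 2
  extra : IsExtraspecial 2 ↥(twoCoreOfCentralizer z)
  card : Nat.card ↥(twoCoreOfCentralizer z) = 2 ^ 13
  self : centralizer ({z} : Set G) ⊓ centralizer (twoCoreOfCentralizer z : Set G) ≤ twoCoreOfCentralizer z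

theorem coreHyp_of {z : G} {P : Subgroup G} (h : IsOfJankoFourTypeWith z P) : CoreHyp z :=
  ⟨h.1, h.2.1, h.2.2.1, h.2.2.2.1⟩

namespace CoreHyp

variable {z : G} (h : CoreHyp z)

include h

theorem card_core : Nat.card ↥(core2 z) = 2 ^ 13 := by
  rw [← h.card, twoCoreOfCentralizer, card_map_of_injective (subtype_injective _)]

theorem extra_core : IsExtraspecial 2 ↥(core2 z) :=
  isExtraspecial_of_mulEquiv
    ((core2 z).equivMapOfInjective (centralizer ({z} : Set G)).subtype (subtype_injective _)).symm h.extra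

theorem z_mem : z ∈ twoCoreOfCentralizer z :=
  h.self (mem_inf.2 ⟨mem_centralizer_singleton_iff.2 rfl, mem_centralizer_iff.2 fun _ hy =>
    mem_centralizer_singleton_iff.1 (map_subtype_le _ hy)⟩)

theorem cent_core {c : G} (hc : c ∈ centralizer (twoCoreOfCentralizer z : Set G)) : c ∈ twoCoreOfCentralizer z :=
  h.self (mem_inf.2 ⟨mem_centralizer_singleton_iff.2 ((mem_centralizer_iff.1 hc z h.z_mem).symm), hc⟩)

theorem centre_eq : (center ↥(twoCoreOfCentralizer z)).map (twoCoreOfCentralizer z).subtype = zpowers z := by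
  have hzc : (⟨z, h.z_mem⟩ : ↥(twoCoreOfCentralizer z)) ∈ center ↥(twoCoreOfCentralizer z) :=
    mem_center_iff.2 fun y => Subtype.ext (mem_centralizer_singleton_iff.1 (map_subtype_le _ y.2))
  refine (eq_of_le_of_card_ge (K := (center ↥(twoCoreOfCentralizer z)).map (twoCoreOfCentralizer z).subtype)
    (zpowers_le.2 (show z ∈ (center ↥(twoCoreOfCentralizer z)).map (twoCoreOfCentralizer z).subtype from ⟨_, hzc, rfl⟩)) ?_).symm
  rw [card_map_of_injective (twoCoreOfCentralizer z).subtype_injective, h.extra.2, Nat.card_zpowers, h.ord]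

theorem cent_eq : centralizer (twoCoreOfCentralizer z : Set G) =
    (center ↥(twoCoreOfCentralizer z)).map (twoCoreOfCentralizer z).subtype := by
  refine le_antisymm (fun c hc => ?_) ?_
  · exact ⟨⟨c, h.cent_core hc⟩, mem_center_iff.2 fun y => Subtype.ext (mem_centralizer_iff.1 hc y y.2), rfl⟩
  · rintro _ ⟨c, hc, rfl⟩
    exact mem_centralizer_iff.2 fun y hy => congrArg Subtype.val (mem_center_iff.1 hc ⟨y, hy⟩)

theorem le_normalizer : centralizer ({z} : Set G) ≤ normalizer (twoCoreOfCentralizer z : Set G) := by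
  haveI : ((twoCoreOfCentralizer z).subgroupOf (centralizer ({z} : Set G))).Normal := by
    have e : (twoCoreOfCentralizer z).subgroupOf (centralizer ({z} : Set G)) = core2 z :=
      comap_map_eq_self_of_injective (subtype_injective _) _
    rw [e]
    exact core2_normal z
  exact (normal_subgroupOf_iff_le_normalizer
    (show twoCoreOfCentralizer z ≤ centralizer ({z} : Set G) from map_subtype_le _)).1 inferInstance

/-- A conjugate of `z` in the core other than `z` gives a pair. -/
theorem pairHyp {g : G} (hmem : g * z * g⁻¹ ∈ twoCoreOfCentralizer z) (hne : g * z * g⁻¹ ≠ z) :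
    PairHyp (twoCoreOfCentralizer z) z g :=
  ⟨h.extra, h.centre_eq, h.ord, h.cent_eq, h.le_normalizer, hmem, hne⟩

theorem exists_chartModel_of_chart {ι : Type} [Fintype ι] [DecidableEq ι] (hι : Fintype.card ι = 12)
    (q : QuadraticForm (ZMod 2) (ι → ZMod 2)) {z₀ : ↥(core2 z)} (hz₀ : z₀ ∈ center ↥(core2 z))
    (hz₀z : ((z₀ : centralizer ({z} : Set G)) : G) = z) (C : OutExtra.Chart ↥(core2 z) (⇑q) z₀) :
    ∃ (_ : DistribMulAction ((centralizer ({z} : Set G)) ⧸ core2 z) (ι → ZMod 2)) (π : ↥(core2 z) → ι → ZMod 2),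
      ChartModel z (core2 z) q π := by
  classical
  have hQ := h.extra_core
  have hfix : ∀ c : centralizer ({z} : Set G), c * (z₀ : centralizer ({z} : Set G)) * c⁻¹ = z₀ := fun c => by
    refine Subtype.ext ?_
    show (c : G) * ((z₀ : centralizer ({z} : Set G)) : G) * (c : G)⁻¹ = _
    rw [hz₀z, mem_centralizer_singleton_iff.1 c.2, mul_inv_cancel_right]
  have hself : ∀ c : centralizer ({z} : Set G), (∀ x ∈ (core2 z), c * x = x * c) → c ∈ (core2 z) := fun c hc => by
    have h1 : (c : G) ∈ twoCoreOfCentralizer z := h.cent_core (mem_centralizer_iff.2 fun y hy => by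
      obtain ⟨x, hx, rfl⟩ := hy
      exact (congrArg Subtype.val (hc x hx)).symm)
    obtain ⟨x, hx, hxc⟩ := h1
    rwa [← show x = c from Subtype.ext hxc]
  obtain ⟨ρ, hker, hρ⟩ := CfsgLib.LargeFischer.chart_action q (core2 z) hQ hz₀ hfix hself C
  let ρ' : (centralizer ({z} : Set G)) ⧸ (core2 z) →* CfsgLib.Classical.qAut q := QuotientGroup.lift (core2 z) ρ hker.ge
  letI inst : DistribMulAction ((centralizer ({z} : Set G)) ⧸ (core2 z)) (ι → ZMod 2) :=
    { smul := fun c v => (ρ' c).1 v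
      one_smul := fun v => by show (ρ' 1).1 v = v; rw [map_one]; rfl
      mul_smul := fun a b v => by show (ρ' (a * b)).1 v = _; rw [map_mul]; rfl
      smul_zero := fun a => map_zero (ρ' a).1
      smul_add := fun a u v => map_add (ρ' a).1 u v }
  have hsmul : ∀ (c : centralizer ({z} : Set G)) (v : ι → ZMod 2),
      (QuotientGroup.mk c : (centralizer ({z} : Set G)) ⧸ (core2 z)) • v = (ρ c).1 v := fun c v => rfl
  have hqadd : ∀ a b : ↥(core2 z), a * b = b * a → polar q (C.π a) (C.π b) = 0 := by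
    intro a b hab
    rcases z2_cases (polar q (C.π a) (C.π b)) with h | h
    · exact h
    exfalso
    have e1 : a * b * (a * b) = (a * a) * (b * b) := by
      rw [mul_assoc, ← mul_assoc b, ← hab]; group
    rw [C.sq_eq, C.sq_eq, C.sq_eq, C.pi_mul, q_add, h] at e1
    have hzz := C.z_sq
    have hz1 := C.z_ne
    rcases z2_cases (q (C.π a)) with h1 | h1 <;> rcases z2_cases (q (C.π b)) with h2 | h2 <;>
      simp [h1, h2, hzz, show (1 : ZMod 2) + 1 = 0 from rfl] at e1
    all_goals first | exact hz1 e1 | exact hz1 e1.symm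
  have hnd : ∀ v, (∀ w, polar q v w = 0) → v = 0 := by
    intro v hv
    obtain ⟨a, rfl⟩ := C.surj v
    have hc : ∀ b : ↥(core2 z), b * a = a * b := by
      intro b
      have e1 : a * b * (a * b) = (a * a) * (b * b) := by
        rw [C.sq_eq (a * b), C.sq_eq a, C.sq_eq b, C.pi_mul, q_add, hv (C.π b), add_zero]
        have hzz := C.z_sq
        rcases z2_cases (q (C.π a)) with h1 | h1 <;> rcases z2_cases (q (C.π b)) with h2 | h2 <;>
          simp [h1, h2, hzz, show (1 : ZMod 2) + 1 = 0 from rfl]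
      calc b * a = a⁻¹ * (a * b * (a * b)) * b⁻¹ := by group
        _ = a * b := by rw [e1]; group
    exact (C.ker_iff a).2 (C.center_le hQ hz₀ a (mem_center_iff.2 hc))
  refine ⟨inst, C.π, ⟨?_, ?_, hnd, ?_, C.pi_mul, C.surj, ?_, ?_, ?_⟩⟩
  · intro c v
    obtain ⟨c, rfl⟩ := QuotientGroup.mk_surjective c
    rw [hsmul]
    exact (ρ c).2 v
  · intro c hc
    obtain ⟨c, rfl⟩ := QuotientGroup.mk_surjective c
    rw [QuotientGroup.eq_one_iff, ← hker, MonoidHom.mem_ker]
    exact CfsgLib.Classical.qAut_ext fun v => (hsmul c v).symm.trans (hc v)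
  · rw [Nat.card_fun, Nat.card_zmod, Nat.card_eq_fintype_card (α := ι), hι]
  · intro x
    rw [C.ker_iff]
    refine or_congr ?_ ?_
    · exact ⟨fun e => by rw [e]; rfl, fun e => Subtype.ext (Subtype.ext e)⟩
    · exact ⟨fun e => by rw [e, hz₀z], fun e => Subtype.ext (Subtype.ext (e.trans hz₀z.symm))⟩
  · intro x
    rw [C.sq_eq]
    rcases z2_cases (q (C.π x)) with e | e <;> simp [e, C.z_ne]
  · intro c x
    rw [hsmul, hρ]

theorem exists_chartModel :
    ∃ (ι : Type) (_ : Fintype ι) (q : QuadraticForm (ZMod 2) (ι → ZMod 2))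
      (_ : DistribMulAction ((centralizer ({z} : Set G)) ⧸ core2 z) (ι → ZMod 2)) (π : ↥(core2 z) → ι → ZMod 2),
      ChartModel z (core2 z) q π := by
  classical
  have hQ := h.extra_core
  obtain ⟨x, hx, hxz⟩ := h.z_mem
  have hzc : (⟨x, hx⟩ : ↥(core2 z)) ∈ center ↥(core2 z) := mem_center_iff.2 fun y => by
    refine Subtype.ext (Subtype.ext ?_)
    show ((y : centralizer ({z} : Set G)) : G) * (x : G) = (x : G) * _
    rw [show (x : G) = z from hxz]
    exact mem_centralizer_singleton_iff.1 (y : centralizer ({z} : Set G)).2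
  obtain ⟨z₀, hz₀, hch⟩ := OutExtra.exists_chart hQ 5 (by rw [h.card_core])
  obtain ⟨w, -, -, hwc⟩ := exists_centre_gen hQ
  have hz1 : z ≠ 1 := fun e => by have := h.ord; rw [e, orderOf_one] at this; omega
  have hz₀z : ((z₀ : centralizer ({z} : Set G)) : G) = z := by
    have hz₀1 : z₀ ≠ 1 := by rcases hch with h | h <;> obtain ⟨C⟩ := h <;> exact C.z_ne
    have h2 : (⟨x, hx⟩ : ↥(core2 z)) ≠ 1 := fun e => hz1 (hxz.symm.trans
      (congrArg (fun y : ↥(core2 z) => ((y : centralizer ({z} : Set G)) : G)) e))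
    rw [(hwc _ hz₀).resolve_left hz₀1, ← (hwc _ hzc).resolve_left h2]
    exact hxz
  rcases hch with hc | hc <;> obtain ⟨C⟩ := hc
  · obtain ⟨i, π, hm⟩ := h.exists_chartModel_of_chart (by simp) _ hz₀ hz₀z C
    exact ⟨_, inferInstance, _, i, π, hm⟩
  · obtain ⟨i, π, hm⟩ := h.exists_chartModel_of_chart (by simp) _ hz₀ hz₀z C
    exact ⟨_, inferInstance, _, i, π, hm⟩

end CoreHyp


/-- A simple group with an element of order three has no proper 2-quotient. -/
theorem residual_eq_top [IsSimpleGroup G] {y : G} (hy : orderOf y = 3) : pResidual 2 G = ⊤ := by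
  have hle : normalClosure ({y} : Set G) ≤ pResidual 2 G := by
    rw [normalClosure, closure_le]
    intro x hx
    refine subset_closure ?_
    obtain ⟨w, hw, hxw⟩ := Group.mem_conjugatesOfSet_iff.1 hx
    rw [Set.mem_singleton_iff] at hw
    obtain ⟨g, hg⟩ := isConj_iff.1 hxw
    show Nat.Coprime (orderOf x) 2
    rw [← hg, hw, ← MulAut.conj_apply, MulEquiv.orderOf_eq, hy]
    decide
  rcases IsSimpleGroup.eq_bot_or_eq_top_of_normal (normalClosure ({y} : Set G)) normalClosure_normal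
    with h | h
  · have hy1 : y ∈ normalClosure ({y} : Set G) := subset_normalClosure rfl
    rw [h, mem_bot] at hy1
    rw [hy1, orderOf_one] at hy
    omega
  · exact top_unique (h ▸ hle)

/-- The inner automorphisms of `M₂₂` have index two. -/
theorem index_inn_M22 : (Cfsg.Inn ↥Cfsg.Spor.M22).index = 2 := CfsgLib.MathieuOut.out_M22

/-- The centraliser of `z` has a normal subgroup of index two. -/
theorem exists_index_two {z : G} {P : Subgroup G} (h : IsOfJankoFourTypeWith z P) :
    ∃ K : Subgroup ↥(centralizer ({z} : Set G)), K.index = 2 ∧ core2 z ≤ K := by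
  obtain ⟨N, hEN, -, -, -, ⟨hn, ⟨e⟩⟩, -⟩ := h.2.2.2.2.1
  haveI := hn
  let f : ↥(centralizer ({z} : Set G)) →* MulAut ↥Cfsg.Spor.M22 :=
    e.toMonoidHom.comp (QuotientGroup.mk' (N.subgroupOf (centralizer ({z} : Set G))))
  have hf : Function.Surjective f := e.surjective.comp (QuotientGroup.mk'_surjective _)
  refine ⟨(Cfsg.Inn ↥Cfsg.Spor.M22).comap f, ?_, ?_⟩
  · rw [index_comap_of_surjective _ hf, index_inn_M22]
  · intro x hx
    have hxN : x ∈ N.subgroupOf (centralizer ({z} : Set G)) := mem_subgroupOf.2 (hEN ⟨x, hx, rfl⟩)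
    rw [mem_comap]
    show e (QuotientGroup.mk x) ∈ _
    rw [(QuotientGroup.eq_one_iff x).2 hxN, map_one]
    exact one_mem _

/-- The central involution has a conjugate in the core other than itself. -/
theorem exists_fused [IsSimpleGroup G] {z : G} {P : Subgroup G} (h : IsOfJankoFourTypeWith z P) :
    ∃ g : G, PairHyp (twoCoreOfCentralizer z) z g := by
  have hc := coreHyp_of h
  obtain ⟨y, hy⟩ : ∃ y : G, orderOf y = 3 := by
    haveI := Fact.mk Nat.prime_three
    obtain ⟨y, hy⟩ := exists_prime_orderOf_dvd_card' (G := ↥P) 3 (by rw [h.2.2.2.2.2.1])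
    exact ⟨y, by rw [Subgroup.orderOf_coe, hy]⟩
  obtain ⟨K, hK, -⟩ := exists_index_two h
  haveI hKn : K.Normal := normal_of_index_eq_two hK
  have hKH : K.map (centralizer ({z} : Set G)).subtype ≤ centralizer ({z} : Set G) := map_subtype_le _
  have hnorm : ∀ c ∈ centralizer ({z} : Set G),
      (K.map (centralizer ({z} : Set G)).subtype).map (MulAut.conj c).toMonoidHom =
        K.map (centralizer ({z} : Set G)).subtype := by
    intro c hcc
    refine le_antisymm ?_ ?_
    · rintro _ ⟨_, ⟨k, hk, rfl⟩, rfl⟩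
      exact ⟨⟨c, hcc⟩ * k * ⟨c, hcc⟩⁻¹, hKn.conj_mem k hk _, rfl⟩
    · rintro _ ⟨k, hk, rfl⟩
      refine ⟨_, ⟨⟨c, hcc⟩⁻¹ * k * ⟨c, hcc⟩, ?_, rfl⟩, ?_⟩
      · simpa using hKn.conj_mem k hk (⟨c, hcc⟩⁻¹)
      · simp [mul_assoc]
  have hrel : (K.map (centralizer ({z} : Set G)).subtype).relIndex (centralizer ({z} : Set G)) = 2 := by
    rw [relIndex, subgroupOf, comap_map_eq_self_of_injective (subtype_injective _), hK]
  obtain ⟨g, hg1, hg2⟩ := Cfsg.Agent.S3300.result (residual_eq_top hy) z hc.ord (twoCoreOfCentralizer z) rfl hc.extra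
    (fun c hcc => hc.cent_core hcc) 6 (by norm_num) (by rw [hc.card])
    (K.map (centralizer ({z} : Set G)).subtype) hKH hnorm hrel
  exact ⟨g, hc.pairHyp hg1 hg2⟩


/-- The inner automorphisms of `M₂₂` as a copy of `M₂₂`. -/
theorem exists_inn_equiv : ∃ e : ↥(Cfsg.Inn ↥Cfsg.Spor.M22) →* ↥Cfsg.Spor.M22, Function.Bijective e := by
  haveI := CfsgLib.Golay.sporM22_simple
  have hinj : Function.Injective (MulAut.conj : ↥Cfsg.Spor.M22 →* MulAut ↥Cfsg.Spor.M22) := by
    rw [← MonoidHom.ker_eq_bot_iff]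
    rcases IsSimpleGroup.eq_bot_or_eq_top_of_normal _ (MonoidHom.normal_ker
      (MulAut.conj : ↥Cfsg.Spor.M22 →* MulAut ↥Cfsg.Spor.M22)) with e | e
    · exact e
    · exfalso
      have hc : ∀ a b : ↥Cfsg.Spor.M22, a * b = b * a := fun a b => by
        have h1 : MulAut.conj a b = b := by
          rw [MonoidHom.mem_ker.1 (e ▸ mem_top a)]; rfl
        rw [MulAut.conj_apply] at h1
        exact mul_inv_eq_iff_eq_mul.1 h1
      letI : CommGroup ↥Cfsg.Spor.M22 := { (inferInstance : Group ↥Cfsg.Spor.M22) with mul_comm := hc }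
      have hp := IsSimpleGroup.prime_card (α := ↥Cfsg.Spor.M22)
      rw [CfsgLib.Golay.card_sporM22] at hp
      exact absurd hp (by norm_num)
  exact ⟨(MonoidHom.ofInjective hinj).symm.toMonoidHom, (MonoidHom.ofInjective hinj).symm.bijective⟩

/-- The automizer of the core: the subgroup of order three, the subgroup of index two and its map onto `M₂₂`. -/
theorem exists_core {z : G} {P : Subgroup G} (h : IsOfJankoFourTypeWith z P) {V : Type*} [AddCommGroup V]
    [Module (ZMod 2) V] [DistribMulAction ((centralizer ({z} : Set G)) ⧸ core2 z) V] [Finite V]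
    {q : QuadraticForm (ZMod 2) V} {π : ↥(core2 z) → V} (m : ChartModel z (core2 z) q π) :
    ∃ (n : (centralizer ({z} : Set G)) ⧸ core2 z) (M : Subgroup ((centralizer ({z} : Set G)) ⧸ core2 z))
      (φ : ↥M →* ↥Cfsg.Spor.M22), Core q n M φ ∧
        ∃ p : centralizer ({z} : Set G), (p : G) ∈ P ∧ QuotientGroup.mk p = n := by
  classical
  have hc := coreHyp_of h
  obtain ⟨-, -, -, -, ⟨N, hEN, hNH, -, hNcard, ⟨hNn, ⟨e⟩⟩, hPN⟩, hPcard, hfixP, hne, hPC⟩ := h
  haveI := hNn
  haveI := Fact.mk Nat.prime_three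
  set C := centralizer ({z} : Set G) with hC
  set mk := QuotientGroup.mk' (core2 z) with hmk
  set N' := N.subgroupOf C with hN'
  have hQN : core2 z ≤ N' := fun x hx => mem_subgroupOf.2 (hEN ⟨x, hx, rfl⟩)
  have hQcard := hc.card_core
  have hN'card : Nat.card ↥N' = 3 * Nat.card ↥(core2 z) := by
    rw [hN', Nat.card_congr (subgroupOfEquivOfLe hNH).toEquiv, hNcard, hc.card, hQcard]
  -- the element of order three
  obtain ⟨p₀, hp₀⟩ := exists_prime_orderOf_dvd_card' (G := ↥P) 3 (by rw [hPcard])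
  let p : ↥C := ⟨p₀, hNH (hPN p₀.2)⟩
  have hp3 : orderOf p = 3 := by
    rw [← Subgroup.orderOf_coe]
    show orderOf (p₀ : G) = 3
    rw [Subgroup.orderOf_coe]; exact hp₀
  have hPp : ∀ y ∈ P, y ∈ zpowers (p₀ : G) := by
    intro y hy
    have h1 : zpowers (p₀ : G) = P := eq_of_le_of_card_ge (zpowers_le.2 p₀.2)
      (by rw [Nat.card_zpowers, Subgroup.orderOf_coe, hp₀, hPcard])
    rwa [h1]
  have hn3 : orderOf (mk p) = 3 := by
    have h1 : orderOf (mk p) ∣ 3 := hp3 ▸ orderOf_map_dvd mk p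
    rcases (Nat.dvd_prime Nat.prime_three).1 h1 with h2 | h2
    · exfalso
      have hpQ : p ∈ core2 z := by
        rw [orderOf_eq_one_iff, hmk] at h2
        exact (QuotientGroup.eq_one_iff p).1 h2
      obtain ⟨k, hk⟩ := CfsgLib.Cores.isPGroup_pCore 2 ⟨p, hpQ⟩
      have h3 : orderOf p ∣ 2 ^ k := orderOf_dvd_of_pow_eq_one (congrArg Subtype.val hk)
      rw [hp3] at h3
      exact absurd (Nat.prime_three.dvd_of_dvd_pow h3) (by decide)
    · exact h2
  have hpN : p ∈ N' := mem_subgroupOf.2 (hPN p₀.2)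
  have hkerN : mk.ker ≤ N' := by rw [hmk, QuotientGroup.ker_mk']; exact hQN
  have hNbar : Nat.card ↥(N'.map mk) = 3 := by
    have h1 : (N'.map mk).index = N'.index := index_map_eq N' (QuotientGroup.mk'_surjective _) hkerN
    have h2 := (N'.map mk).card_mul_index
    have h3 := N'.card_mul_index
    rw [Subgroup.card_eq_card_quotient_mul_card_subgroup (core2 z), hN'card] at h3
    rw [h1] at h2
    have hpos : 0 < N'.index := Nat.pos_of_ne_zero Subgroup.index_ne_zero_of_finite
    have hQpos : 0 < Nat.card ↥(core2 z) := Nat.card_pos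
    rw [← h2] at h3
    have h4 : 3 * (Nat.card ↥(core2 z) * N'.index) = Nat.card ↥(N'.map mk) * (Nat.card ↥(core2 z) * N'.index) := by
      linarith
    exact (Nat.eq_of_mul_eq_mul_right (Nat.mul_pos hQpos hpos) h4).symm
  have hzn : zpowers (mk p) = N'.map mk :=
    eq_of_le_of_card_ge (zpowers_le.2 ⟨p, hpN, rfl⟩) (by rw [Nat.card_zpowers, hn3, hNbar])
  haveI hNbn : (N'.map mk).Normal := hNn.map mk (QuotientGroup.mk'_surjective _)
  -- the map to the automorphism group
  let f : ↥C →* MulAut ↥Cfsg.Spor.M22 := e.toMonoidHom.comp (QuotientGroup.mk' N')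
  have hf : Function.Surjective f := e.surjective.comp (QuotientGroup.mk'_surjective _)
  have hfker : ∀ x, f x = 1 ↔ x ∈ N' := fun x => by
    show e (QuotientGroup.mk x) = 1 ↔ _
    rw [MulEquiv.map_eq_one_iff, QuotientGroup.eq_one_iff]
  let g : ↥C ⧸ core2 z →* MulAut ↥Cfsg.Spor.M22 :=
    QuotientGroup.lift (core2 z) f fun x hx => (hfker x).2 (hQN hx)
  have hg : ∀ x, g (mk x) = f x := fun x => rfl
  have hgs : Function.Surjective g := fun y => by obtain ⟨x, hx⟩ := hf y; exact ⟨mk x, (hg x).trans hx⟩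
  have hgker : ∀ k, g k = 1 ↔ k ∈ zpowers (mk p) := by
    intro k
    obtain ⟨x, rfl⟩ := QuotientGroup.mk'_surjective (core2 z) k
    rw [hg, hfker, hzn, ← mem_comap, comap_map_eq_self hkerN]
  obtain ⟨ι, hι⟩ := exists_inn_equiv
  set M := (Cfsg.Inn ↥Cfsg.Spor.M22).comap g with hM
  let φ : ↥M →* ↥Cfsg.Spor.M22 := ι.comp (g.subgroupComap (Cfsg.Inn ↥Cfsg.Spor.M22))
  have hφs : Function.Surjective φ := by
    refine hι.2.comp fun y => ?_
    obtain ⟨k, hk⟩ := hgs y
    exact ⟨⟨k, show g k ∈ _ by rw [hk]; exact y.2⟩, Subtype.ext hk⟩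
  have hφk : ∀ a : ↥M, φ a = 1 ↔ (a : ↥C ⧸ core2 z) ∈ zpowers (mk p) := by
    intro a
    rw [← hgker]
    show ι _ = 1 ↔ _
    rw [map_eq_one_iff ι hι.1]
    exact ⟨fun h1 => congrArg Subtype.val h1, fun h1 => Subtype.ext h1⟩
  have hMi : M.index = 2 := by rw [hM, index_comap_of_surjective _ hgs, index_inn_M22]
  have hnM : mk p ∈ M := by
    rw [hM, mem_comap, (hgker _).2 (mem_zpowers _)]
    exact one_mem _
  have hnormal : ∀ k : ↥C ⧸ core2 z, k * mk p * k⁻¹ ∈ zpowers (mk p) := fun k => by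
    rw [hzn]
    exact hNbn.conj_mem _ ⟨p, hpN, rfl⟩ k
  -- the subgroup of index two is the centraliser of the element of order three
  set n := mk p with hn
  set Z := centralizer ({n} : Set (↥C ⧸ core2 z)) with hZ
  have hn1 : n ≠ 1 := fun e1 => by rw [e1, orderOf_one] at hn3; omega
  have hn3' : n * n * n = 1 := by rw [← pow_two, ← pow_succ, show 2 + 1 = orderOf n from hn3.symm, pow_orderOf_eq_one]
  have hnn : n * n ≠ n := fun e1 => hn1 (mul_eq_left.1 e1)
  have hcases : ∀ k : ↥C ⧸ core2 z, k * n * k⁻¹ = n ∨ k * n * k⁻¹ = n * n := by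
    intro k
    have h1 := hnormal k
    rw [mem_zpowers_iff_mem_range_orderOf, hn3] at h1
    simp only [Finset.mem_image, Finset.mem_range] at h1
    obtain ⟨i, hi, hie⟩ := h1
    interval_cases i <;> simp only [pow_zero, pow_succ, one_mul] at hie
    · exact absurd (conj_eq_one_iff.1 hie.symm) hn1
    · exact .inl hie.symm
    · exact .inr hie.symm
  have hcommute : ∀ a ∈ M, a * n = n * a := by
    intro a ha
    have hMn : M.Normal := normal_of_index_eq_two hMi
    have hZn : Z.Normal := by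
      refine ⟨fun y hy k => mem_centralizer_singleton_iff.2 ?_⟩
      have hy' := mem_centralizer_singleton_iff.1 hy
      rcases hcases k⁻¹ with e1 | e1 <;> rw [inv_inv] at e1
      · calc k * y * k⁻¹ * n = k * (y * (k⁻¹ * n * k)) * k⁻¹ := by group
          _ = k * (k⁻¹ * n * k * y) * k⁻¹ := by rw [e1, hy']
          _ = n * (k * y * k⁻¹) := by group
      · calc k * y * k⁻¹ * n = k * (y * (k⁻¹ * n * k)) * k⁻¹ := by group
          _ = k * (k⁻¹ * n * k * y) * k⁻¹ := by
            have h2 : y * (n * n) = n * n * y := by rw [← mul_assoc, hy', mul_assoc, hy', ← mul_assoc]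
            rw [e1, h2]
          _ = n * (k * y * k⁻¹) := by group
    by_contra hna
    have haZ : a ∉ Z := fun h1 => hna (mem_centralizer_singleton_iff.1 h1)
    have hsm : ∀ y : ↥C ⧸ core2 z, y ∉ Z → y * n * y⁻¹ = n * n := fun y hy =>
      (hcases y).resolve_left fun e1 => hy (mem_centralizer_singleton_iff.2 (mul_inv_eq_iff_eq_mul.1 e1))
    have hsq : a * a ∈ Z := by
      refine mem_centralizer_singleton_iff.2 (mul_inv_eq_iff_eq_mul.1 ?_)
      calc a * a * n * (a * a)⁻¹ = a * (a * n * a⁻¹) * a⁻¹ := by group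
        _ = (a * n * a⁻¹) * (a * n * a⁻¹) := by
          conv_lhs => rw [hsm a haZ]
          group
        _ = n := by rw [hsm a haZ, ← mul_assoc, hn3', one_mul]
    haveI := CfsgLib.Golay.sporM22_simple
    have hWn : ((Z.subgroupOf M).map φ).Normal := by
      haveI := hZn
      exact (inferInstance : (Z.subgroupOf M).Normal).map φ hφs
    have hkerle : φ.ker ≤ Z.subgroupOf M := fun y hy => by
      rw [MonoidHom.mem_ker, hφk] at hy
      exact mem_subgroupOf.2 (zpowers_le.2 (mem_centralizer_singleton_iff.2 rfl) hy)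
    rcases IsSimpleGroup.eq_bot_or_eq_top_of_normal _ hWn with e1 | e1
    · -- every element squares into the kernel
      have h2 : ∀ b : ↥Cfsg.Spor.M22, b * b = 1 := by
        intro b
        obtain ⟨y, rfl⟩ := hφs b
        rw [← map_mul]
        have hy2 : ((y : ↥C ⧸ core2 z)) * y ∈ Z := by
          by_cases hy : (y : ↥C ⧸ core2 z) ∈ Z
          · exact mul_mem hy hy
          · refine mem_centralizer_singleton_iff.2 (mul_inv_eq_iff_eq_mul.1 ?_)
            calc (y : ↥C ⧸ core2 z) * y * n * ((y : ↥C ⧸ core2 z) * y)⁻¹ =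
                (y : ↥C ⧸ core2 z) * ((y : ↥C ⧸ core2 z) * n * (y : ↥C ⧸ core2 z)⁻¹) * (y : ↥C ⧸ core2 z)⁻¹ := by group
              _ = ((y : ↥C ⧸ core2 z) * n * (y : ↥C ⧸ core2 z)⁻¹) * ((y : ↥C ⧸ core2 z) * n * (y : ↥C ⧸ core2 z)⁻¹) := by
                conv_lhs => rw [hsm _ hy]
                group
              _ = n := by rw [hsm _ hy, ← mul_assoc, hn3', one_mul]
        have h3 : φ (y * y) ∈ (Z.subgroupOf M).map φ := ⟨y * y, mem_subgroupOf.2 hy2, rfl⟩
        rw [e1] at h3
        exact mem_bot.1 h3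
      have hp' := (IsPGroup.iff_card (p := 2) (G := ↥Cfsg.Spor.M22)).1 fun b => ⟨1, by rw [pow_one, pow_two, h2]⟩
      obtain ⟨i, hi⟩ := hp'
      rw [CfsgLib.Golay.card_sporM22] at hi
      have h7 : 7 ∣ 2 ^ i := ⟨63360, by omega⟩
      exact absurd ((Nat.prime_iff.1 (by norm_num : Nat.Prime 7)).dvd_of_dvd_pow h7) (by norm_num)
    · have h3 : (⟨a, ha⟩ : ↥M) ∈ Z.subgroupOf M := by
        rw [← comap_map_eq_self hkerle, e1, comap_top]
        exact mem_top _
      exact haZ (mem_subgroupOf.1 h3)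
  obtain ⟨x, hxN, hxC⟩ : ∃ x, x ∈ C ⊓ normalizer (P : Set G) ∧ x ∉ C ⊓ centralizer (P : Set G) := by
    by_contra hall
    simp only [not_exists, not_and, not_not] at hall
    exact hne (le_antisymm hall (inf_le_inf_left _ (centralizer_le_normalizer (s := (P : Set G)))))
  have houter : (mk (⟨x, hxN.1⟩ : ↥C)) * n ≠ n * mk (⟨x, hxN.1⟩ : ↥C) := by
    intro hcomm
    have hconj : x * (p₀ : G) * x⁻¹ ∈ P := (mem_normalizer_iff.1 hxN.2 _).1 p₀.2
    refine hxC ⟨hxN.1, mem_centralizer_iff.2 fun y hy => ?_⟩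
    have hp0x : x * (p₀ : G) = (p₀ : G) * x := by
      have h1 := hPp _ hconj
      rw [mem_zpowers_iff_mem_range_orderOf, Subgroup.orderOf_coe, hp₀] at h1
      simp only [Finset.mem_image, Finset.mem_range] at h1
      obtain ⟨i, hi, hie⟩ := h1
      have h2 : n ^ i = n := by
        have h3 : mk (p ^ i) = mk (⟨x, hxN.1⟩ * p * (⟨x, hxN.1⟩ : ↥C)⁻¹) := by
          congr 1
          exact Subtype.ext hie
        rw [map_pow, map_mul, map_mul, map_inv, ← hn, hcomm, mul_inv_cancel_right] at h3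
        exact h3
      interval_cases i
      · exact absurd (by simpa using h2.symm) hn1
      · rw [pow_one] at hie
        exact mul_inv_eq_iff_eq_mul.1 hie.symm
      · exact absurd (by rwa [pow_two] at h2) hnn
    obtain ⟨i, rfl⟩ := mem_zpowers_iff.1 (hPp y hy)
    exact (Commute.zpow_right hp0x i).symm.eq
  have hZM : Z ≤ M := by
    have hle : M ≤ Z := fun a ha => mem_centralizer_singleton_iff.2 (hcommute a ha)
    intro y hy
    by_contra hyM
    refine houter ?_
    rcases index_eq_two_iff.1 hMi with ⟨a, ha⟩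
    have hall : ∀ k, k ∈ Z := by
      intro k
      by_cases hk : k ∈ M
      · exact hle hk
      · have h1 : y⁻¹ * k ∈ M := (mul_mem_iff_of_index_two hMi).2
          (iff_of_false (fun h2 => hyM (inv_mem_iff.1 h2)) hk)
        simpa using mul_mem hy (hle h1)
    exact mem_centralizer_singleton_iff.1 (hall _)
  have hderived : n ∈ ⁅M, M⁆ := by
    set D := C ⊓ centralizer (P : Set G) with hD
    have hDM : (D.subgroupOf C).map mk ≤ M := by
      rintro _ ⟨y, hy, rfl⟩
      refine hZM (mem_centralizer_singleton_iff.2 ?_)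
      rw [hn, ← map_mul, ← map_mul]
      congr 1
      exact Subtype.ext ((mem_centralizer_iff.1 (mem_subgroupOf.1 hy).2 _ p₀.2).symm)
    have h1 : p ∈ ⁅D.subgroupOf C, D.subgroupOf C⁆ := by
      have h2 : (p : G) ∈ (⁅D.subgroupOf C, D.subgroupOf C⁆).map C.subtype := by
        rw [map_commutator, map_subgroupOf_eq_of_le inf_le_left]
        exact hPC p₀.2
      obtain ⟨w, hw, hwp⟩ := h2
      rwa [← show w = p from Subtype.ext hwp]
    have h3 : mk p ∈ (⁅D.subgroupOf C, D.subgroupOf C⁆).map mk := ⟨p, h1, rfl⟩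
    rw [map_commutator] at h3
    exact commutator_mono hDM hDM h3
  have hnfix : ∀ v : V, n • v = v → v = 0 := by
    intro v hv
    obtain ⟨a, rfl⟩ := m.surj v
    rw [hn, hmk, QuotientGroup.mk'_apply, m.equiv] at hv
    have hval : ((MulAut.conjNormal p a : ↥(core2 z)) : ↥C) = p * (a : ↥C) * p⁻¹ := MulAut.conjNormal_apply _ _
    set A : G := ((a : ↥C) : G) with hA
    have hcomm : (p₀ : G) * A = A * (p₀ : G) := by
      have h0 : π (a⁻¹ * MulAut.conjNormal p a) = 0 := by
        rw [m.pi_mul, hv]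
        have hi : π a⁻¹ = π a := by
          have h1 : π 1 = 0 := (m.ker 1).2 (.inl rfl)
          refine eq_of_vadd ?_
          rw [← m.pi_mul, inv_mul_cancel, h1]
        rw [hi, vadd_self]
      rcases (m.ker _).1 h0 with e1 | e1 <;> simp only [Subgroup.coe_mul, Subgroup.coe_inv, hval] at e1
      · have e1' : A⁻¹ * ((p₀ : G) * A * (p₀ : G)⁻¹) = 1 := e1
        exact mul_inv_eq_iff_eq_mul.1 (inv_mul_eq_one.1 e1').symm
      · exfalso
        have e1' : A⁻¹ * ((p₀ : G) * A * (p₀ : G)⁻¹) = z := e1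
        have hpz : (p₀ : G) * z = z * (p₀ : G) := mem_centralizer_singleton_iff.1 p.2
        have hpA : (p₀ : G) * A * (p₀ : G)⁻¹ = A * z := by rw [← e1', mul_inv_cancel_left]
        have hzz : z * z = 1 := by rw [← pow_two, ← hc.ord, pow_orderOf_eq_one]
        have hz1 : z ≠ 1 := fun e2 => by have := hc.ord; rw [e2, orderOf_one] at this; omega
        have hp0 : (p₀ : G) * (p₀ : G) * (p₀ : G) = 1 := by
          rw [← pow_two, ← pow_succ, show 2 + 1 = orderOf (p₀ : G) by rw [Subgroup.orderOf_coe, hp₀],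
            pow_orderOf_eq_one]
        have h2 : (p₀ : G) * (p₀ : G) * A * ((p₀ : G) * (p₀ : G))⁻¹ = A := by
          calc (p₀ : G) * (p₀ : G) * A * ((p₀ : G) * (p₀ : G))⁻¹
              = (p₀ : G) * ((p₀ : G) * A * (p₀ : G)⁻¹) * (p₀ : G)⁻¹ := by group
            _ = ((p₀ : G) * A * (p₀ : G)⁻¹) * ((p₀ : G) * z * (p₀ : G)⁻¹) := by
              conv_lhs => rw [hpA]
              group
            _ = A := by rw [hpA, hpz, mul_inv_cancel_right, mul_assoc, hzz, mul_one]
        have h3 : A = A * z := by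
          calc A = (p₀ : G) * (p₀ : G) * (p₀ : G) * A * ((p₀ : G) * (p₀ : G) * (p₀ : G))⁻¹ := by rw [hp0]; group
            _ = (p₀ : G) * ((p₀ : G) * (p₀ : G) * A * ((p₀ : G) * (p₀ : G))⁻¹) * (p₀ : G)⁻¹ := by group
            _ = A * z := by rw [h2, hpA]
        exact hz1 (mul_eq_left.1 h3.symm)
    have hAz : A ∈ zpowers z := by
      rw [← hfixP]
      refine ⟨⟨_, a.2, rfl⟩, mem_centralizer_iff.2 fun y hy => ?_⟩
      obtain ⟨i, rfl⟩ := mem_zpowers_iff.1 (hPp y hy)
      exact (Commute.zpow_left hcomm i).eq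
    refine (m.ker a).2 ?_
    obtain ⟨i, hi⟩ := mem_zpowers_iff.1 hAz
    have h2 : z ^ (2 : ℤ) = 1 := by rw [zpow_two, ← pow_two, ← hc.ord, pow_orderOf_eq_one]
    rcases Int.even_or_odd i with ⟨j, rfl⟩ | ⟨j, rfl⟩
    · left; rw [← hA, ← hi, ← two_mul, zpow_mul, h2, one_zpow]
    · right; rw [← hA, ← hi, zpow_add, zpow_mul, h2, one_zpow, one_mul, zpow_one]
  exact ⟨n, M, φ, ⟨m.isom, m.faithful, m.nondeg, by rw [m.cardV]; norm_num, hn3, hnormal, hMi, hnM, hφs, hφk,
    hcommute, ⟨_, houter⟩, hnfix, hderived⟩, p, p₀.2, rfl⟩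

/-- The model, given the facts about the automizer. -/
theorem exists_model_of_facts [IsSimpleGroup G] {z : G} {P : Subgroup G} (h : IsOfJankoFourTypeWith z P)
    (hfacts : ∀ {V : Type} [AddCommGroup V] [Module (ZMod 2) V] [Finite V]
      [DistribMulAction ((centralizer ({z} : Set G)) ⧸ core2 z) V] {q : QuadraticForm (ZMod 2) V}
      {n : (centralizer ({z} : Set G)) ⧸ core2 z} {M : Subgroup ((centralizer ({z} : Set G)) ⧸ core2 z)}
      {φ : ↥M →* ↥Cfsg.Spor.M22}, Core q n M φ → Facts q n M) :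
    ∃ (ι : Type) (_ : Fintype ι) (q : QuadraticForm (ZMod 2) (ι → ZMod 2))
      (_ : DistribMulAction ((centralizer ({z} : Set G)) ⧸ core2 z) (ι → ZMod 2))
      (π : ↥(core2 z) → ι → ZMod 2) (n : (centralizer ({z} : Set G)) ⧸ core2 z)
      (M : Subgroup ((centralizer ({z} : Set G)) ⧸ core2 z)) (φ : ↥M →* ↥Cfsg.Spor.M22),
      Model z (core2 z) q π n M φ ∧ (core2 z).map (centralizer ({z} : Set G)).subtype = twoCoreOfCentralizer z ∧
        ∃ p : centralizer ({z} : Set G), (p : G) ∈ P ∧ QuotientGroup.mk p = n := by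
  have hc := coreHyp_of h
  obtain ⟨g, hg⟩ := exists_fused h
  obtain ⟨ι, hι, q, i, π, hm⟩ := hc.exists_chartModel
  obtain ⟨n, M, φ, hcore, hp⟩ := exists_core h hm
  refine ⟨ι, hι, q, i, π, n, M, φ, ⟨hcore, hfacts hcore, hm.pi_mul, hm.surj, hm.ker, hm.sq, hm.equiv, hc.ord,
    by rw [hc.card_core], ?_, hc.extra_core, fun g h1 h2 => hc.pairHyp h1 h2, ⟨g, hg.mem, hg.ne⟩⟩, rfl, hp⟩
  intro c hcc
  have h1 : (c : G) ∈ twoCoreOfCentralizer z := hc.cent_core (mem_centralizer_iff.2 fun y hy => by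
    obtain ⟨x, hx, rfl⟩ := hy
    exact (congrArg Subtype.val (hcc x hx)).symm)
  obtain ⟨x, hx, hxc⟩ := h1
  rwa [← show x = c from Subtype.ext hxc]

end CfsgLib.JankoFour
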