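import Cfsg.Agent.Lib.JankoFour.OneThreeModel
import Cfsg.Agent.Lib.JankoFour.Setting
import Cfsg.Agent.Lib.JankoFour.Centraliser.NormP

/-!
# One class of elements of order three, from the hypothesis of Janko-four type
-/

set_option autoImplicit false
set_option linter.unusedSectionVars false
set_option linter.style.haveILetI false

namespace CfsgLib.JankoFour

open Subgroup QuadraticMap Cfsg

variable {G : Type*} [Group G] [Finite G]

/-- A subgroup of order three normalised but not centralised has its elements conjugate to their inverses. -/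
theorem isConj_inv_of_normalizer {C P : Subgroup G} (hc : Nat.card ↥P = 3)
    (hne : C ⊓ normalizer (P : Set G) ≠ C ⊓ centralizer (P : Set G)) {p : G} (hp : p ∈ P) : IsConj p p⁻¹ := by
  classical
  haveI := Fact.mk Nat.prime_three
  rcases eq_or_ne p 1 with rfl | hp1
  · rw [inv_one]
  have hpo : orderOf p = 3 := by
    have h := Subgroup.orderOf_dvd_natCard (s := P) hp
    rw [hc, Nat.dvd_prime Nat.prime_three] at h
    exact h.resolve_left fun e => hp1 (orderOf_eq_one_iff.1 e)
  have hgen : zpowers p = P := eq_of_le_of_card_ge (zpowers_le.2 hp) (by rw [Nat.card_zpowers, hpo, hc])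
  obtain ⟨x, hxN, hxC⟩ : ∃ x, x ∈ C ⊓ normalizer (P : Set G) ∧ x ∉ C ⊓ centralizer (P : Set G) := by
    by_contra hall
    simp only [not_exists, not_and, not_not] at hall
    exact hne (le_antisymm hall (inf_le_inf_left _ (centralizer_le_normalizer (s := (P : Set G)))))
  have hm : x * p * x⁻¹ ∈ zpowers p := hgen.symm ▸ (mem_normalizer_iff.1 hxN.2 p).1 hp
  rw [mem_zpowers_iff_mem_range_orderOf, hpo] at hm
  simp only [Finset.mem_image, Finset.mem_range] at hm
  obtain ⟨i, hi, hie⟩ := hm
  interval_cases i
  · exact absurd (conj_eq_one_iff.1 (hie.symm.trans (pow_zero p))) hp1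
  · exfalso
    refine hxC ⟨hxN.1, ?_⟩
    rw [← hgen]
    refine mem_centralizer_iff.2 fun y hy => ?_
    obtain ⟨k, rfl⟩ := mem_zpowers_iff.1 hy
    exact (Commute.zpow_left (show Commute p x from (mul_inv_eq_iff_eq_mul.1 (hie.symm.trans (pow_one p))).symm) k).eq
  · refine isConj_iff.2 ⟨x, hie.symm.trans (eq_inv_of_mul_eq_one_left ?_)⟩
    rw [← pow_succ, show 2 + 1 = orderOf p from hpo.symm, pow_orderOf_eq_one]

/-- One class of elements of order three, given the facts about the automizer. -/
theorem one_class_three_of_facts [IsSimpleGroup G] {z : G} {P : Subgroup G} (h : IsOfJankoFourTypeWith z P)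
    (hfacts : ∀ {V : Type} [AddCommGroup V] [Module (ZMod 2) V] [Finite V]
      [DistribMulAction ((centralizer ({z} : Set G)) ⧸ core2 z) V] {q : QuadraticForm (ZMod 2) V}
      {n : (centralizer ({z} : Set G)) ⧸ core2 z} {M : Subgroup ((centralizer ({z} : Set G)) ⧸ core2 z)}
      {φ : ↥M →* ↥Cfsg.Spor.M22}, Core q n M φ → Facts q n M) :
    ∀ x y : G, orderOf x = 3 → orderOf y = 3 → IsConj x y := by
  obtain ⟨ι, hι, q, inst, π, n, M, φ, m, -, p, hpP, hpn⟩ := exists_model_of_facts h hfacts
  obtain ⟨-, -, -, -, -, hc, -, hne, -⟩ := h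
  have hp3 : p ^ 3 = 1 := by
    refine Subtype.ext ?_
    have h := pow_card_eq_one' (x := (⟨(p : G), hpP⟩ : ↥P))
    rw [hc] at h
    exact (congrArg Subtype.val h : _)
  obtain ⟨s, A, Ab, T₀, c, -⟩ := Thompson.exists_ctx m
  exact m.one_class_three (p := p) hpn hp3 (isConj_inv_of_normalizer hc hne hpP)
    (c.normalizer_three_le hpn (by rw [← hp3, pow_succ, pow_two]))

end CfsgLib.JankoFour
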