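import Cfsg.Agent.Lib.LargeFischer.Core
import Cfsg.Prelude.Def_Spor_Mathieu

/-!
# A group of shape 3.M22.2 on an orthogonal space of dimension twelve: the setting and the facts wanted from it
-/

set_option autoImplicit false
set_option linter.unusedSectionVars false

namespace CfsgLib.JankoFour

open QuadraticMap
open CfsgLib.LargeFischer (CentData Central perpSub vadd_self eq_of_vadd)

variable {V : Type*} [AddCommGroup V] [Module (ZMod 2) V] [Finite V]
  {K : Type*} [Group K] [Finite K] [DistribMulAction K V]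

/-- The abstract setting. -/
structure Core (q : QuadraticForm (ZMod 2) V) (n : K) (M : Subgroup K) (φ : ↥M →* ↥Cfsg.Spor.M22) : Prop where
  isom : ∀ (k : K) (v : V), q (k • v) = q v
  faithful : ∀ k : K, (∀ v : V, k • v = v) → k = 1
  nondeg : ∀ v, (∀ w, polar q v w = 0) → v = 0
  cardV : Nat.card V = 4 ^ 6
  ordn : orderOf n = 3
  normal : ∀ k : K, k * n * k⁻¹ ∈ Subgroup.zpowers n
  indexM : M.index = 2
  nM : n ∈ M
  surj : Function.Surjective φ
  ker : ∀ m : ↥M, φ m = 1 ↔ (m : K) ∈ Subgroup.zpowers n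
  commute : ∀ m ∈ M, m * n = n * m
  outer : ∃ k : K, k * n ≠ n * k
  nfix : ∀ v : V, n • v = v → v = 0
  derived : n ∈ ⁅M, M⁆

/-- The four vectors of the line of a vector. -/
def ln (n : K) (v : V) : Set V := {0, v, n • v, n • n • v}

/-- The image of `v ↦ k v + v`. -/
def rg (k : K) : AddSubgroup V :=
  (AddMonoidHom.mk' (fun v : V => k • v + v) fun a b => by simp only [smul_add]; abel).range

theorem mem_rg {k : K} {w : V} : w ∈ (rg k : AddSubgroup V) ↔ ∃ v : V, k • v + v = w := Iff.rfl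

/-- The central vectors of the fixed space of a subgroup. -/
def csetK (A : Subgroup K) (s : V) : Set V :=
  {v : V | (∀ a ∈ A, a • v = v) ∧ v ≠ 0 ∧ v ∈ MulAction.orbit K s}

/-- The other nonzero vectors of the fixed space of a subgroup. -/
def ncsetK (A : Subgroup K) (s : V) : Set V :=
  {v : V | (∀ a ∈ A, a • v = v) ∧ v ≠ 0 ∧ v ∉ MulAction.orbit K s}

/-- An elementary group of order sixteen of hexad type. -/
structure Hex (q : QuadraticForm (ZMod 2) V) (n : K) (M : Subgroup K) (s : V) (A : Subgroup K) : Prop where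
  le : A ≤ M
  elem : Cfsg.IsElementaryAbelian 2 A
  card : Nat.card ↥A = 16
  sing : ∀ v : V, (∀ a ∈ A, a • v = v) → q v = 0
  fix_card : ({v : V | ∀ a ∈ A, a • v = v}).ncard = 64
  fix_n : ∀ v : V, (∀ a ∈ A, a • v = v) → ∀ a ∈ A, a • n • v = n • v
  fix_perp : ∀ v : V, (∀ w : V, (∀ a ∈ A, a • w = w) → polar q v w = 0) → ∀ a ∈ A, a • v = v
  quad : ∀ a ∈ A, ∀ b ∈ A, ∀ v : V, b • (a • v + v) = a • v + v
  rg_card : ∀ a ∈ A, a ≠ 1 → Nat.card ↥(rg a : AddSubgroup V) = 16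
  transitive : ∀ a ∈ A, a ≠ 1 → ∀ b ∈ A, b ≠ 1 →
    ∃ y, y ∈ Subgroup.normalizer (A : Set K) ∧ y ∈ M ∧ y * a * y⁻¹ = b
  eq_of_cent : ∀ k : K, (∀ a ∈ A, k * a = a * k) → (∀ v : V, (∀ a ∈ A, a • v = v) → k • v = v) → k ∈ A
  norm_card : Nat.card ↥(Subgroup.normalizer (A : Set K)) = 34560
  cset_card : (csetK A s).ncard = 45
  six : ∃ T : Fin 6 → V, (∀ i, T i ∈ ncsetK A s) ∧ (∀ v ∈ ncsetK A s, ∃ i, v ∈ ln n (T i)) ∧
    (∀ i j, T j ∈ ln n (T i) → i = j) ∧
    ∀ σ : Equiv.Perm (Fin 6), σ ∈ alternatingGroup (Fin 6) →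
      ∃ k : K, k ∈ Subgroup.normalizer (A : Set K) ∧ k ∈ M ∧ ∀ i, k • T i ∈ ln n (T (σ i))

/-- The facts wanted from the identification of the group and the module. -/
structure Facts (q : QuadraticForm (ZMod 2) V) (n : K) (M : Subgroup K) : Prop where
  elem_le : ∀ A : Subgroup K, A ≤ M → Cfsg.IsElementaryAbelian 2 A → Nat.card ↥A ≤ 16
  orbit_cases : ∀ v : V, v ≠ 0 → q v = 0 →
    (MulAction.orbit K v).ncard = 693 ∨ (MulAction.orbit K v).ncard = 1386
  orbit_eq : ∀ v w : V, v ≠ 0 → q v = 0 → w ≠ 0 → q w = 0 →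
    (MulAction.orbit K v).ncard = (MulAction.orbit K w).ncard → w ∈ MulAction.orbit K v
  cent_orbit : ∀ (s : V) (E : Subgroup K) (D : AddSubgroup V), s ≠ 0 → CentData q s E D →
    (MulAction.orbit K s).ncard = 693
  exists_hex : ∀ s : V, s ≠ 0 → q s = 0 → (MulAction.orbit K s).ncard = 693 → ∃ A : Subgroup K, Hex q n M s A
  big_class : ∀ (s : V), s ≠ 0 → q s = 0 → (MulAction.orbit K s).ncard = 693 →
    ∀ (B : Subgroup K) (W : AddSubgroup V), Cfsg.IsElementaryAbelian 2 B → (∀ b ∈ B, ∀ w ∈ W, b • w = w) →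
      (∀ w ∈ W, q w = 0) → 2 ^ 10 ≤ Nat.card ↥B * Nat.card ↥W → Hex q n M s B ∧ Nat.card ↥W = 64
  hex_unique : ∀ (s : V) (A B P : Subgroup K), Hex q n M s A → Hex q n M s B → IsPGroup 2 ↥P → A ≤ P → B ≤ P → A = B
  nc_hex : ∀ (s : V) (A B : Subgroup K) (v : V), Hex q n M s A → Hex q n M s B → v ∈ ncsetK A s → v ∈ ncsetK B s → A = B
  inv_hex : ∀ (s : V) (A B : Subgroup K) (k : K), Hex q n M s A → Hex q n M s B → k ∈ A → k ∈ B → k ≠ 1 → A = B
  inv_conj : ∀ (s : V) (A : Subgroup K), Hex q n M s A → ∀ k ∈ M, k * k = 1 → k ≠ 1 → ∃ y ∈ M, y * k * y⁻¹ ∈ A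

end CfsgLib.JankoFour
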