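import Cfsg.Agent.Lib.JankoFour.Label
import Cfsg.Agent.Lib.M24Cert.SextetStab

/-!
# Every involution of the group is a conjugate of the central one or of an element of the elementary subgroup
-/

set_option autoImplicit false
set_option linter.unusedSectionVars false
set_option maxHeartbeats 1000000

namespace CfsgLib.JankoFour

open Subgroup QuadraticMap
open Cfsg (GolayPt octads supports golayCode sextets)
open CfsgLib.JankoFour.Thompson (Ctx Ns Zs imK imK_eq imK_coe imK_mul imK_val ncset)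
open CfsgLib.LargeFischer (fixSub vadd_self)
open CfsgLib.LargeFischer.Thompson (val elem_map')
open scoped Pointwise symmDiff

variable {G : Type*} [Group G] [Finite G] {z : G}
  {Q : Subgroup (centralizer ({z} : Set G))} [Q.Normal] {V : Type*} [AddCommGroup V] [Module (ZMod 2) V]
  [DistribMulAction ((centralizer ({z} : Set G)) ⧸ Q) V] [Finite V] {q : QuadraticForm (ZMod 2) V} {π : ↥Q → V}
  {n : (centralizer ({z} : Set G)) ⧸ Q} {M : Subgroup ((centralizer ({z} : Set G)) ⧸ Q)} {φ : ↥M →* ↥Cfsg.Spor.M22}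
  {s : V} {A : Subgroup G} {Ab : Subgroup ((centralizer ({z} : Set G)) ⧸ Q)}

/-- What is wanted of an involution. -/
def Good (z : G) (A : Subgroup G) (b : G) : Prop := IsConj z b ∨ ∃ g : G, g * b * g⁻¹ ∈ A

theorem Good.of_conj {b : G} (m : G) (h : Good z A (m * b * m⁻¹)) : Good z A b := by
  rcases h with h | ⟨g, hg⟩
  · exact Or.inl (h.trans (isConj_iff.2 ⟨m, rfl⟩).symm)
  · exact Or.inr ⟨g * m, by simpa [mul_assoc] using hg⟩

variable (c : Ctx Q q π n M φ s A Ab)
include c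

/-- The involutions of the two-core. -/
theorem good_core {u : ↥Q} (h2 : u * u = 1) : Good z A (val u) := by
  by_cases h0 : π u = 0
  · rcases (c.mdl.ker u).1 h0 with e | e
    · exact Or.inr ⟨1, by rw [show val u = 1 from e]; simp⟩
    · exact Or.inl (by rw [show val u = z from e])
  have hsing := (c.mdl.sq u).2 h2
  have hcls := c.oth.cls
  rcases c.mdl.facts.orbit_cases _ h0 hsing with h | h
  · exact Or.inl ((c.isConj_iff_orbit h0).2
      (c.mdl.facts.orbit_eq _ _ hcls.ne hcls.sing h0 hsing (hcls.card.trans h.symm)))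
  · obtain ⟨w, hw⟩ := (Set.ncard_pos (Set.toFinite _)).1 (show 0 < (ncset Ab s).ncard by rw [c.nc_ncard]; norm_num)
    have hws := c.oth.facts.1 w hw.1
    have hcard : (MulAction.orbit ((centralizer ({z} : Set G)) ⧸ Q) w).ncard = 1386 :=
      (c.mdl.facts.orbit_cases w hw.2.1 hws).resolve_left fun e =>
        hw.2.2 (c.mdl.facts.orbit_eq _ _ hcls.ne hcls.sing hw.2.1 hws (hcls.card.trans e.symm))
    obtain ⟨y, rfl⟩ := c.mdl.surj w
    obtain ⟨g, hg⟩ := c.mdl.exists_conj (x := u) (y := y) h0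
      (c.mdl.facts.orbit_eq _ _ h0 hsing hw.2.1 hws (h.trans hcard.symm))
    refine Or.inr ⟨(g : G), ?_⟩
    have e : (g : G) * val u * (g : G)⁻¹ = val y := congrArg Subtype.val hg
    rw [e]
    exact (c.mem_Q y).2 hw.1

variable {ψ : ↥(Subgroup.normalizer (A : Set G)) →* Equiv.Perm GolayPt} {Φ : Finset GolayPt → G}

/-- An element of a complement acting as an element of the two-core lies in it. -/
theorem complement_core (l : Lab z A ψ Φ) {K : Subgroup G} (hK : K ≤ Subgroup.normalizer (A : Set G)) (hKA : K ⊓ A = ⊥)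
    (hKA' : K ⊔ A = Subgroup.normalizer (A : Set G)) {x : G} (hx : x ∈ K) {u : ↥Q}
    (e : ψ ⟨x, hK hx⟩ = ψ ⟨val u, c.q_mem_N u⟩) : ∃ v : ↥Q, val v = x := by
  have ha : x⁻¹ * val u ∈ A := (l.ker (⟨x, hK hx⟩⁻¹ * ⟨val u, c.q_mem_N u⟩)).1 (by rw [map_mul, map_inv, e, inv_mul_cancel])
  set a := x⁻¹ * val u
  have hxu : x = val u * a⁻¹ := by simp [a]
  obtain ⟨w₀, hw₀⟩ := QuotientGroup.mk'_surjective Q n
  have hw₀N : (w₀ : G) ∈ Subgroup.normalizer (A : Set G) := c.mem_N_iff.2 (hw₀ ▸ c.n_normalizes)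
  have hmem : (w₀ : G) ∈ ((K ⊔ A : Subgroup G) : Set G) := hKA'.symm ▸ hw₀N
  rw [Subgroup.coe_mul_of_left_le_normalizer_right K A hK] at hmem
  obtain ⟨p, hp, a₁, ha₁, hpa⟩ := hmem
  have hpH : p ∈ centralizer ({z} : Set G) := by
    have := mul_mem w₀.2 (inv_mem (c.le ha₁))
    rwa [← hpa, mul_inv_cancel_right] at this
  set P : centralizer ({z} : Set G) := ⟨p, hpH⟩
  have hPN : (P : G) ∈ Subgroup.normalizer (A : Set G) := hK hp
  set α := imK Q a₁
  have hα : α ∈ Ab := c.imK_mem ha₁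
  have hP : QuotientGroup.mk' Q P = n * α := by
    have h : QuotientGroup.mk' Q w₀ = QuotientGroup.mk' Q P * α := by
      rw [← imK_coe P, ← imK_coe w₀, ← imK_mul hpH (c.le ha₁)]
      exact congrArg (imK Q) hpa.symm
    rw [hw₀] at h
    rw [h, mul_assoc, ← pow_two, c.oth.elem.2 α hα, mul_one]
  have hcomm : α * n = n * α := c.oth.core.commute _ (c.oth.le hα)
  -- the product over the three conjugates
  set u₁ : ↥Q := MulAut.conjNormal P u
  set u₂ : ↥Q := MulAut.conjNormal P u₁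
  have hu₁ : val u₁ = p * val u * p⁻¹ := by simp [u₁, P, val, MulAut.conjNormal_apply]
  have hu₂ : val u₂ = p * val u₁ * p⁻¹ := by simp [u₂, P, val, MulAut.conjNormal_apply]
  have hsum : π (u * u₁ * u₂) ∈ (fixSub Ab : AddSubgroup V) := by
    rw [c.mdl.pi_mul, c.mdl.pi_mul]
    have e1 : π u₁ = n • α • π u := by
      rw [← c.mdl.equiv, show (QuotientGroup.mk P : (centralizer ({z} : Set G)) ⧸ Q) = n * α from hP, mul_smul]
    have e2 : π u₂ = n • n • π u := by
      rw [← c.mdl.equiv, show (QuotientGroup.mk P : (centralizer ({z} : Set G)) ⧸ Q) = n * α from hP, e1]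
      simp only [← mul_smul]
      congr 1
      calc n * α * (n * α) = n * (α * n) * α := by group
        _ = n * n * (α * α) := by rw [hcomm]; group
        _ = n * n := by rw [← pow_two α, c.oth.elem.2 α hα, mul_one]
    rw [e1, e2, c.oth.core.n_quad (π u),
      show π u + n • α • π u + (π u + n • π u) = n • (α • π u + π u) by
        rw [smul_add, add_comm (π u) (n • α • π u), add_assoc, ← add_assoc (π u), vadd_self, zero_add]]
    exact c.oth.facts.2.2.1 _ (c.oth.quad α hα (π u))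
  have hA3 : val (u * u₁ * u₂) ∈ A := (c.mem_Q _).2 hsum
  -- hence the product of the conjugates of `x` is trivial
  set X := x * (p * x * p⁻¹) * (p * (p * x * p⁻¹) * p⁻¹)
  have hXK : X ∈ K := mul_mem (mul_mem hx (mul_mem (mul_mem hp hx) (inv_mem hp)))
    (mul_mem (mul_mem hp (mul_mem (mul_mem hp hx) (inv_mem hp))) (inv_mem hp))
  have hpN : p ∈ Subgroup.normalizer (A : Set G) := hK hp
  have hX1 : X = 1 := by
    have hXA : X ∈ A := by
      let i : ∀ g : G, g ∈ Subgroup.normalizer (A : Set G) → ↥(Subgroup.normalizer (A : Set G)) := fun g h => ⟨g, h⟩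
      set x' := i x (hK hx)
      set p' := i p hpN
      set v' := i (val u) (c.q_mem_N u)
      have h1 : ψ (v' * (p' * v' * p'⁻¹) * (p' * (p' * v' * p'⁻¹) * p'⁻¹)) = 1 := (l.ker _).2 (by
        show val u * (p * val u * p⁻¹) * (p * (p * val u * p⁻¹) * p⁻¹) ∈ A
        rw [← hu₁, ← hu₂]
        exact hA3)
      refine (l.ker (x' * (p' * x' * p'⁻¹) * (p' * (p' * x' * p'⁻¹) * p'⁻¹))).1 ?_
      simp only [map_mul, map_inv] at h1 ⊢
      rw [show ψ x' = ψ v' from e]
      exact h1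
    have h : X ∈ K ⊓ A := ⟨hXK, hXA⟩
    rwa [hKA, Subgroup.mem_bot] at h
  have hxH : x ∈ centralizer ({z} : Set G) := hxu ▸ mul_mem (u : centralizer ({z} : Set G)).2 (inv_mem (c.le ha))
  set k := imK Q x
  have hkA : k ∈ Ab := by
    show imK Q x ∈ Ab
    rw [hxu, imK_mul (u : centralizer ({z} : Set G)).2 (inv_mem (c.le ha)), imK_val, one_mul, c.inv ha]
    exact c.imK_mem ha
  have hk3 : k * k * k = 1 := by
    have hconj : ∀ g, g ∈ centralizer ({z} : Set G) → imK Q g ∈ Ab → imK Q (p * g * p⁻¹) = imK Q g := by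
      intro g hg hgA
      have h1 : imK Q (p * g * p⁻¹) * imK Q p = imK Q p * imK Q g := by
        rw [← imK_mul (mul_mem (mul_mem hpH hg) (inv_mem hpH)) hpH, inv_mul_cancel_right, imK_mul hpH hg]
      rw [show imK Q p = n * α from (imK_coe P).trans hP] at h1
      have h2 : n * α * imK Q g = imK Q g * (n * α) := by
        rw [mul_assoc, show α * imK Q g = imK Q g * α from
          congrArg Subtype.val (c.oth.elem.1.is_comm.comm (⟨α, hα⟩ : ↥Ab) ⟨_, hgA⟩), ← mul_assoc,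
          ← c.oth.core.commute _ (c.oth.le hgA), mul_assoc]
      rw [h2] at h1
      exact mul_right_cancel h1
    have hpx : p * x * p⁻¹ ∈ centralizer ({z} : Set G) := mul_mem (mul_mem hpH hxH) (inv_mem hpH)
    have h := congrArg (imK Q) hX1
    rw [imK_mul (mul_mem hxH hpx) (mul_mem (mul_mem hpH hpx) (inv_mem hpH)), imK_mul hxH hpx,
      hconj _ hpx (by rw [hconj _ hxH hkA]; exact hkA), hconj _ hxH hkA] at h
    rw [h, show (1 : G) = ((1 : centralizer ({z} : Set G)) : G) from rfl, imK_coe, map_one]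
  have hk1 : k = 1 := by
    rw [← one_mul k, ← c.oth.elem.2 k hkA, pow_two]
    rw [hk3, c.oth.elem.2 k hkA |>.symm, pow_two]
  refine ⟨⟨⟨x, hxH⟩, (QuotientGroup.eq_one_iff _).1 ?_⟩, rfl⟩
  exact (imK_eq hxH).symm.trans hk1

/-- The case of an involution fixing the tetrads of the sextet of `z`. -/
theorem good_sextet (l : Lab z A ψ Φ) {S : Finset (Finset GolayPt)} (hS : S ∈ sextets)
    (hz : ∀ t ∈ S, Φ t = z)
    (hduad : ∀ t ∈ S, ∀ r : Finset GolayPt, r ⊆ t → r.card = 2 → ∃ u : ↥Q, val u = Φ r)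
    (honto : ∀ σ ∈ Cfsg.M24, σ * σ = 1 → (∀ t ∈ S, σ • t = t) → ∃ u : ↥Q, ψ ⟨val u, c.q_mem_N u⟩ = σ)
    {K : Subgroup G} (hK : K ≤ Subgroup.normalizer (A : Set G)) (hKA : K ⊓ A = ⊥)
    (hKA' : K ⊔ A = Subgroup.normalizer (A : Set G)) {x d : G} (hx : x ∈ K) (hd : d ∈ A) (hxx : x * x = 1)
    (hxd : x * d = d * x) (hfix : ∀ t ∈ S, ψ ⟨x, hK hx⟩ • t = t) {st t r : Finset GolayPt} (hst2 : 2 ∣ st.card)
    (hst : Φ st = d) (ht : 2 ∣ t.card) (hr : ∀ w ∈ S, 2 ∣ (r ∩ w).card)
    (hcode : st ∆ (t ∆ (ψ ⟨x, hK hx⟩ • t)) ∆ r ∈ supports (golayCode : Set (GolayPt → ZMod 2))) :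
    Good z A (x * d) := by
  classical
  set σ := ψ ⟨x, hK hx⟩
  have hσ2 : σ * σ = 1 := by rw [← map_mul, l.ker]; show x * x ∈ A; rw [hxx]; exact one_mem A
  obtain ⟨u, hu⟩ := honto σ (l.range ▸ ⟨_, rfl⟩) hσ2 hfix
  obtain ⟨v, hv⟩ := complement_core c l hK hKA hKA' hx hu.symm
  -- the part on the tetrads lies in the two-core
  have hcov : S.biUnion (fun w => w) = Finset.univ := by
    refine Finset.eq_univ_of_card _ ?_
    rw [Finset.card_biUnion, Finset.sum_const_nat (m := 4) hS.2.1, hS.1, show Fintype.card GolayPt = 24 by simp]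
    intro a ha b hb hab
    have h8 := (hS.2.2 a ha b hb hab).2
    exact Finset.card_union_eq_card_add_card.1 (by rw [h8, hS.2.1 a ha, hS.2.1 b hb])
  have hsub : ∀ T : Finset (Finset GolayPt), T ⊆ S →
      2 ∣ (r ∩ T.biUnion (fun w => w)).card ∧ ∃ w : ↥Q, val w = Φ (r ∩ T.biUnion fun w => w) := by
    intro T
    induction T using Finset.induction_on with
    | empty =>
      intro _
      refine ⟨by simp, 1, ?_⟩
      rw [Finset.biUnion_empty, Finset.inter_empty]
      exact ((l.code ∅ (by simp)).2 CfsgLib.Golay.empty_mem_supports).symm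
    | insert a T haT ih =>
      intro hT
      obtain ⟨h2, w, hw⟩ := ih fun y hy => hT (Finset.mem_insert_of_mem hy)
      have haS := hT (Finset.mem_insert_self a T)
      have hd' : Disjoint (r ∩ a) (r ∩ T.biUnion fun w => w) := by
        refine Finset.disjoint_of_subset_left Finset.inter_subset_right
          (Finset.disjoint_of_subset_right Finset.inter_subset_right ((Finset.disjoint_biUnion_right _ _ _).2 fun b hb => ?_))
        have hbS := hT (Finset.mem_insert_of_mem hb)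
        have hab : a ≠ b := fun e => haT (e ▸ hb)
        exact Finset.card_union_eq_card_add_card.1 (by rw [(hS.2.2 a haS b hbS hab).2, hS.2.1 a haS, hS.2.1 b hbS])
      rw [Finset.biUnion_insert, Finset.inter_union_distrib_left]
      refine ⟨by rw [Finset.card_union_of_disjoint hd']; exact dvd_add (hr a haS) h2, ?_⟩
      obtain ⟨w₀, hw₀⟩ : ∃ w₀ : ↥Q, val w₀ = Φ (r ∩ a) := by
        have h4 := hS.2.1 a haS
        have hle := Finset.card_le_card (Finset.inter_subset_right (s₁ := r) (s₂ := a))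
        rcases (show (r ∩ a).card = 0 ∨ (r ∩ a).card = 2 ∨ (r ∩ a).card = 4 by
          obtain ⟨j, hj⟩ := hr a haS; omega) with h | h | h
        · exact ⟨1, ((l.code _ (hr a haS)).2 (Finset.card_eq_zero.1 h ▸ CfsgLib.Golay.empty_mem_supports)).symm⟩
        · exact hduad a haS _ Finset.inter_subset_right h
        · obtain ⟨z₀, hz₀, -⟩ := c.z_val
          exact ⟨z₀, by rw [hz₀, Finset.eq_of_subset_of_card_le Finset.inter_subset_right (by omega), hz a haS]⟩
      refine ⟨w₀ * w, ?_⟩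
      rw [← Finset.sup_eq_union, ← hd'.symmDiff_eq_sup, l.mul, ← hw₀, ← hw]
      rfl
  obtain ⟨hr2, w, hw⟩ := hsub S le_rfl
  rw [hcov, Finset.inter_univ] at hr2 hw
  -- the shape of `d`
  set e := Φ t
  have heA : e ∈ A := l.mem t
  have hσt : Φ (σ • t) = x * e * x⁻¹ := (l.conj _ t ht).symm
  have hd' : d = e * (x * e * x⁻¹) * Φ r := by
    have hc1 := symmDiff_card t (σ • t)
    have hc2 := symmDiff_card st (t ∆ (σ • t))
    have hc3 := symmDiff_card (st ∆ (t ∆ (σ • t))) r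
    have hcs : (σ • t).card = t.card := Finset.card_smul_finset _ _
    have h := (l.code _ (by omega)).2 hcode
    rw [l.mul, l.mul, l.mul, hst, hσt] at h
    have hm : d * (e * (x * e * x⁻¹)) ∈ A := mul_mem hd (mul_mem heA (hσt ▸ l.mem _))
    have h' := (c.inv hm).symm.trans (inv_eq_of_mul_eq_one_right h)
    rw [← h', ← mul_assoc (e * _), c.comm (mul_mem heA (hσt ▸ l.mem _)) hd, mul_assoc,
      c.sq (mul_mem heA (hσt ▸ l.mem _)), mul_one]
  have hxinv : x⁻¹ = x := inv_eq_of_mul_eq_one_left hxx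
  have hxeA : x * e * x ∈ A := by
    have := hσt ▸ l.mem (σ • t)
    rwa [hxinv] at this
  have hxd' : x * d = e * (x * Φ r) * e⁻¹ := by
    rw [c.inv heA, hd', hxinv, c.comm heA hxeA]
    calc x * (x * e * x * e * Φ r) = (x * x) * e * x * (e * Φ r) := by group
      _ = e * x * (Φ r * e) := by rw [hxx, one_mul, c.comm heA (l.mem r)]
      _ = _ := by group
  refine Good.of_conj e⁻¹ ?_
  rw [hxd', show e⁻¹ * (e * (x * Φ r) * e⁻¹) * e⁻¹⁻¹ = x * Φ r by group, ← hv, ← hw]
  have hv2 : v * w * (v * w) = 1 := by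
    refine Subtype.ext (Subtype.ext ?_)
    show val v * val w * (val v * val w) = 1
    rw [hv, hw]
    have h1 : x * d * (x * d) = 1 := by
      rw [show x * d * (x * d) = x * (d * x) * d by group, ← hxd, ← mul_assoc, hxx, one_mul, c.sq hd]
    rw [hxd'] at h1
    calc x * Φ r * (x * Φ r) = e⁻¹ * (e * (x * Φ r) * e⁻¹ * (e * (x * Φ r) * e⁻¹)) * e := by group
      _ = 1 := by rw [h1]; group
  exact good_core c hv2

/-- Every involution. -/
theorem exists_conj_into {K₀ : Subgroup G} (hK₀ : K₀ ≤ Subgroup.normalizer (A : Set G)) (hKA₀ : K₀ ⊓ A = ⊥)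
    (hKA₀' : K₀ ⊔ A = Subgroup.normalizer (A : Set G)) {b : G} (hb : orderOf b = 2) (hnc : ¬ IsConj z b) :
    ∃ g : G, g * b * g⁻¹ ∈ A := by
  classical
  haveI := Fact.mk Nat.prime_two
  suffices h : Good z A b from h.resolve_left hnc
  have hbb : b * b = 1 := by rw [← pow_two, ← hb, pow_orderOf_eq_one]
  -- into the normaliser
  obtain ⟨T, hT⟩ := (IsPGroup.of_card (n := 1) (show Nat.card ↥(zpowers b) = 2 ^ 1 by
    rw [Nat.card_zpowers, hb, pow_one])).exists_le_sylow
  obtain ⟨T₀, hT₀⟩ := (IsPGroup.of_card c.card : IsPGroup 2 ↥A).exists_le_sylow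
  obtain ⟨g, hg⟩ := MulAction.exists_smul_eq G T T₀
  refine Good.of_conj g ?_
  set b₁ := g * b * g⁻¹ with hb₁
  have hb₁T : b₁ ∈ (T₀ : Subgroup G) := by
    rw [← hg]
    exact Subgroup.smul_mem_pointwise_smul b (MulAut.conj g) (T : Subgroup G) (hT (mem_zpowers b))
  have hb₁N : b₁ ∈ Subgroup.normalizer (A : Set G) := by
    refine c.mem_normalizer fun a ha => ?_
    have e := c.uniq (A.map (MulAut.conj b₁).toMonoidHom) (T₀ : Subgroup G) (elem_map' _ c.elem)
      (by rw [card_map_of_injective (MulEquiv.injective _), c.card]) T₀.2 hT₀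
      (fun y ⟨a', ha', he⟩ => he ▸ mul_mem (mul_mem hb₁T (hT₀ ha')) (inv_mem hb₁T))
    exact e.le ⟨a, ha, rfl⟩
  have hb₁2 : b₁ * b₁ = 1 := by rw [hb₁, show g * b * g⁻¹ * (g * b * g⁻¹) = g * (b * b) * g⁻¹ by group, hbb]; group
  have hmem : b₁ ∈ ((K₀ ⊔ A : Subgroup G) : Set G) := hKA₀'.symm ▸ hb₁N
  rw [Subgroup.coe_mul_of_left_le_normalizer_right K₀ A hK₀] at hmem
  obtain ⟨x, hx, d, hd, hxd⟩ := hmem
  replace hxd : x * d = b₁ := hxd
  rw [← hxd] at hb₁2 ⊢
  have hxx : x * x = 1 := by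
    have h : x * x ∈ K₀ ⊓ A := by
      refine Subgroup.mem_inf.2 ⟨mul_mem hx hx, ?_⟩
      have e1 : x * x = (x * d) * (x * d) * d⁻¹ * (x⁻¹ * d * x⁻¹⁻¹)⁻¹ := by group
      rw [e1, hb₁2]
      exact mul_mem (mul_mem (one_mem A) (inv_mem hd)) (inv_mem (c.conj_mem (inv_mem (hK₀ hx)) hd))
    rwa [hKA₀, Subgroup.mem_bot] at h
  have hxinv : x⁻¹ = x := inv_eq_of_mul_eq_one_left hxx
  have hcomm : x * d = d * x := by
    have h1 := (inv_eq_of_mul_eq_one_left hb₁2).symm
    rw [h1, mul_inv_rev, hxinv, c.inv hd]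
  obtain ⟨ψ, Φ, l⟩ := exists_lab c
  obtain ⟨S, hS, hz, hduad, -, honto⟩ := l.exists_sextet c
  obtain ⟨st, hst2, -, hst⟩ := l.surj d hd
  set σ := ψ ⟨x, hK₀ hx⟩ with hσ
  have hσM : σ ∈ Cfsg.M24 := l.range ▸ ⟨_, rfl⟩
  have hσ2 : σ * σ = 1 := by rw [hσ, ← map_mul, l.ker]; show x * x ∈ A; rw [hxx]; exact one_mem A
  have hinvar : (st ∆ (σ • st)) ∈ supports (golayCode : Set (GolayPt → ZMod 2)) := by
    have hc := symmDiff_card st (σ • st)
    have hcs : (σ • st).card = st.card := Finset.card_smul_finset _ _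
    refine (l.code _ (by omega)).1 ?_
    rw [l.mul, hσ, ← l.conj _ st hst2, hst, show (((⟨x, hK₀ hx⟩ : ↥(Subgroup.normalizer (A : Set G)))) : G) = x from rfl,
      hcomm, mul_inv_cancel_right, c.sq hd]
  obtain ⟨S', hS', hfix, t, r, ht, hr, hcode⟩ := involution_cocode σ hσM hσ2 st hst2 hinvar
  obtain ⟨γ, hγ, rfl⟩ : ∃ γ ∈ Cfsg.M24, S' = γ • S := by
    obtain ⟨γ₁, h1, e1⟩ := CfsgLib.M24Cert.sextets_transitive hS
    obtain ⟨γ₂, h2, e2⟩ := CfsgLib.M24Cert.sextets_transitive hS'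
    exact ⟨γ₂ * γ₁⁻¹, mul_mem h2 (inv_mem h1), by rw [← e2, ← e1, mul_smul, inv_smul_smul]⟩
  obtain ⟨m, rfl⟩ : γ ∈ ψ.range := l.range.symm ▸ hγ
  refine Good.of_conj (m : G)⁻¹ ?_
  set K := K₀.map (MulAut.conj (m : G)⁻¹).toMonoidHom with hKdef
  set x' := (m : G)⁻¹ * x * (m : G)
  set d' := (m : G)⁻¹ * d * (m : G)
  have hmem' : ∀ y, y ∈ K₀ → (m : G)⁻¹ * y * (m : G) ∈ K := fun y hy => ⟨y, hy, by simp [mul_assoc]⟩
  have hK : K ≤ Subgroup.normalizer (A : Set G) := by
    rintro _ ⟨y, hy, rfl⟩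
    exact mul_mem (mul_mem (inv_mem m.2) (hK₀ hy)) (inv_mem (inv_mem m.2))
  have hAmap : A.map (MulAut.conj (m : G)⁻¹).toMonoidHom = A := mem_normalizer_iff_map_conj_eq.1 (inv_mem m.2)
  have hKA : K ⊓ A = ⊥ := by
    rw [← hAmap, hKdef, ← map_inf_eq _ _ _ (MulEquiv.injective _), hKA₀, Subgroup.map_bot]
  have hKA' : K ⊔ A = Subgroup.normalizer (A : Set G) := by
    conv_lhs => rw [← hAmap]
    rw [hKdef, ← Subgroup.map_sup, hKA₀']
    exact mem_normalizer_iff_map_conj_eq.1 (Subgroup.le_normalizer (inv_mem m.2))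
  have hσ' : ψ ⟨x', hK (hmem' x hx)⟩ = (ψ m)⁻¹ * σ * ψ m := by
    rw [hσ, ← map_inv, ← map_mul, ← map_mul]
    rfl
  have hmove : ∀ w : Finset GolayPt, ψ ⟨x', hK (hmem' x hx)⟩ • (ψ m)⁻¹ • w = (ψ m)⁻¹ • σ • w := fun w => by
    rw [hσ', mul_smul, mul_smul, smul_inv_smul]
  rw [show (m : G)⁻¹ * (x * d) * (m : G)⁻¹⁻¹ = x' * d' by simp only [x', d']; group]
  refine good_sextet c l hS hz hduad honto hK hKA hKA' (hmem' x hx)
    (by simpa using c.conj_mem (inv_mem m.2) hd)
    (by rw [show (m : G)⁻¹ * x * m * ((m : G)⁻¹ * x * m) = (m : G)⁻¹ * (x * x) * m by group, hxx]; group)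
    (by rw [show (m : G)⁻¹ * x * m * d' = (m : G)⁻¹ * (x * d) * m by simp only [d']; group, hcomm]; simp only [x', d']; group)
    (fun w hw => ?_) (st := (ψ m)⁻¹ • st) (t := (ψ m)⁻¹ • t) (r := (ψ m)⁻¹ • r) ?_ ?_ ?_ (fun w hw => ?_) ?_
  · have := hfix (ψ m • w) (Finset.smul_mem_smul_finset hw)
    have h := hmove (ψ m • w)
    rw [this, inv_smul_smul] at h
    exact h
  · rwa [Finset.card_smul_finset]
  · rw [← map_inv, ← l.conj _ st hst2, hst]
    simp [d', mul_assoc]
  · rwa [Finset.card_smul_finset]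
  · rw [show w = (ψ m)⁻¹ • ψ m • w from (inv_smul_smul _ _).symm, ← Finset.smul_finset_inter, Finset.card_smul_finset]
    exact hr _ (Finset.smul_mem_smul_finset hw)
  · rw [hmove, ← Finset.smul_finset_symmDiff, ← Finset.smul_finset_symmDiff, ← Finset.smul_finset_symmDiff]
    exact CfsgLib.Golay.supports_smul (inv_mem hγ) hcode

end CfsgLib.JankoFour
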