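import Cfsg.Agent.Lib.JankoFour.Assembly
import Cfsg.Agent.Lib.JankoFour.Invol
import Cfsg.Agent.Lib.JankoFour.Setting
import Cfsg.Agent.Lib.JankoFour.Centraliser.Local

/-!
# Groups of Janko-four type: the orbits and the other centraliser, from the facts about the automizer
-/

set_option autoImplicit false
set_option linter.unusedSectionVars false

namespace CfsgLib.JankoFour

open Subgroup QuadraticMap
open CfsgLib.JankoFour.Thompson (Ctx Ns Zs)

variable {G : Type*} [Group G] [Finite G] {z : G} {Q : Subgroup (centralizer ({z} : Set G))} [Q.Normal]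
  {V : Type*} [AddCommGroup V]
  [Module (ZMod 2) V] [DistribMulAction ((centralizer ({z} : Set G)) ⧸ Q) V] [Finite V]
  {q : QuadraticForm (ZMod 2) V} {π : ↥Q → V} {n : (centralizer ({z} : Set G)) ⧸ Q}
  {M : Subgroup ((centralizer ({z} : Set G)) ⧸ Q)} {φ : ↥M →* ↥Cfsg.Spor.M22} (m : Model z Q q π n M φ)
include m

/-- The two orbits with the centraliser. -/
theorem Model.big_orbits' {B : Subgroup G} (hB : Cfsg.IsElementaryAbelian 2 B) (h11 : Nat.card ↥B = 2 ^ 11) :
    ∃ z' t : G, z' ∈ B ∧ t ∈ B ∧ t ≠ 1 ∧ IsConj z z' ∧ ¬ IsConj z t ∧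
      Set.ncard {v : G | ∃ k ∈ Subgroup.normalizer (B : Set G), k * z' * k⁻¹ = v} = 1771 ∧
      Set.ncard {v : G | ∃ k ∈ Subgroup.normalizer (B : Set G), k * t * k⁻¹ = v} = 276 ∧
      centralizer ({t} : Set G) ≤ Subgroup.normalizer (B : Set G) :=
  big_orbits m (fun _ _ _ c _ ht => c.centralizer_pair_le ht) hB h11

/-- The other centraliser, given the complements. -/
theorem Model.other_centraliser'
    (hsplit : ∀ (s : V) (A : Subgroup G) (Ab : Subgroup ((centralizer ({z} : Set G)) ⧸ Q)), Ctx Q q π n M φ s A Ab →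
      ∃ K : Subgroup G, K ≤ Subgroup.normalizer (A : Set G) ∧ K ⊓ A = ⊥ ∧ K ⊔ A = Subgroup.normalizer (A : Set G))
    {b : G} (hb : orderOf b = 2) (hnc : ¬ IsConj z b) :
    ∃ W K : Subgroup G, W ≤ centralizer ({b} : Set G) ∧ K ≤ centralizer ({b} : Set G) ∧
      centralizer ({b} : Set G) ≤ Subgroup.normalizer (W : Set G) ∧ Cfsg.IsElementaryAbelian 2 W ∧
      Nat.card ↥W = 2 ^ 11 ∧ K ⊓ W = ⊥ ∧ K ⊔ W = centralizer ({b} : Set G) ∧
      Nonempty (↥K ≃* MulAut ↥Cfsg.Spor.M22) := by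
  refine other_centraliser m hsplit (fun _ _ _ c _ ht => c.centralizer_pair_le ht) (fun s A Ab c b hb hnc => ?_) hb hnc
  obtain ⟨K, hK, hKA, hKA'⟩ := hsplit s A Ab c
  exact exists_conj_into c hK hKA hKA' hb hnc

end CfsgLib.JankoFour
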