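import Cfsg.Agent.Lib.JankoFour.FiveInputs
import Cfsg.Prelude.Def_TwoFusion

/-!
# The local structure at an element of order five
-/

set_option autoImplicit false
set_option linter.unusedSectionVars false
set_option linter.style.haveILetI false

namespace CfsgLib.JankoFour.Five

open Subgroup QuadraticMap CfsgLib.LargeExtra
open scoped Pointwise

variable {G : Type*} [Group G] [Finite G]
variable {z : G} {Q : Subgroup (centralizer ({z} : Set G))} [Q.Normal]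
  {V : Type*} [AddCommGroup V] [Module (ZMod 2) V] [DistribMulAction ((centralizer ({z} : Set G)) ⧸ Q) V] [Finite V]
  {q : QuadraticForm (ZMod 2) V} {π : ↥Q → V} {n : (centralizer ({z} : Set G)) ⧸ Q}
  {M : Subgroup ((centralizer ({z} : Set G)) ⧸ Q)} {φ : ↥M →* ↥Cfsg.Spor.M22}
  {f : centralizer ({z} : Set G)} {u : V}

set_option quotPrecheck false in
local notation "Hz" => centralizer ({z} : Set G)

theorem centralizer_zpowers (f : centralizer ({z} : Set G)) :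
    centralizer (zpowers (f : G) : Set G) = cX f := by
  rw [zpowers_eq_closure, centralizer_closure]

namespace Ctx

variable (c : Ctx Q q π n M φ f u) (hT : Second z f)

include c hT

theorem card_cX : Nat.card ↥(cX f) = 6720 := by rw [c.cX_eq hT, c.card_cY]

theorem nX_le : nX f ≤ normalizer (c.cE : Set G) := by
  intro g hg
  have h1 : g * (f : G) * g⁻¹ ≠ 1 := fun e => by
    have := c.ordG
    rw [conj_eq_one_iff.1 e, orderOf_one] at this
    omega
  obtain ⟨w, hw, hwf⟩ := c.exists_conj_gen ((mem_normalizer_iff.1 hg _).1 (mem_zpowers _)) h1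
  have h : (w : G)⁻¹ * g ∈ cX f := mem_cX.2 (by
    calc (w : G)⁻¹ * g * (f : G) = (w : G)⁻¹ * (g * (f : G) * g⁻¹) * g := by group
      _ = (w : G)⁻¹ * ((w : G) * (f : G) * (w : G)⁻¹) * g := by rw [hwf]
      _ = (f : G) * ((w : G)⁻¹ * g) := by group)
  rw [c.cX_eq hT] at h
  have := mul_mem (c.nH_normalizes ⟨w.2, hw⟩) (show (w : G)⁻¹ * g ∈ normalizer (c.cE : Set G) from h.2)
  rwa [mul_inv_cancel_left] at this

theorem card_nX : Nat.card ↥(nX f) = 26880 := by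
  classical
  choose w hw hwf using fun y : {y : G // y ∈ zpowers (f : G) ∧ y ≠ 1} => c.exists_conj_gen y.2.1 y.2.2
  let F : {y : G // y ∈ zpowers (f : G) ∧ y ≠ 1} × ↥(cX f) → ↥(nX f) := fun p =>
    ⟨(w p.1 : G) * p.2, mul_mem (hw p.1) (c.cX_le_nX p.2.2)⟩
  have hconj : ∀ p, (F p : G) * (f : G) * (F p : G)⁻¹ = (p.1 : G) := fun p => by
    show (w p.1 : G) * (p.2 : G) * (f : G) * ((w p.1 : G) * (p.2 : G))⁻¹ = _
    calc (w p.1 : G) * (p.2 : G) * (f : G) * ((w p.1 : G) * (p.2 : G))⁻¹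
        = (w p.1 : G) * ((p.2 : G) * (f : G) * (p.2 : G)⁻¹) * (w p.1 : G)⁻¹ := by group
      _ = _ := by rw [mem_cX.1 p.2.2, mul_inv_cancel_right, hwf]
  have hbij : Function.Bijective F := by
    constructor
    · intro p p' e
      have h1 : p.1 = p'.1 := Subtype.ext (by rw [← hconj, ← hconj, e])
      have h2 : (w p.1 : G) * (p.2 : G) = (w p'.1 : G) * (p'.2 : G) := congrArg Subtype.val e
      rw [h1] at h2
      exact Prod.ext h1 (Subtype.ext (mul_left_cancel h2))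
    · intro g
      set y : {y : G // y ∈ zpowers (f : G) ∧ y ≠ 1} := ⟨(g : G) * (f : G) * (g : G)⁻¹,
        (mem_normalizer_iff.1 g.2 _).1 (mem_zpowers _), fun e => by
          have := c.ordG
          rw [conj_eq_one_iff.1 e, orderOf_one] at this
          omega⟩ with hy
      refine ⟨⟨y, ⟨(w y : G)⁻¹ * g, mem_cX.2 ?_⟩⟩, Subtype.ext (mul_inv_cancel_left _ _)⟩
      have h : (w y : G) * (f : G) * (w y : G)⁻¹ = (g : G) * (f : G) * (g : G)⁻¹ := hwf y
      calc (w y : G)⁻¹ * (g : G) * (f : G) = (w y : G)⁻¹ * ((g : G) * (f : G) * (g : G)⁻¹) * (g : G) := by group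
        _ = (w y : G)⁻¹ * ((w y : G) * (f : G) * (w y : G)⁻¹) * (g : G) := by rw [h]
        _ = (f : G) * ((w y : G)⁻¹ * (g : G)) := by group
  rw [← Nat.card_congr (Equiv.ofBijective F hbij), Nat.card_prod, c.card_cX hT,
    show Nat.card {y : G // y ∈ zpowers (f : G) ∧ y ≠ 1} = ((zpowers (f : G) : Set G) \ {1}).ncard from Nat.card_coe_set_eq _,
    Set.ncard_sdiff_singleton_of_mem (one_mem _), ← Nat.card_coe_set_eq]
  simp [c.cardF]

theorem not_dvd_sq : ¬ 25 ∣ Nat.card G := by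
  intro h
  haveI : Fact (Nat.Prime 5) := ⟨by norm_num⟩
  obtain ⟨P, hP, hle⟩ := Sylow.exists_subgroup_card_pow_succ (n := 1) (p := 5) (by simpa using h)
    (H := zpowers (f : G)) (by rw [c.cardF, pow_one])
  haveI := IsPGroup.isMulCommutative_of_card_eq_prime_sq (G := ↥P) hP
  have hPle : P ≤ cX f := fun x hx =>
    mem_cX.2 (congrArg Subtype.val (mul_comm' (⟨x, hx⟩ : ↥P) ⟨_, hle (mem_zpowers _)⟩))
  have := card_dvd_of_le hPle
  rw [hP, c.card_cX hT] at this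
  norm_num at this

theorem direct : Cfsg.IsInternalDirectProduct (zpowers (f : G)) c.cJ (centralizer (zpowers (f : G) : Set G)) := by
  rw [centralizer_zpowers]
  refine ⟨zpowers_le.2 (mem_cX.2 rfl), fun _ hj => c.cY_le (c.cJ_le hj), ?_, ?_, ?_⟩
  · intro a ha j hj
    obtain ⟨i, rfl⟩ := mem_zpowers_iff.1 ha
    exact ((show Commute j (f : G) from mem_cX.1 (c.cY_le (c.cJ_le hj))).zpow_right i).symm.eq
  · exact (Subgroup.eq_bot_iff_forall _).2 fun x hx => c.F_inf_cJ hx.1 hx.2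
  · refine le_antisymm (sup_le (zpowers_le.2 (mem_cX.2 rfl)) fun _ hj => c.cY_le (c.cJ_le hj)) fun x hx => ?_
    rw [c.cX_eq hT] at hx
    obtain ⟨a, ha, j, hj, rfl⟩ := c.cY_decomp hx
    exact mul_mem_sup ha hj

theorem exists_four : ∃ w : G, w ^ 4 = 1 ∧ w * (f : G) * w⁻¹ = (f : G) ^ 2 := by
  have hf2 : (f : G) ^ 2 ≠ 1 := fun e => by
    have := orderOf_dvd_of_pow_eq_one e
    rw [c.ordG] at this
    norm_num at this
  obtain ⟨w, hw, hwf⟩ := c.exists_conj_gen (pow_mem (mem_zpowers _) 2) hf2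
  have hwE := c.nH_normalizes ⟨w.2, hw⟩
  obtain ⟨j, hj⟩ := c.toAut_surjective (c.cE.normalizerMonoidHom ⟨(w : G), hwE⟩)
  set w0 : G := (j : G)⁻¹ * (w : G) with hw0
  have hjX : (j : G) ∈ cX f := c.cY_le (c.cJ_le j.2)
  have hw0E : ∀ e ∈ c.cE, w0 * e * w0⁻¹ = e := by
    intro e he
    have h1 : (j : G) * e * (j : G)⁻¹ = (w : G) * e * (w : G)⁻¹ :=
      congrArg (fun θ : MulAut ↥c.cE => ((θ ⟨e, he⟩ : ↥c.cE) : G)) hj
    calc w0 * e * w0⁻¹ = (j : G)⁻¹ * ((w : G) * e * (w : G)⁻¹) * (j : G) := by rw [hw0]; group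
      _ = e := by rw [← h1]; group
  have hw0f : w0 * (f : G) * w0⁻¹ = (f : G) ^ 2 := by
    have h1 : Commute (j : G) ((f : G) ^ 2) := (show Commute (j : G) (f : G) from mem_cX.1 hjX).pow_right 2
    calc w0 * (f : G) * w0⁻¹ = (j : G)⁻¹ * ((w : G) * (f : G) * (w : G)⁻¹) * (j : G) := by rw [hw0]; group
      _ = (j : G)⁻¹ * ((f : G) ^ 2 * (j : G)) := by rw [hwf, mul_assoc]
      _ = (f : G) ^ 2 := by rw [← h1.eq, inv_mul_cancel_left]
  have hpow : ∀ i : ℕ, w0 ^ i * (f : G) * (w0 ^ i)⁻¹ = (f : G) ^ 2 ^ i := by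
    intro i
    induction i with
    | zero => simp
    | succ i ih =>
      calc w0 ^ (i + 1) * (f : G) * (w0 ^ (i + 1))⁻¹ = w0 * (w0 ^ i * (f : G) * (w0 ^ i)⁻¹) * w0⁻¹ := by
            rw [pow_succ']; group
        _ = (w0 * (f : G) * w0⁻¹) ^ 2 ^ i := by rw [ih, conj_pow]
        _ = (f : G) ^ 2 ^ (i + 1) := by rw [hw0f, ← pow_mul, pow_succ']
  have hw0Ei : ∀ i : ℕ, ∀ e ∈ c.cE, w0 ^ i * e = e * w0 ^ i := fun i e he =>
    ((show Commute w0 e from mul_inv_eq_iff_eq_mul.1 (hw0E e he)).pow_left i).eq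
  have h4X : w0 ^ 4 ∈ cX f := by
    refine mem_cX.2 (mul_inv_eq_iff_eq_mul.1 ?_)
    rw [hpow, show 2 ^ 4 = 5 * 3 + 1 from rfl, pow_succ, pow_mul, c.f_five, one_pow, one_mul]
  rw [c.cX_eq hT] at h4X
  obtain ⟨a, ha, e, he, hae⟩ := c.cent_cE h4X (hw0Ei 4)
  set w1 : G := w0 ^ 5 with hw1
  have hw1f : w1 * (f : G) * w1⁻¹ = (f : G) ^ 2 := by
    rw [hw1, hpow, show 2 ^ 5 = 5 * 6 + 2 from rfl, pow_add, pow_mul, c.f_five, one_pow, one_mul]
  have hw1E : ∀ e ∈ c.cE, w1 * e = e * w1 := hw0Ei 5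
  have hfe : ∀ {a e : G}, a ∈ zpowers (f : G) → e ∈ c.cE → Commute a e := by
    intro a e ha he
    obtain ⟨i, rfl⟩ := mem_zpowers_iff.1 ha
    exact ((show Commute e (f : G) from mem_cX.1 (c.cE_le_cX he)).zpow_right i).symm
  have hw14 : w1 ^ 4 ∈ c.cE := by
    have h5 : a ^ 5 = 1 := by
      obtain ⟨i, rfl⟩ := mem_zpowers_iff.1 ha
      rw [← zpow_natCast, ← zpow_mul, mul_comm, zpow_mul, zpow_natCast, c.f_five, one_zpow]
    rw [hw1, ← pow_mul, show 5 * 4 = 4 * 5 from rfl, pow_mul, hae, (hfe ha he).mul_pow, h5, one_mul]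
    exact pow_mem he 5
  refine ⟨w1, c.eq_one_of_fixed hw14 fun j hj => ?_, hw1f⟩
  have hjX : j ∈ cX f := c.cY_le (c.cJ_le hj)
  set x := w1⁻¹ * (j * w1 * j⁻¹) with hx
  have hxX : x ∈ cX f := by
    refine mem_cX.2 (mul_inv_eq_iff_eq_mul.1 ?_)
    have h1 : Commute j ((f : G) ^ 2) := (show Commute j (f : G) from mem_cX.1 hjX).pow_right 2
    have h2 : j⁻¹ * (f : G) * j = (f : G) := by rw [mul_assoc, ← mem_cX.1 hjX, inv_mul_cancel_left]
    calc x * (f : G) * x⁻¹ = w1⁻¹ * (j * (w1 * (j⁻¹ * (f : G) * j) * w1⁻¹) * j⁻¹) * w1 := by rw [hx]; group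
      _ = w1⁻¹ * (f : G) ^ 2 * w1 := by rw [h2, hw1f, h1.eq, mul_inv_cancel_right]
      _ = (f : G) := by rw [← hw1f]; group
  have hxE : ∀ e ∈ c.cE, x * e = e * x := by
    intro e he
    have hje : j⁻¹ * e * j ∈ c.cE := by
      have := c.conj_mem_cE (inv_mem (c.cJ_le hj)) he
      rwa [inv_inv] at this
    refine mul_inv_eq_iff_eq_mul.1 ?_
    calc x * e * x⁻¹ = w1⁻¹ * (j * (w1 * (j⁻¹ * e * j) * w1⁻¹) * j⁻¹) * w1 := by rw [hx]; group
      _ = w1⁻¹ * e * w1 := by rw [hw1E _ hje, mul_inv_cancel_right]; group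
      _ = e := by rw [mul_assoc, ← hw1E e he, inv_mul_cancel_left]
  rw [c.cX_eq hT] at hxX
  obtain ⟨a', ha', e', he', hxe⟩ := c.cent_cE hxX hxE
  obtain ⟨k, hk⟩ := mem_zpowers_iff.1 ha'
  -- the translate is a conjugate
  have hinv : w1⁻¹ * (f : G) * w1 = (f : G) ^ (3 : ℕ) := by
    have h2 : w1 * (f : G) ^ (3 : ℕ) * w1⁻¹ = (f : G) := by
      rw [← conj_pow, hw1f, ← pow_mul, show 2 * 3 = 5 + 1 from rfl, pow_succ, c.f_five, one_mul]
    calc w1⁻¹ * (f : G) * w1 = w1⁻¹ * (w1 * (f : G) ^ (3 : ℕ) * w1⁻¹) * w1 := by rw [h2]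
      _ = (f : G) ^ (3 : ℕ) := by group
  have hca : w1 * a' = (f : G) ^ (3 * k) * w1 * ((f : G) ^ (3 * k))⁻¹ := by
    have h1 : w1⁻¹ * (f : G) ^ (3 * k) * w1 = (f : G) ^ (9 * k) := by
      calc w1⁻¹ * (f : G) ^ (3 * k) * w1 = w1⁻¹ * (f : G) ^ (3 * k) * (w1⁻¹)⁻¹ := by rw [inv_inv]
        _ = (w1⁻¹ * (f : G) * w1) ^ (3 * k) := by rw [← conj_zpow, inv_inv]
        _ = (f : G) ^ (9 * k) := by
          rw [hinv, ← zpow_natCast, ← zpow_mul]; congr 1; push_cast; ring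
    have h2 : (f : G) ^ (6 * k) = (f : G) ^ k := by
      rw [show 6 * k = (5 : ℤ) * k + k by ring, zpow_add, zpow_mul,
        show (f : G) ^ (5 : ℤ) = 1 by exact_mod_cast c.f_five, one_zpow, one_mul]
    calc w1 * a' = w1 * ((f : G) ^ (9 * k) * ((f : G) ^ (3 * k))⁻¹) := by
          rw [← hk, ← zpow_neg, ← zpow_add, show 9 * k + -(3 * k) = 6 * k by ring, h2]
      _ = (f : G) ^ (3 * k) * w1 * ((f : G) ^ (3 * k))⁻¹ := by rw [← h1]; group
  have hjw : j * w1 * j⁻¹ = (w1 * a') * e' := by rw [mul_assoc w1, ← hxe, hx, mul_inv_cancel_left]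
  have hcomm : Commute (w1 * a') e' := (show Commute w1 e' from hw1E e' he').mul_left (hfe ha' he')
  have he4 : e' ^ 4 = 1 := by rw [show 4 = 2 * 2 from rfl, pow_mul, pow_two e', c.cE_sq he', one_pow]
  calc j * w1 ^ 4 * j⁻¹ = (j * w1 * j⁻¹) ^ 4 := conj_pow.symm
    _ = (w1 * a') ^ 4 := by rw [hjw, hcomm.mul_pow, he4, mul_one]
    _ = (f : G) ^ (3 * k) * w1 ^ 4 * ((f : G) ^ (3 * k))⁻¹ := by rw [hca, conj_pow]
    _ = w1 ^ 4 := by rw [(hfe (zpow_mem (mem_zpowers _) _) hw14).eq, mul_inv_cancel_right]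

theorem frobenius : ∃ R : Subgroup G, zpowers (f : G) ≤ R ∧ R ≤ nX f ∧ Nat.card ↥R = 20 ∧
    R ⊓ cX f = zpowers (f : G) := by
  obtain ⟨w, hw4, hwf⟩ := c.exists_four hT
  have hpow : ∀ i : ℕ, w ^ i * (f : G) * (w ^ i)⁻¹ = (f : G) ^ 2 ^ i := by
    intro i
    induction i with
    | zero => simp
    | succ i ih =>
      calc w ^ (i + 1) * (f : G) * (w ^ (i + 1))⁻¹ = w * (w ^ i * (f : G) * (w ^ i)⁻¹) * w⁻¹ := by
            rw [pow_succ']; group
        _ = (w * (f : G) * w⁻¹) ^ 2 ^ i := by rw [ih, conj_pow]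
        _ = (f : G) ^ 2 ^ (i + 1) := by rw [hwf, ← pow_mul, pow_succ']
  have hwN : w ∈ nX f := by
    rw [mem_normalizer_iff]
    have hmap : (zpowers (f : G)).map (MulAut.conj w).toMonoidHom = zpowers (f : G) := by
      rw [MonoidHom.map_zpowers, MulEquiv.coe_toMonoidHom, MulAut.conj_apply, hwf]
      refine eq_of_le_of_card_ge (zpowers_le.2 (pow_mem (mem_zpowers _) 2)) (le_of_eq ?_)
      rw [Nat.card_zpowers, Nat.card_zpowers, ← hwf]
      exact (orderOf_injective (MulAut.conj w).toMonoidHom (MulAut.conj w).injective (f : G)).symm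
    intro x
    constructor
    · intro hx; rw [← hmap]; exact ⟨x, hx, rfl⟩
    · intro hx
      rw [← hmap] at hx
      obtain ⟨y, hy, e⟩ := hx
      rwa [← (MulAut.conj w).injective (e.trans (MulAut.conj_apply _ _).symm)]
  -- the exponents
  have hkey : ∀ i : Fin 4, w ^ (i : ℕ) ∈ cX f → i = 0 := by
    intro i hi
    have h := hpow i
    rw [mem_cX.1 hi, mul_inv_cancel_right] at h
    nth_rewrite 1 [← pow_one (f : G)] at h
    rw [pow_inj_mod, c.ordG] at h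
    have key : ∀ i : Fin 4, 1 % 5 = 2 ^ (i : ℕ) % 5 → i = 0 := by decide
    exact key i h
  have h4 : orderOf w ∣ 4 := orderOf_dvd_of_pow_eq_one hw4
  set R := zpowers (f : G) ⊔ zpowers w with hR
  have hcoe : ∀ x : G, x ∈ R ↔ ∃ a ∈ zpowers (f : G), ∃ i : Fin 4, a * w ^ (i : ℕ) = x := by
    intro x
    have h : (R : Set G) = (zpowers (f : G) : Set G) * (zpowers w : Set G) :=
      coe_mul_of_right_le_normalizer_left _ _ (zpowers_le.2 hwN)
    rw [← SetLike.mem_coe, h, Set.mem_mul]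
    constructor
    · rintro ⟨a, ha, b, hb, rfl⟩
      rw [SetLike.mem_coe, ← (isOfFinOrder_of_finite w).mem_powers_iff_mem_zpowers] at hb
      obtain ⟨i, rfl⟩ := hb
      refine ⟨a, ha, ⟨i % 4, Nat.mod_lt _ (by norm_num)⟩, ?_⟩
      show a * w ^ (i % 4) = a * w ^ i
      rw [← pow_eq_pow_mod i hw4]
    · rintro ⟨a, ha, i, rfl⟩
      exact ⟨a, ha, _, pow_mem (mem_zpowers w) _, rfl⟩
  refine ⟨R, le_sup_left, sup_le (fun x hx => c.cX_le_nX (zpowers_le.2 (mem_cX.2 rfl) hx)) (zpowers_le.2 hwN), ?_, ?_⟩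
  · let g : ↥(zpowers (f : G)) × Fin 4 → ↥R := fun p => ⟨(p.1 : G) * w ^ (p.2 : ℕ), (hcoe _).2 ⟨_, p.1.2, p.2, rfl⟩⟩
    have hg : Function.Bijective g := by
      refine ⟨fun p p' e => ?_, fun x => ?_⟩
      · have e' : (p.1 : G) * w ^ (p.2 : ℕ) = (p'.1 : G) * w ^ (p'.2 : ℕ) := congrArg Subtype.val e
        have aux : ∀ i j : Fin 4, (j : ℕ) ≤ (i : ℕ) → ∀ a b : ↥(zpowers (f : G)),
            (a : G) * w ^ (i : ℕ) = (b : G) * w ^ (j : ℕ) → i = j := by
          intro i j hji a b e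
          have h1 : w ^ ((i : ℕ) - (j : ℕ)) = (a : G)⁻¹ * (b : G) := by
            have h0 : w ^ ((i : ℕ) - (j : ℕ)) * w ^ (j : ℕ) = (a : G)⁻¹ * (b : G) * w ^ (j : ℕ) := by
              rw [← pow_add, Nat.sub_add_cancel hji, mul_assoc, ← e, inv_mul_cancel_left]
            exact mul_right_cancel h0
          have h2 : w ^ ((i : ℕ) - (j : ℕ)) ∈ cX f := by
            rw [h1]
            exact zpowers_le.2 (mem_cX.2 rfl) (mul_mem (inv_mem a.2) b.2)
          have h3 := congrArg Fin.val (hkey ⟨(i : ℕ) - (j : ℕ), by omega⟩ h2)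
          simp only [Fin.val_zero] at h3
          exact Fin.ext (by omega)
        have hij : p.2 = p'.2 := by
          rcases le_total (p'.2 : ℕ) (p.2 : ℕ) with h | h
          · exact aux _ _ h _ _ e'
          · exact (aux _ _ h _ _ e'.symm).symm
        rw [hij] at e'
        exact Prod.ext (Subtype.ext (mul_right_cancel e')) hij
      · obtain ⟨a, ha, i, hi⟩ := (hcoe x).1 x.2
        exact ⟨⟨⟨a, ha⟩, i⟩, Subtype.ext hi⟩
    rw [← Nat.card_congr (Equiv.ofBijective g hg), Nat.card_prod, c.cardF, Nat.card_fin]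
  · refine le_antisymm ?_ (le_inf le_sup_left (zpowers_le.2 (mem_cX.2 rfl)))
    rintro x ⟨hxR, hxX⟩
    obtain ⟨a, ha, i, rfl⟩ := (hcoe x).1 hxR
    have h1 : w ^ (i : ℕ) ∈ cX f := by
      have := mul_mem (inv_mem (zpowers_le.2 (mem_cX.2 rfl) ha : a ∈ cX f)) hxX
      rwa [inv_mul_cancel_left] at this
    rw [hkey i h1]
    simpa using ha

/-- The local structure at an element of order five. -/
theorem structure_five :
    ¬ (25 ∣ Nat.card G) ∧
    (∃ J : Subgroup G, Cfsg.IsInternalDirectProduct (zpowers (f : G)) J (centralizer (zpowers (f : G) : Set G)) ∧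
      ∃ (E : Subgroup ↥J) (_ : E.Normal), Cfsg.IsElementaryAbelian 2 E ∧ Nat.card ↥E = 8 ∧
        Nonempty (↥J ⧸ E ≃* Matrix.SpecialLinearGroup (Fin 3) (ZMod 2)) ∧ ∀ S : Subgroup ↥J, ¬ E.IsComplement' S) ∧
    (∃ R : Subgroup G, zpowers (f : G) ≤ R ∧ R ≤ normalizer (zpowers (f : G) : Set G) ∧ Nat.card ↥R = 20 ∧
      R ⊓ centralizer (zpowers (f : G) : Set G) = zpowers (f : G)) ∧
    Nat.card ↥(normalizer (zpowers (f : G) : Set G)) = 2 ^ 8 * 3 * 5 * 7 := by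
  refine ⟨c.not_dvd_sq hT, ⟨c.cJ, c.direct hT, c.cE.subgroupOf c.cJ, inferInstance, ⟨⟨⟨?_⟩⟩, ?_⟩, c.card_cE_sub,
    c.quot_equiv, c.nonsplit⟩, ?_, by rw [c.card_nX hT]; norm_num⟩
  · exact fun a b => Subtype.ext (Subtype.ext (c.cE_comm a.2 b.2))
  · intro a ha
    refine Subtype.ext ?_
    rw [SubmonoidClass.coe_pow, pow_two]
    exact c.cE_sq ha
  · rw [centralizer_zpowers]
    exact c.frobenius hT

end Ctx

end CfsgLib.JankoFour.Five
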