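import Cfsg.Agent.Lib.JankoFour.SylowFiveSeven
import Cfsg.Agent.Lib.JankoFour.Rigid.Orbit
import Cfsg.Agent.Lib.JankoFour.Rigid.Exists
import Cfsg.Agent.Lib.JankoFour.Rigid.FiveCert

/-!
# The elements of order five in the rigid model
-/

set_option autoImplicit false
set_option linter.unusedSectionVars false

namespace CfsgLib.JankoFour

open Subgroup QuadraticMap

variable {V : Type*} [AddCommGroup V] [Module (ZMod 2) V] [Finite V]
  {K : Type*} [Group K] [Finite K] [DistribMulAction K V]
  {q : QuadraticForm (ZMod 2) V} {n : K} {M : Subgroup K} {crd : ℕ → V} {a f u t : K}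

namespace Rig

variable (R : Rig q n M crd a f u t)

include R

theorem acts_pow {k : K} {g : List ℕ} (h : Acts crd k g) : ∀ e : ℕ, Acts crd (k ^ e) (Rigid.mpow g e)
  | 0 => by rw [pow_zero]; exact R.acts_one
  | e + 1 => by rw [pow_succ']; exact h.mul (acts_pow h e)

theorem f_five : orderOf f = 5 := by
  haveI : Fact (Nat.Prime 5) := ⟨by norm_num⟩
  refine orderOf_eq_prime ?_ ?_
  · refine R.acts_unique ?_ R.acts_one
    rw [← eq_of_beq Rigid.five_rel_checks.2.2.2.1]
    exact R.acts_pow R.actF 5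
  · intro e
    have h := Rigid.five_rel_checks.2.2.2.2
    rw [bne_iff_ne] at h
    refine h (R.acts_ext ?_ ?_ R.actF (e ▸ R.acts_one))
    · decide
    · decide

theorem tf_comm : t * f = f * t := by
  refine R.acts_unique (R.actT.mul R.actF) ?_
  have h : Rigid.comp Rigid.mT Rigid.mF = Rigid.comp Rigid.mF Rigid.mT := eq_of_beq Rigid.five_rel_checks.1
  rw [h]
  exact R.actF.mul R.actT

theorem uf_rel : u * f = f ^ 2 * u := by
  refine R.acts_unique (R.actU.mul R.actF) ?_
  have h : Rigid.comp Rigid.mU Rigid.mF = Rigid.comp (Rigid.comp Rigid.mF Rigid.mF) Rigid.mU :=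
    eq_of_beq Rigid.five_rel_checks.2.2.1
  rw [h, pow_two]
  exact (R.actF.mul R.actF).mul R.actU

theorem fix_iff {x : ℕ} (hx : x < 4096) : f • crd x = crd x ↔ Rigid.app Rigid.mF x = x := by
  rw [R.actF x]
  exact ⟨fun h => R.inj _ _ (Rigid.app_lt (by decide) x) hx h, fun h => by rw [h]⟩

theorem fix_card : ({v : V | f • v = v}).ncard = 16 := by
  have e : {v : V | f • v = v} = crd '' ↑((List.range 4096).filter fun x => Rigid.app Rigid.mF x == x).toFinset := by
    ext v
    obtain ⟨x, hx, rfl⟩ := R.surj v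
    simp only [Set.mem_ofPred_eq, R.fix_iff hx, List.coe_toFinset, Set.mem_image, List.mem_filter, List.mem_range,
      beq_iff_eq]
    exact ⟨fun h => ⟨x, ⟨hx, h⟩, rfl⟩, fun ⟨y, ⟨hy, h⟩, e⟩ => R.inj y x hy hx e ▸ h⟩
  rw [e, Set.InjOn.ncard_image, Set.ncard_coe_finset, List.toFinset_card_of_nodup (List.nodup_range.filter _)]
  · exact eq_of_beq Rigid.five_fix_checks.1
  · intro x hx y hy he
    simp only [List.coe_toFinset, Set.mem_ofPred_eq, List.mem_filter, List.mem_range] at hx hy
    exact R.inj x y hx.1 hy.1 he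

theorem fiveU_facts : f • crd Rigid.fiveU = crd Rigid.fiveU ∧ crd Rigid.fiveU ≠ 0 ∧ q (crd Rigid.fiveU) = 0 ∧
    crd Rigid.fiveU ∈ MulAction.orbit K (crd Rigid.root693) := by
  have h := Rigid.five_fix_checks.2.2.1
  simp only [Bool.and_eq_true, beq_iff_eq, Bool.not_eq_true'] at h
  refine ⟨(R.fix_iff (by decide)).2 h.1.2, fun e => ?_, ?_, R.orbit693 ▸ ⟨_, ⟨by decide, h.1.1⟩, rfl⟩⟩
  · exact absurd ((R.crd_eq_zero (by decide)).1 e) (by decide)
  · rw [R.q_crd, h.2]; rfl

/-- The singular fixed vectors of the short orbit form one line. -/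
theorem line_unique {v : V} (hv : f • v = v) (hv0 : v ≠ 0) (hq : q v = 0)
    (ho : (MulAction.orbit K v).ncard = 693) :
    v = crd Rigid.fiveU ∨ v = n • crd Rigid.fiveU ∨ v = n • n • crd Rigid.fiveU := by
  have h693 : v ∈ MulAction.orbit K (crd Rigid.root693) := by
    rcases R.orbit_two v hv0 hq with h | h
    · exact h
    · rw [MulAction.orbit_eq_iff.2 h, R.orbit1386_card] at ho
      omega
  rw [R.orbit693] at h693
  obtain ⟨x, ⟨hx, hc⟩, rfl⟩ := h693
  have h := List.all_eq_true.1 Rigid.five_fix_checks.2.1 x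
    (List.mem_filter.2 ⟨List.mem_range.2 hx, beq_iff_eq.2 ((R.fix_iff hx).1 hv)⟩)
  simp only [hc, Bool.not_true, Bool.false_or, Bool.or_eq_true, beq_iff_eq] at h
  rw [R.actN, R.actN]
  rcases h with (h | h) | h
  · exact .inl (congrArg crd h)
  · exact .inr (.inl (congrArg crd h))
  · exact .inr (.inr (congrArg crd h))

theorem stab_fiveU_card : Nat.card ↥(MulAction.stabilizer K (crd Rigid.fiveU)) = 3840 := by
  have h := (MulAction.stabilizer K (crd Rigid.fiveU)).card_mul_index
  rw [MulAction.index_stabilizer, MulAction.orbit_eq_iff.2 R.fiveU_facts.2.2.2, R.orbit693_card, R.cardK] at h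
  omega

theorem five_normalizer_le_stab :
    Nat.card ↥(normalizer (zpowers f : Set K) ⊓ MulAction.stabilizer K (crd Rigid.fiveU)) ≤ 40 := by
  classical
  haveI : Fact (Nat.Prime 5) := ⟨by norm_num⟩
  set S := MulAction.stabilizer K (crd Rigid.fiveU) with hS
  have hfac : (Nat.card ↥S).factorization 5 = 1 := by
    rw [R.stab_fiveU_card, show (3840 : ℕ) = 768 * 5 by norm_num, Nat.factorization_mul (by norm_num) (by norm_num),
      Finsupp.add_apply, Nat.factorization_eq_zero_of_not_dvd (by norm_num), zero_add,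
      Nat.Prime.factorization_self (by norm_num)]
  have mk : ∀ x : ↥S, orderOf x = 5 → ∃ P : Sylow 5 ↥S, (P : Subgroup ↥S) = zpowers x := fun x hx =>
    ⟨Sylow.ofCard (zpowers x) (by rw [Nat.card_zpowers, hx, hfac, pow_one]), rfl⟩
  have hlen := eq_of_beq Rigid.five_sylow_checks.1
  have hall := List.all_eq_true.1 Rigid.five_sylow_checks.2.1
  have hw : ∀ i : Fin 17, ∃ g, g = Rigid.fiveMats.getD i [] ∧ Rigid.Valid g = true ∧
      (∃ x : ↥S, orderOf x = 5 ∧ Acts crd (x : K) g) := by
    intro i
    have hi : (i : ℕ) < Rigid.fiveMats.length := by rw [hlen]; exact i.2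
    have hmem : Rigid.fiveMats.getD i [] ∈ Rigid.fiveMats := by
      rw [List.getD_eq_getElem _ _ hi]; exact List.getElem_mem hi
    have h := hall _ hmem
    simp only [Bool.and_eq_true, bne_iff_ne, beq_iff_eq] at h
    have hmap : Rigid.fiveWords.map Rigid.wordG = Rigid.fiveMats := eq_of_beq Rigid.five_mats_check
    obtain ⟨w, -, hwg⟩ := List.mem_map.1
      (show Rigid.fiveMats.getD i [] ∈ Rigid.fiveWords.map Rigid.wordG by rw [hmap]; exact hmem)
    have hv : Rigid.Valid (Rigid.fiveMats.getD i []) = true := hwg ▸ Rigid.wordG_valid w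
    have hact : Acts crd (wordK a f u n t w) (Rigid.fiveMats.getD i []) := hwg ▸ R.acts_word w
    refine ⟨_, rfl, hv, ⟨wordK a f u n t w, ?_⟩, ?_, hact⟩
    · rw [hS, MulAction.mem_stabilizer_iff, hact, h.2]
    · rw [Subgroup.orderOf_mk]
      refine orderOf_eq_prime (R.acts_unique (h.1.2 ▸ R.acts_pow hact 5) R.acts_one) fun e => h.1.1 ?_
      exact R.acts_ext hv (by decide) hact (e ▸ R.acts_one)
  choose g hg hgv x hx hxg using hw
  choose P hP using fun i => mk (x i) (hx i)
  have hinj : Function.Injective P := by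
    intro i j e
    by_contra hij
    have h1 : x i ∈ zpowers (x j) := by rw [← hP, ← e, hP]; exact mem_zpowers _
    rw [mem_zpowers_iff_mem_range_orderOf, hx, Finset.mem_image] at h1
    obtain ⟨e', he', h2⟩ := h1
    have h3 := List.all_eq_true.1 Rigid.five_sylow_checks.2.2 i (List.mem_range.2 i.2)
    have h4 := List.all_eq_true.1 h3 j (List.mem_range.2 j.2)
    rw [Bool.or_eq_true] at h4
    have h5 : ((i : ℕ) == (j : ℕ)) = false := beq_false_of_ne fun h => hij (Fin.ext h)
    rw [h5] at h4
    have h6 := List.all_eq_true.1 (h4.resolve_left (by decide)) e' (List.mem_range.2 (Finset.mem_range.1 he'))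
    rw [bne_iff_ne, ← hg, ← hg] at h6
    have hvp : ∀ e, Rigid.Valid (Rigid.mpow (g j) e) = true := fun e => by
      induction e with
      | zero => exact ((Bool.and_eq_true _ _).mp Rigid.gens_valid).2
      | succ e ih => exact Rigid.comp_valid (hgv j) ih
    have hxe : Acts crd (x i : K) (Rigid.mpow (g j) e') := by
      rw [← h2]; exact R.acts_pow (hxg j) e'
    exact h6 (R.acts_ext (hgv i) (hvp e') (hxg i) hxe)
  have h17 : 17 ≤ Nat.card (Sylow 5 ↥S) := by
    simpa [Nat.card_fin] using Nat.card_le_card_of_injective P hinj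
  have hmod := card_sylow_modEq_one 5 (G := ↥S)
  -- the given element generates one of them
  have hfS : f ∈ S := R.fiveU_facts.1
  obtain ⟨P0, hP0⟩ := mk ⟨f, hfS⟩ (by rw [Subgroup.orderOf_mk, R.f_five])
  have h5 : Nat.card ↥(P0 : Subgroup ↥S) = 5 := by rw [hP0, Nat.card_zpowers, Subgroup.orderOf_mk, R.f_five]
  have hidx : (P0 : Subgroup ↥S).index = 768 := by
    have h := (P0 : Subgroup ↥S).card_mul_index
    rw [h5, R.stab_fiveU_card] at h
    omega
  have hn5 : Nat.card (Sylow 5 ↥S) ∈ Nat.divisors 768 :=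
    Nat.mem_divisors.2 ⟨hidx ▸ Sylow.card_dvd_index P0, by norm_num⟩
  have h96 : 96 ≤ Nat.card (Sylow 5 ↥S) := by
    have key : ∀ d ∈ Nat.divisors 768, d % 5 = 1 → 17 ≤ d → 96 ≤ d := by decide +kernel
    exact key _ hn5 hmod h17
  have hle : (normalizer (zpowers f : Set K) ⊓ S).subgroupOf S ≤ normalizer ((P0 : Subgroup ↥S) : Set ↥S) := by
    intro y hy
    rw [mem_subgroupOf] at hy
    rw [hP0, mem_normalizer_iff]
    intro x
    have hz : ∀ x : ↥S, x ∈ zpowers (⟨f, hfS⟩ : ↥S) ↔ (x : K) ∈ zpowers f := fun x => by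
      simp only [mem_zpowers_iff, Subtype.ext_iff, Subgroup.coe_zpow]
    rw [hz, hz]
    exact mem_normalizer_iff.1 hy.1 _
  have h1 := Nat.le_of_dvd Nat.card_pos (card_dvd_of_le hle)
  rw [Nat.card_congr (subgroupOfEquivOfLe (inf_le_right : normalizer (zpowers f : Set K) ⊓ S ≤ S)).toEquiv] at h1
  have h2 := (normalizer ((P0 : Subgroup ↥S) : Set ↥S)).card_mul_index
  have h3 : Nat.card (Sylow 5 ↥S) = (normalizer ((P0 : Subgroup ↥S) : Set ↥S)).index := P0.card_eq_index_normalizer
  rw [← h3, R.stab_fiveU_card] at h2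
  nlinarith

theorem five_orders : Nat.card ↥(centralizer ({f} : Set K)) = 30 ∧
    Nat.card ↥(normalizer (zpowers f : Set K)) = 120 := by
  classical
  obtain ⟨φ, c⟩ := R.core
  set N := normalizer (zpowers f : Set K) with hN
  set C := centralizer ({f} : Set K) with hC
  set v := crd Rigid.fiveU with hv
  have hNfix : ∀ g ∈ N, f • g • v = g • v := by
    intro g hg
    have h1 : g⁻¹ * f * g ∈ zpowers f := by
      have h := (mem_normalizer_iff.1 (inv_mem hg) f).1 (mem_zpowers f)
      rwa [inv_inv] at h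
    obtain ⟨i, hi⟩ := mem_zpowers_iff.1 h1
    have h2 : (g⁻¹ * f * g) • v = v := by
      rw [← hi]
      exact MulAction.mem_stabilizer_iff.1 (zpow_mem (MulAction.mem_stabilizer_iff.2 R.fiveU_facts.1) i)
    rw [mul_smul, mul_smul, inv_smul_eq_iff] at h2
    exact h2
  have hle : Nat.card ↥N ≤ 120 := by
    have horb : MulAction.orbit ↥N v ⊆ {v, n • v, n • n • v} := by
      rintro _ ⟨⟨g, hg⟩, rfl⟩
      show g • v ∈ ({v, n • v, n • n • v} : Set V)
      have hq : q (g • v) = 0 := by rw [c.isom]; exact R.fiveU_facts.2.2.1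
      have ho : (MulAction.orbit K (g • v)).ncard = 693 := by
        rw [MulAction.orbit_smul, MulAction.orbit_eq_iff.2 R.fiveU_facts.2.2.2, R.orbit693_card]
      simpa using R.line_unique (hNfix g hg) (by rw [ne_eq, smul_eq_zero_iff_eq]; exact R.fiveU_facts.2.1) hq ho
    have h3 : (MulAction.orbit ↥N v).ncard ≤ 3 := by
      refine (Set.ncard_le_ncard horb (Set.toFinite _)).trans ((Set.ncard_insert_le _ _).trans ?_)
      exact Nat.succ_le_succ ((Set.ncard_insert_le _ _).trans (by rw [Set.ncard_singleton]))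
    have hst : Nat.card ↥(MulAction.stabilizer ↥N v) ≤ 40 := by
      refine le_trans ?_ R.five_normalizer_le_stab
      refine Nat.card_le_card_of_injective (fun g => ⟨((g : ↥N) : K), (g : ↥N).2, g.2⟩) fun g g' e => ?_
      simp only [Subtype.ext_iff] at e
      exact Subtype.ext (Subtype.ext e)
    have h := (MulAction.stabilizer ↥N v).card_mul_index
    rw [MulAction.index_stabilizer] at h
    calc Nat.card ↥N = Nat.card ↥(MulAction.stabilizer ↥N v) * (MulAction.orbit ↥N v).ncard := h.symm
      _ ≤ 40 * 3 := Nat.mul_le_mul hst h3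
      _ = 120 := by norm_num
  have hnf : n * f = f * n := (c.commute f R.fm).symm
  have h15 : orderOf (n * f) = 15 := by
    rw [(show Commute n f from hnf).orderOf_mul_eq_mul_orderOf_of_coprime (by rw [c.ordn, R.f_five]; norm_num),
      c.ordn, R.f_five]
  have hnfC : n * f ∈ C := mem_centralizer_singleton_iff.2 (by rw [mul_assoc, ← mul_assoc f n f, ← hnf, mul_assoc])
  have hge : 30 ≤ Nat.card ↥C := by
    have hdvd : 15 ∣ Nat.card ↥C := by
      have h := card_dvd_of_le (zpowers_le.2 hnfC)
      rwa [Nat.card_zpowers, h15] at h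
    have hne : Nat.card ↥C ≠ 15 := fun e => by
      have heq : zpowers (n * f) = C := eq_of_le_of_card_ge (zpowers_le.2 hnfC) (by rw [e, Nat.card_zpowers, h15])
      have ht : t ∈ C := mem_centralizer_singleton_iff.2 R.tf_comm
      rw [← heq] at ht
      exact R.tm (zpowers_le.2 (mul_mem c.nM R.fm) ht)
    obtain ⟨d, hd⟩ := hdvd
    have : 0 < Nat.card ↥C := Nat.card_pos
    omega
  have hconj : ∀ i : ℕ, u ^ i * f * (u ^ i)⁻¹ = f ^ 2 ^ i := by
    intro i
    induction i with
    | zero => simp
    | succ i ih =>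
      have h1 : u * f * u⁻¹ = f ^ 2 := mul_inv_eq_iff_eq_mul.2 R.uf_rel
      calc u ^ (i + 1) * f * (u ^ (i + 1))⁻¹ = u * (u ^ i * f * (u ^ i)⁻¹) * u⁻¹ := by rw [pow_succ']; group
        _ = (u * f * u⁻¹) ^ 2 ^ i := by rw [ih, conj_pow]
        _ = f ^ 2 ^ (i + 1) := by rw [h1, ← pow_mul, pow_succ']
  have huN : u ∈ N := by
    rw [hN, mem_normalizer_iff]
    intro x
    have h1 : u * f * u⁻¹ = f ^ 2 := mul_inv_eq_iff_eq_mul.2 R.uf_rel
    constructor
    · intro hx
      obtain ⟨i, rfl⟩ := mem_zpowers_iff.1 hx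
      rw [← conj_zpow, h1]
      exact zpow_mem (pow_mem (mem_zpowers f) _) i
    · intro hx
      obtain ⟨i, hi⟩ := mem_zpowers_iff.1 hx
      -- `f` is the conjugate of its cube
      have h2 : u⁻¹ * f * u = f ^ 3 := by
        have h4 : u * f ^ 3 * u⁻¹ = f := by
          rw [← conj_pow, h1, ← pow_mul]
          have h5 := pow_orderOf_eq_one f
          rw [R.f_five] at h5
          rw [show 2 * 3 = 5 + 1 from rfl, pow_succ, h5, one_mul]
        calc u⁻¹ * f * u = u⁻¹ * (u * f ^ 3 * u⁻¹) * u := by rw [h4]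
          _ = f ^ 3 := by group
      have h6 : x = (u⁻¹ * f * u) ^ i := by
        rw [show u⁻¹ * f * u = u⁻¹ * f * (u⁻¹)⁻¹ by rw [inv_inv], conj_zpow, hi]; group
      rw [h6, h2]
      exact zpow_mem (pow_mem (mem_zpowers f) _) i
  have hCN : C ≤ N := fun g hg => by
    rw [hN, mem_normalizer_iff]
    intro x
    have hg' := mem_centralizer_singleton_iff.1 hg
    have key : ∀ i : ℤ, g * f ^ i * g⁻¹ = f ^ i := fun i => by
      rw [← conj_zpow, mul_inv_eq_iff_eq_mul.2 hg']
    constructor
    · intro hx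
      obtain ⟨i, rfl⟩ := mem_zpowers_iff.1 hx
      rw [key i]; exact zpow_mem (mem_zpowers f) i
    · intro hx
      obtain ⟨i, hi⟩ := mem_zpowers_iff.1 hx
      refine mem_zpowers_iff.2 ⟨i, ?_⟩
      have := key i
      rw [mul_inv_eq_iff_eq_mul] at this
      have h2 : g * x * g⁻¹ = g * f ^ i * g⁻¹ := by rw [key, hi]
      exact (mul_left_cancel (mul_right_cancel h2)).symm
  have h4C : 4 * Nat.card ↥C ≤ Nat.card ↥N := by
    have h := Nat.card_le_card_of_injective (fun p : Fin 4 × ↥C =>
      (⟨u ^ (p.1 : ℕ) * p.2, mul_mem (pow_mem huN _) (hCN p.2.2)⟩ : ↥N)) (by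
      rintro ⟨i, x⟩ ⟨j, y⟩ e
      have e' : u ^ (i : ℕ) * (x : K) = u ^ (j : ℕ) * (y : K) := congrArg Subtype.val e
      have hxc : ∀ w : ↥C, (w : K) * f * (w : K)⁻¹ = f := fun w =>
        mul_inv_eq_iff_eq_mul.2 (mem_centralizer_singleton_iff.1 w.2)
      have hi : ∀ (i : ℕ) (w : ↥C), u ^ i * (w : K) * f * (u ^ i * (w : K))⁻¹ = f ^ 2 ^ i := fun i w => by
        rw [← hconj i]
        conv_rhs => rw [← hxc w]
        group
      have h1 : f ^ 2 ^ (i : ℕ) = f ^ 2 ^ (j : ℕ) := by rw [← hi i x, ← hi j y, e']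
      rw [pow_inj_mod, R.f_five] at h1
      have key : ∀ i j : Fin 4, 2 ^ (i : ℕ) % 5 = 2 ^ (j : ℕ) % 5 → i = j := by decide
      obtain rfl := key i j h1
      exact Prod.ext rfl (Subtype.ext (mul_left_cancel e')))
    rwa [Nat.card_prod, Nat.card_fin] at h
  exact ⟨by omega, by omega⟩

theorem five_conj {k : K} (hk : orderOf k = 5) : ∃ g : K, zpowers k = (zpowers f).map (MulAut.conj g).toMonoidHom := by
  haveI : Fact (Nat.Prime 5) := ⟨by norm_num⟩
  have hfac : (Nat.card K).factorization 5 = 1 := by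
    rw [R.cardK, show (2661120 : ℕ) = 532224 * 5 by norm_num, Nat.factorization_mul (by norm_num) (by norm_num),
      Finsupp.add_apply, Nat.factorization_eq_zero_of_not_dvd (by norm_num), zero_add,
      Nat.Prime.factorization_self (by norm_num)]
  let P : Sylow 5 K := Sylow.ofCard (zpowers f) (by rw [Nat.card_zpowers, R.f_five, hfac, pow_one])
  let P' : Sylow 5 K := Sylow.ofCard (zpowers k) (by rw [Nat.card_zpowers, hk, hfac, pow_one])
  obtain ⟨g, hg⟩ := MulAction.exists_smul_eq K P P'
  refine ⟨g, ?_⟩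
  have h : ((g • P : Sylow 5 K) : Subgroup K) = zpowers k := by rw [hg]; rfl
  rw [← h, Sylow.coe_subgroup_smul]
  rfl

theorem fiveFacts : FiveFacts q n M := by
  obtain ⟨φ, c⟩ := R.core
  have hfix : ∀ (k g : K), zpowers k = (zpowers f).map (MulAut.conj g).toMonoidHom →
      ∀ v : V, k • v = v ↔ f • g⁻¹ • v = g⁻¹ • v := by
    intro k g h v
    have h1 : k • v = v ↔ zpowers k ≤ MulAction.stabilizer K v := by rw [zpowers_le, MulAction.mem_stabilizer_iff]
    rw [h1, h, map_le_iff_le_comap, zpowers_le, mem_comap, MulAction.mem_stabilizer_iff,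
      MulEquiv.coe_toMonoidHom, MulAut.conj_apply, mul_smul, mul_smul, eq_inv_smul_iff]
  have hcent : ∀ (k g : K), zpowers k = (zpowers f).map (MulAut.conj g).toMonoidHom →
      centralizer ({k} : Set K) = (centralizer ({f} : Set K)).map (MulAut.conj g).toMonoidHom := by
    intro k g h
    ext x
    have h1 : x ∈ centralizer ({k} : Set K) ↔ zpowers k ≤ centralizer ({x} : Set K) := by
      rw [zpowers_le, mem_centralizer_singleton_iff, mem_centralizer_singleton_iff]
      exact eq_comm
    rw [h1, h, map_le_iff_le_comap, zpowers_le, mem_comap, mem_centralizer_singleton_iff, MulEquiv.coe_toMonoidHom,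
      MulAut.conj_apply, mem_map]
    constructor
    · intro hx
      refine ⟨g⁻¹ * x * g, mem_centralizer_singleton_iff.2 ?_, by
        rw [MulEquiv.coe_toMonoidHom, MulAut.conj_apply]; group⟩
      calc g⁻¹ * x * g * f = g⁻¹ * (x * (g * f * g⁻¹)) * g := by group
        _ = g⁻¹ * (g * f * g⁻¹ * x) * g := by rw [hx]
        _ = f * (g⁻¹ * x * g) := by group
    · rintro ⟨y, hy, rfl⟩
      rw [MulEquiv.coe_toMonoidHom, MulAut.conj_apply]
      have hy' := mem_centralizer_singleton_iff.1 hy
      calc g * f * g⁻¹ * (g * y * g⁻¹) = g * (f * y) * g⁻¹ := by group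
        _ = g * (y * f) * g⁻¹ := by rw [hy']
        _ = g * y * g⁻¹ * (g * f * g⁻¹) := by group
  refine ⟨fun k hk => ?_, fun k hk => ?_, fun k hk => ?_, fun k hk => ?_, fun k hk => ?_⟩ <;>
    obtain ⟨g, hg⟩ := R.five_conj hk
  · rw [hcent k g hg, card_map_of_injective (MulEquiv.injective _), R.five_orders.1]
  · rw [hg, ← map_equiv_normalizer_eq, card_map_of_injective (MulEquiv.injective _), R.five_orders.2]
  · have e : {v : V | k • v = v} = (g • ·) '' {v : V | f • v = v} := by
      ext v
      constructor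
      · exact fun h => ⟨g⁻¹ • v, (hfix k g hg v).1 h, smul_inv_smul g v⟩
      · rintro ⟨w, hw, rfl⟩
        exact (hfix k g hg _).2 (by rw [inv_smul_smul]; exact hw)
    rw [e, Set.ncard_image_of_injective _ (MulAction.injective g), R.fix_card]
  · have hu := R.fiveU_facts
    refine ⟨g • crd Rigid.fiveU, (hfix k g hg _).2 (by rw [inv_smul_smul]; exact hu.1), ?_, ?_, ?_, ?_⟩
    · rw [ne_eq, smul_eq_zero_iff_eq]; exact hu.2.1
    · rw [c.isom]; exact hu.2.2.1
    · rw [MulAction.orbit_smul, MulAction.orbit_eq_iff.2 hu.2.2.2, R.orbit693_card]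
    · intro v hv hv0 hq ho
      have hn : n * g = g * n ∨ n * g = g * (n * n) := by
        by_cases hM : g ∈ M
        · exact .inl (c.commute g hM).symm
        · refine .inr ?_
          obtain ⟨i, hi⟩ := mem_zpowers_iff.1 (c.normal g⁻¹)
          rw [inv_inv] at hi
          have hk3 : n ^ (3 : ℤ) = 1 := by
            have := pow_orderOf_eq_one n
            rw [c.ordn] at this
            exact_mod_cast this
          have hmod : n ^ i = n ^ (i % 3) := by
            conv_lhs => rw [← Int.emod_add_mul_ediv i 3, zpow_add, zpow_mul, hk3, one_zpow, mul_one]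
          rw [hmod] at hi
          have hng : n * g = g * n ^ (i % 3) := by rw [hi]; group
          have h3 : i % 3 = 0 ∨ i % 3 = 1 ∨ i % 3 = 2 := by omega
          rcases h3 with e | e | e <;> rw [e] at hng
          · exfalso
            rw [zpow_zero, mul_one, mul_eq_right] at hng
            exact absurd c.ordn (by rw [hng, orderOf_one]; norm_num)
          · exfalso
            rw [zpow_one] at hng
            obtain ⟨k', hk'⟩ := c.outer
            have hk'M : k' ∉ M := fun h => hk' (c.commute k' h)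
            have hm : k' * g ∈ M := by
              rw [mul_mem_iff_of_index_two c.indexM]; exact iff_of_false hk'M hM
            refine hk' (mul_right_cancel (b := g) ?_)
            calc k' * n * g = k' * g * n := by rw [mul_assoc, hng, mul_assoc]
              _ = n * k' * g := by rw [c.commute _ hm, mul_assoc]
          · rw [hng, zpow_two]
      have h1 : g⁻¹ • v ≠ 0 := by rw [ne_eq, smul_eq_zero_iff_eq]; exact hv0
      have h2 := R.line_unique ((hfix k g hg v).1 hv) h1 (by rw [c.isom]; exact hq)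
        (by rw [MulAction.orbit_smul]; exact ho)
      have hn4 : n * n * (n * n) = n := by
        have := pow_orderOf_eq_one n
        rw [c.ordn, pow_succ, pow_two] at this
        rw [← mul_assoc, this, one_mul]
      simp only [inv_smul_eq_iff] at h2
      simp only [ln, Set.mem_insert_iff, Set.mem_singleton_iff]
      have hgn : (∀ x : V, n • g • x = g • n • x) ∨ ∀ x : V, n • g • x = g • n • n • x := by
        rcases hn with e | e
        · exact .inl fun x => by rw [smul_smul, e, mul_smul]
        · exact .inr fun x => by rw [smul_smul, e, mul_smul, mul_smul]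
      rcases hgn with e | e
      · rw [e, e]
        exact .inr h2
      · have h4 : ∀ x : V, n • n • n • n • x = n • x := fun x => by
          simp only [smul_smul, hn4, mul_assoc]
          rw [show n * (n * (n * n)) = n * n * (n * n) by simp only [mul_assoc], hn4]
        rw [e, e, h4]
        rcases h2 with h2 | h2 | h2
        exacts [.inr (.inl h2), .inr (.inr (.inr h2)), .inr (.inr (.inl h2))]
  · have h := Rigid.five_fix_checks.2.2.2
    simp only [Bool.and_eq_true, beq_iff_eq] at h
    have hfv : f • crd Rigid.fiveV = crd Rigid.fiveV := (R.fix_iff (by decide)).2 h.1.1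
    have htv : t • crd Rigid.fiveV = crd Rigid.fiveV := by rw [R.actT, h.1.2]
    have htt : t * t = 1 := R.acts_unique (eq_of_beq Rigid.five_rel_checks.2.1 ▸ R.actT.mul R.actT) R.acts_one
    refine ⟨g * t * g⁻¹, ?_, ?_, ?_, g • crd Rigid.fiveV, (hfix k g hg _).2 (by rw [inv_smul_smul]; exact hfv),
      ?_, ?_⟩
    · have : g * t * g⁻¹ ∈ centralizer ({k} : Set K) := by
        rw [hcent k g hg]
        exact ⟨t, mem_centralizer_singleton_iff.2 R.tf_comm, MulAut.conj_apply g t⟩
      exact mem_centralizer_singleton_iff.1 this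
    · haveI : M.Normal := normal_of_index_eq_two c.indexM
      intro hm
      have := Subgroup.Normal.conj_mem' (H := M) inferInstance _ hm g
      exact R.tm (by simpa [mul_assoc] using this)
    · rw [conj_mul, htt, mul_one, mul_inv_cancel]
    · rw [mul_smul, inv_smul_smul, mul_smul, htv]
    · rw [c.isom, R.q_crd, h.2]; decide

end Rig

/-- The facts about the elements of order five. -/
theorem Core.fiveFacts {φ : ↥M →* ↥Cfsg.Spor.M22} (c : Core q n M φ) : FiveFacts q n M := by
  obtain ⟨n', crd, a, f, u, t, hn', R⟩ := c.exists_rig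
  obtain h := R.fiveFacts
  rcases hn' with rfl | rfl
  · exact h
  refine ⟨h.cent, h.norm, h.fixed, fun k hk => ?_, h.outer⟩
  obtain ⟨v, hv, hv0, hq, ho, hline⟩ := h.line k hk
  refine ⟨v, hv, hv0, hq, ho, fun w hw hw0 hqw how => ?_⟩
  have h4 : n * n * (n * n) = n := by
    have := pow_orderOf_eq_one n
    rw [c.ordn, pow_succ, pow_two] at this
    rw [← mul_assoc, this, one_mul]
  have h2 := hline w hw hw0 hqw how
  simp only [ln, Set.mem_insert_iff, Set.mem_singleton_iff, smul_smul, h4] at h2 ⊢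
  rcases h2 with h2 | h2 | h2 | h2
  exacts [.inl h2, .inr (.inl h2), .inr (.inr (.inr h2)), .inr (.inr (.inl h2))]

end CfsgLib.JankoFour
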