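import Cfsg.Agent.Lib.JankoFour.FiveInputs

/-!
# An involution of the second class commuting with an element of order five
-/

set_option autoImplicit false
set_option linter.unusedSectionVars false
set_option linter.style.haveILetI false

namespace CfsgLib.JankoFour.Five

open Subgroup QuadraticMap

variable {G : Type*} [Group G] [Finite G]
variable {z : G} {Q : Subgroup (centralizer ({z} : Set G))} [Q.Normal]
  {V : Type*} [AddCommGroup V] [Module (ZMod 2) V] [DistribMulAction ((centralizer ({z} : Set G)) ⧸ Q) V] [Finite V]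
  {q : QuadraticForm (ZMod 2) V} {π : ↥Q → V} {n : (centralizer ({z} : Set G)) ⧸ Q}
  {M : Subgroup ((centralizer ({z} : Set G)) ⧸ Q)} {φ : ↥M →* ↥Cfsg.Spor.M22}
  {f : centralizer ({z} : Set G)} {u : V}

/-- An element of order five fixes a member of an orbit of length prime to five. -/
theorem exists_fixed_conj {N : Subgroup G} {x a : G} (hx : orderOf x = 5) (hxN : x ∈ N)
    (h5 : ¬ 5 ∣ ({v : G | ∃ w ∈ N, w * a * w⁻¹ = v}).ncard) :
    ∃ v, IsConj a v ∧ x * v = v * x := by
  haveI : Fact (Nat.Prime 5) := ⟨by norm_num⟩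
  let S := {v : G // ∃ w ∈ N, w * a * w⁻¹ = v}
  have hle : zpowers x ≤ N := zpowers_le.2 hxN
  letI : MulAction ↥(zpowers x) S :=
    { smul := fun k v => ⟨(k : G) * (v : G) * (k : G)⁻¹, by
        obtain ⟨w, hw, hwv⟩ := v.2
        exact ⟨(k : G) * w, mul_mem (hle k.2) hw, by rw [← hwv]; group⟩⟩
      one_smul := fun v => Subtype.ext (by show (1 : G) * (v : G) * (1 : G)⁻¹ = v; group)
      mul_smul := fun k k' v => Subtype.ext (by
        show ((k : G) * (k' : G)) * (v : G) * ((k : G) * (k' : G))⁻¹ =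
          (k : G) * ((k' : G) * (v : G) * (k' : G)⁻¹) * (k : G)⁻¹
        group) }
  have hp : IsPGroup 5 ↥(zpowers x) := IsPGroup.of_card (n := 1) (by rw [Nat.card_zpowers, hx, pow_one])
  obtain ⟨v, hv⟩ := hp.nonempty_fixed_point_of_prime_not_dvd_card S (by
    rw [show Nat.card S = ({v : G | ∃ w ∈ N, w * a * w⁻¹ = v}).ncard from Nat.card_coe_set_eq _]
    exact h5)
  obtain ⟨w, -, hwv⟩ := v.2
  exact ⟨v, isConj_iff.2 ⟨w, hwv⟩, mul_inv_eq_iff_eq_mul.1 (congrArg Subtype.val (hv ⟨x, mem_zpowers x⟩))⟩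

/-- Sylow's theorem in the centraliser carries the involution to the given element. -/
theorem exists_second_mem (c : Ctx Q q π n M φ f u) {x t v : G} (hx : orderOf x = 5) (hzv : IsConj z v)
    (hxv : x * v = v * x) (hxt : x * t = t * x) :
    ∃ g : G, g * t * g⁻¹ ∈ cX f := by
  haveI : Fact (Nat.Prime 5) := ⟨by norm_num⟩
  obtain ⟨h, hh⟩ := isConj_iff.1 hzv
  have hf' : h⁻¹ * x * h ∈ centralizer ({z} : Set G) := by
    refine mem_centralizer_singleton_iff.2 ?_
    rw [← hh] at hxv
    calc h⁻¹ * x * h * z = h⁻¹ * (x * (h * z * h⁻¹)) * h := by group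
      _ = h⁻¹ * (h * z * h⁻¹ * x) * h := by rw [hxv]
      _ = z * (h⁻¹ * x * h) := by group
  have hfac := c.five_part
  let P : Sylow 5 (centralizer ({z} : Set G)) :=
    Sylow.ofCard (zpowers f) (by rw [Nat.card_zpowers, c.ord, hfac, pow_one])
  let P' : Sylow 5 (centralizer ({z} : Set G)) := Sylow.ofCard (zpowers ⟨_, hf'⟩) (by
    rw [Nat.card_zpowers, Subgroup.orderOf_mk, hfac, pow_one]
    have h1 := (orderOf_injective (MulAut.conj h⁻¹).toMonoidHom (MulAut.conj h⁻¹).injective x).trans hx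
    simpa using h1)
  obtain ⟨w, hw⟩ := MulAction.exists_smul_eq (centralizer ({z} : Set G)) P' P
  have hmem : w * ⟨_, hf'⟩ * w⁻¹ ∈ zpowers f := by
    have h1 : ((w • P' : Sylow 5 (centralizer ({z} : Set G))) : Subgroup _) = zpowers f := by rw [hw]; rfl
    rw [← h1, Sylow.coe_subgroup_smul]
    exact Subgroup.smul_mem_pointwise_smul _ (MulAut.conj w) _ (mem_zpowers _)
  set g : G := (w : G) * h⁻¹ with hg
  have hgx : g * x * g⁻¹ ∈ zpowers (f : G) := by
    obtain ⟨i, hi⟩ := mem_zpowers_iff.1 hmem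
    refine mem_zpowers_iff.2 ⟨i, ?_⟩
    have := congrArg Subtype.val hi
    simp only [SubgroupClass.coe_zpow, Subgroup.coe_mul, Subgroup.coe_inv] at this
    rw [this, hg]; group
  have hne : g * x * g⁻¹ ≠ 1 := fun e => by
    rw [conj_eq_one_iff.1 e, orderOf_one] at hx
    omega
  refine ⟨g, mem_cX.2 ?_⟩
  -- the generator is a power of the translate
  have hgen : (f : G) ∈ zpowers (g * x * g⁻¹) := by
    have heq : zpowers (g * x * g⁻¹) = zpowers (f : G) := by
      refine eq_of_le_of_card_ge (zpowers_le.2 hgx) (le_of_eq ?_)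
      rw [c.cardF, Nat.card_zpowers, ← hx]
      exact (orderOf_injective (MulAut.conj g).toMonoidHom (MulAut.conj g).injective x).symm
    rw [heq]; exact mem_zpowers _
  obtain ⟨j, hj⟩ := mem_zpowers_iff.1 hgen
  have hc : Commute (g * t * g⁻¹) (g * x * g⁻¹) := by
    show _ = _
    calc g * t * g⁻¹ * (g * x * g⁻¹) = g * (t * x) * g⁻¹ := by group
      _ = g * (x * t) * g⁻¹ := by rw [hxt]
      _ = g * x * g⁻¹ * (g * t * g⁻¹) := by group
  rw [← hj]
  exact (hc.zpow_right j).eq

end CfsgLib.JankoFour.Five
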