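import Cfsg.Prelude.Def_JankoFourType
import Cfsg.Agent.Lib.Golay.Spor
import Cfsg.Agent.Lib.MathieuOut.Outer
import Mathlib

/-!
Groups of Janko-four type: what the centralizer of the involution gives by itself.  The quotient by the
subgroup of order three times the extraspecial group, the normalizer and the centralizer of the
element of order three, and the central extension of the Mathieu group of degree 22.
-/

set_option autoImplicit false
set_option linter.style.haveILetI false
set_option linter.unusedSectionVars false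

namespace CfsgLib.JankoFour

open Subgroup Cfsg
open scoped commutatorElement

variable {G : Type*} [Group G]

/-- The centralizer of the involution. -/
abbrev cz (z : G) : Subgroup G := centralizer ({z} : Set G)

/-- The centralizer of `P` in the centralizer of `z`. -/
abbrev cp (z : G) (P : Subgroup G) : Subgroup G := cz z ⊓ centralizer (P : Set G)

/-- The normalizer of `P` in the centralizer of `z`. -/
abbrev np (z : G) (P : Subgroup G) : Subgroup G := cz z ⊓ normalizer (P : Set G)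

/-- The data contained in the hypothesis. -/
structure Setting (z : G) (P : Subgroup G) where
  N : Subgroup G
  f : ↥(cz z) →* MulAut ↥Spor.M22
  surj : Function.Surjective f
  ker_f : f.ker = N.subgroupOf (cz z)
  ord_z : orderOf z = 2
  extra : IsExtraspecial 2 ↥(twoCoreOfCentralizer z)
  card_E : Nat.card ↥(twoCoreOfCentralizer z) = 2 ^ 13
  self : cz z ⊓ centralizer (twoCoreOfCentralizer z : Set G) ≤ twoCoreOfCentralizer z
  E_le : twoCoreOfCentralizer z ≤ N
  N_le : N ≤ cz z
  H_norm : cz z ≤ normalizer (N : Set G)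
  card_N : Nat.card ↥N = 3 * 2 ^ 13
  P_le : P ≤ N
  card_P : Nat.card ↥P = 3
  fix : twoCoreOfCentralizer z ⊓ centralizer (P : Set G) = zpowers z
  ne : np z P ≠ cp z P
  der : P ≤ ⁅cp z P, cp z P⁆

theorem exists_setting {z : G} {P : Subgroup G} (hJ : IsOfJankoFourTypeWith z P) :
    Nonempty (Setting z P) := by
  obtain ⟨h1, h2, h3, h4, ⟨N, hEN, hNH, hHN, hN, ⟨hn, ⟨e⟩⟩, hPN⟩, h6, h7, h8, h9⟩ := hJ
  haveI := hn
  rw [h3] at hN
  refine ⟨{ N := N
            f := e.toMonoidHom.comp (QuotientGroup.mk' _)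
            surj := e.surjective.comp (QuotientGroup.mk'_surjective _)
            ker_f := ?_
            ord_z := h1, extra := h2, card_E := h3, self := h4, E_le := hEN, N_le := hNH, H_norm := hHN
            card_N := hN, P_le := hPN, card_P := h6, fix := h7, ne := h8, der := h9 }⟩
  rw [MonoidHom.ker_comp_of_injective _ _ e.injective]
  exact QuotientGroup.ker_mk' _

theorem center_M22 : center ↥Spor.M22 = ⊥ := by
  haveI := CfsgLib.Golay.sporM22_simple
  rcases (inferInstance : (center ↥Spor.M22).Normal).eq_bot_or_eq_top with h | h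
  · exact h
  · exfalso
    haveI : IsMulCommutative ↥Spor.M22 :=
      ⟨⟨fun a b => (mem_center_iff.mp (h ▸ mem_top b : b ∈ center ↥Spor.M22) a)⟩⟩
    let _ : CommGroup ↥Spor.M22 := { (inferInstance : Group ↥Spor.M22) with
      mul_comm := fun a b => (IsMulCommutative.is_comm (M := ↥Spor.M22)).comm a b }
    have hp := IsSimpleGroup.prime_card (α := ↥Spor.M22)
    rw [CfsgLib.Golay.card_sporM22] at hp
    norm_num at hp

theorem conj_injective_M22 : Function.Injective (MulAut.conj : ↥Spor.M22 →* MulAut ↥Spor.M22) := by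
  rw [injective_iff_map_eq_one]
  intro a ha
  have : a ∈ center ↥Spor.M22 := mem_center_iff.mpr fun b => by
    have h := DFunLike.congr_fun ha b
    simp only [MulAut.conj_apply, MulAut.one_apply] at h
    calc b * a = a * b * a⁻¹ * a := by rw [h]
      _ = a * b := by group
  rwa [center_M22, mem_bot] at this

theorem index_conj_range_M22 : (MulAut.conj : ↥Spor.M22 →* MulAut ↥Spor.M22).range.index = 2 := by
  rw [index_eq_card]
  exact CfsgLib.MathieuOut.out_M22

theorem card_inn_M22 :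
    Nat.card ↥(MulAut.conj : ↥Spor.M22 →* MulAut ↥Spor.M22).range = 443520 := by
  rw [← Nat.card_congr (MonoidHom.ofInjective conj_injective_M22).toEquiv, CfsgLib.Golay.card_sporM22]

theorem card_aut_M22 : Nat.card (MulAut ↥Spor.M22) = 887040 := by
  rw [← (MulAut.conj : ↥Spor.M22 →* MulAut ↥Spor.M22).range.card_mul_index, index_conj_range_M22, card_inn_M22]

/-- The only subgroup of index two. -/
theorem eq_inn_of_index_two {K : Subgroup (MulAut ↥Spor.M22)} (hK : K.index = 2) :
    K = (MulAut.conj : ↥Spor.M22 →* MulAut ↥Spor.M22).range := by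
  haveI := CfsgLib.Golay.sporM22_simple
  haveI : K.Normal := normal_of_index_eq_two hK
  set I := (MulAut.conj : ↥Spor.M22 →* MulAut ↥Spor.M22).range with hI
  rcases (inferInstance : (K.comap (MulAut.conj : ↥Spor.M22 →* MulAut ↥Spor.M22)).Normal).eq_bot_or_eq_top
    with h | h
  · exfalso
    have h2 : (K.comap (MulAut.conj : ↥Spor.M22 →* MulAut ↥Spor.M22)).index ∣ K.index := by
      rw [index_comap]; exact relIndex_dvd_index_of_normal K _
    rw [h, index_bot, CfsgLib.Golay.card_sporM22, hK] at h2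
    norm_num at h2
  · have hle : I ≤ K := by
      rintro _ ⟨a, rfl⟩
      exact mem_comap.mp (h ▸ mem_top a : a ∈ K.comap MulAut.conj)
    have h1 := K.card_mul_index
    rw [hK, card_aut_M22] at h1
    exact (eq_of_le_of_card_ge hle (le_of_eq (by rw [hI, card_inn_M22]; omega))).symm

variable [Finite G] {z : G} {P : Subgroup G} (S : Setting z P)
include S

theorem z_ne_one : z ≠ 1 := fun h => by simpa [h] using S.ord_z

theorem P_le_cz : P ≤ cz z := S.P_le.trans S.N_le

theorem z_mem_N : z ∈ S.N := by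
  have h : z ∈ twoCoreOfCentralizer z ⊓ centralizer (P : Set G) := by rw [S.fix]; exact mem_zpowers z
  exact S.E_le (mem_inf.mp h).1

theorem z_comm_P {a : G} (ha : a ∈ P) : a * z = z * a :=
  mem_centralizer_singleton_iff.mp (P_le_cz S ha)

theorem zpowers_z_le : zpowers z ≤ cp z P :=
  zpowers_le.mpr ⟨mem_centralizer_singleton_iff.mpr rfl, fun a ha => z_comm_P S ha⟩

theorem card_cz : Nat.card ↥(cz z) = 887040 * (3 * 2 ^ 13) := by
  have h := S.f.ker.card_mul_index
  rw [S.ker_f, Nat.card_congr (subgroupOfEquivOfLe S.N_le).toEquiv, ← S.ker_f, index_ker,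
    MonoidHom.range_eq_top.mpr S.surj, card_top, card_aut_M22, S.card_N] at h
  rw [← h, mul_comm]

theorem conj_E {h e : G} (hh : h ∈ cz z) (he : e ∈ twoCoreOfCentralizer z) :
    h * e * h⁻¹ ∈ twoCoreOfCentralizer z := by
  have hn : (pCore 2 ↥(cz z)).Normal := by
    refine ⟨fun n hn g => ?_⟩
    have h0 : pCore 2 ↥(cz z) ≤ (pCore 2 ↥(cz z)).comap (MulAut.conj g).toMonoidHom :=
      sSup_le fun K hK a ha => mem_comap.mpr (le_sSup hK (hK.1.conj_mem a ha g))
    exact h0 hn
  obtain ⟨x, hx, rfl⟩ := he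
  exact ⟨⟨h, hh⟩ * x * ⟨h, hh⟩⁻¹, hn.conj_mem x hx _, rfl⟩

theorem disjoint_E_P : twoCoreOfCentralizer z ⊓ P = ⊥ := by
  refine eq_bot_of_card_eq _ (Nat.dvd_one.mp ?_)
  have h := Nat.dvd_gcd (card_dvd_of_le (inf_le_left : twoCoreOfCentralizer z ⊓ P ≤ _))
    (card_dvd_of_le (inf_le_right : twoCoreOfCentralizer z ⊓ P ≤ _))
  rwa [S.card_E, S.card_P] at h

theorem N_decomp {n : G} (hn : n ∈ S.N) : ∃ e ∈ twoCoreOfCentralizer z, ∃ a ∈ P, n = e * a := by
  classical
  let F : ↥(twoCoreOfCentralizer z) × ↥P → ↥S.N :=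
    fun x => ⟨x.1 * x.2, mul_mem (S.E_le x.1.2) (S.P_le x.2.2)⟩
  have hinj : Function.Injective F := by
    rintro ⟨e, a⟩ ⟨e', a'⟩ h
    have h' : (e : G) * a = e' * a' := congrArg Subtype.val h
    have hk : (e' : G)⁻¹ * e = a' * (a : G)⁻¹ :=
      calc (e' : G)⁻¹ * e = (e' : G)⁻¹ * ((e : G) * a) * (a : G)⁻¹ := by group
        _ = (e' : G)⁻¹ * ((e' : G) * a') * (a : G)⁻¹ := by rw [h']
        _ = a' * (a : G)⁻¹ := by group
    have hb : (e' : G)⁻¹ * e ∈ twoCoreOfCentralizer z ⊓ P :=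
      mem_inf.mpr ⟨mul_mem (inv_mem e'.2) e.2, hk ▸ mul_mem a'.2 (inv_mem a.2)⟩
    rw [disjoint_E_P S, mem_bot] at hb
    have he : e = e' := Subtype.ext (inv_mul_eq_one.mp hb).symm
    subst he
    exact Prod.ext rfl (Subtype.ext (mul_left_cancel h'))
  have hsurj : Function.Surjective F :=
    ((Nat.bijective_iff_injective_and_card F).mpr
      ⟨hinj, by rw [Nat.card_prod, S.card_E, S.card_P, S.card_N, mul_comm]⟩).2
  obtain ⟨⟨e, a⟩, h⟩ := hsurj ⟨n, hn⟩
  exact ⟨e, e.2, a, a.2, (congrArg Subtype.val h).symm⟩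

/-- The elements of `N` normalizing `P` are the products of powers of `z` with elements of `P`. -/
theorem N_inf_norm : S.N ⊓ normalizer (P : Set G) = zpowers z ⊔ P := by
  refine le_antisymm ?_ (sup_le (zpowers_le.mpr ⟨z_mem_N S, ?_⟩) (le_inf S.P_le le_normalizer))
  · intro n hn'
    obtain ⟨hn, hnP⟩ := mem_inf.mp hn'
    obtain ⟨e, he, a, ha, rfl⟩ := N_decomp S hn
    have heP : e ∈ normalizer (P : Set G) := by
      have := mul_mem hnP (inv_mem (le_normalizer ha : a ∈ normalizer (P : Set G)))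
      rwa [mul_inv_cancel_right] at this
    have hec : e ∈ centralizer (P : Set G) := fun b hb => by
      have h1 : e * b * e⁻¹ * b⁻¹ ∈ P := mul_mem ((mem_normalizer_iff.mp heP b).mp hb) (inv_mem hb)
      have h2 : e * b * e⁻¹ * b⁻¹ ∈ twoCoreOfCentralizer z := by
        have := mul_mem he (conj_E S (P_le_cz S hb) (inv_mem he))
        rwa [show e * (b * e⁻¹ * b⁻¹) = e * b * e⁻¹ * b⁻¹ by group] at this
      have h3 : e * b * e⁻¹ * b⁻¹ ∈ twoCoreOfCentralizer z ⊓ P := ⟨h2, h1⟩
      rw [disjoint_E_P S, mem_bot] at h3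
      calc b * e = b * e := rfl
        _ = (e * b * e⁻¹ * b⁻¹) * b * e := by rw [h3, one_mul]
        _ = e * b := by group
    exact mul_mem_sup (S.fix ▸ ⟨he, hec⟩ : e ∈ zpowers z) ha
  · exact centralizer_le_normalizer _ fun a ha => z_comm_P S ha

theorem card_zP : Nat.card ↥(zpowers z ⊔ P : Subgroup G) = 6 := by
  have hle : zpowers z ≤ normalizer (P : Set G) :=
    le_sup_left.trans ((N_inf_norm S).symm.le.trans inf_le_right)
  have hd2 : 2 ∣ Nat.card ↥(zpowers z ⊔ P : Subgroup G) := by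
    have := card_dvd_of_le (le_sup_left : zpowers z ≤ zpowers z ⊔ P)
    rwa [Nat.card_zpowers, S.ord_z] at this
  have hd3 : 3 ∣ Nat.card ↥(zpowers z ⊔ P : Subgroup G) := by
    have := card_dvd_of_le (le_sup_right : P ≤ zpowers z ⊔ P)
    rwa [S.card_P] at this
  refine le_antisymm ?_ (Nat.le_of_dvd Nat.card_pos (Nat.Coprime.mul_dvd_of_dvd_of_dvd (by norm_num) hd2 hd3))
  let F : ↥(zpowers z) × ↥P → ↥(zpowers z ⊔ P : Subgroup G) :=
    fun x => ⟨x.1 * x.2, mul_mem_sup x.1.2 x.2.2⟩
  have hF : Function.Surjective F := fun x => by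
    have hx : (x : G) ∈ ((zpowers z ⊔ P : Subgroup G) : Set G) := x.2
    rw [coe_mul_of_left_le_normalizer_right _ _ hle] at hx
    obtain ⟨a, ha, b, hb, hab⟩ := hx
    exact ⟨⟨⟨a, ha⟩, ⟨b, hb⟩⟩, Subtype.ext hab⟩
  refine (Nat.card_le_card_of_surjective F hF).trans (le_of_eq ?_)
  rw [Nat.card_prod, Nat.card_zpowers, S.ord_z, S.card_P]

theorem exists_mem_np (h : G) (hh : h ∈ cz z) : ∃ n ∈ S.N, n * h ∈ np z P := by
  haveI : Fact (Nat.Prime 3) := ⟨by norm_num⟩
  have hfac : (Nat.card ↥S.N).factorization 3 = 1 := by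
    rw [S.card_N, Nat.factorization_mul (by norm_num) (by norm_num), Finsupp.add_apply,
      Nat.Prime.factorization_self (by norm_num), Nat.factorization_eq_zero_of_not_dvd (by norm_num)]
  let P₁ : Sylow 3 ↥S.N := Sylow.ofCard (P.subgroupOf S.N)
    (by rw [Nat.card_congr (subgroupOfEquivOfLe S.P_le).toEquiv, S.card_P, hfac, pow_one])
  have hle : P.map (MulAut.conj h).toMonoidHom ≤ S.N := by
    rintro _ ⟨a, ha, rfl⟩
    exact (mem_normalizer_iff.mp (S.H_norm hh) a).mp (S.P_le ha)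
  let P₂ : Sylow 3 ↥S.N := Sylow.ofCard ((P.map (MulAut.conj h).toMonoidHom).subgroupOf S.N)
    (by rw [Nat.card_congr (subgroupOfEquivOfLe hle).toEquiv,
      card_map_of_injective (MulAut.conj h).injective, S.card_P, hfac, pow_one])
  obtain ⟨n, hn⟩ := MulAction.exists_smul_eq ↥S.N P₂ P₁
  have hn' : ∀ a ∈ P, (n : G) * (h * a * h⁻¹) * (n : G)⁻¹ ∈ P := fun a ha => by
    have hm : (⟨h * a * h⁻¹, hle ⟨a, ha, rfl⟩⟩ : ↥S.N) ∈ (P₂ : Subgroup ↥S.N) :=
      mem_subgroupOf.mpr ⟨a, ha, rfl⟩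
    have hmem : n * ⟨h * a * h⁻¹, hle ⟨a, ha, rfl⟩⟩ * n⁻¹ ∈ ((n • P₂ : Sylow 3 ↥S.N) : Subgroup ↥S.N) := by
      rw [Sylow.coe_subgroup_smul]
      exact smul_mem_pointwise_smul _ (MulAut.conj n) _ hm
    rw [hn] at hmem
    exact mem_subgroupOf.mp hmem
  refine ⟨n, n.2, mul_mem (S.N_le n.2) hh, mem_normalizer_fintype fun a ha => ?_⟩
  rw [show (n : G) * h * a * ((n : G) * h)⁻¹ = (n : G) * (h * a * h⁻¹) * (n : G)⁻¹ by group]
  exact hn' a ha

/-- The restriction of the quotient map to the normalizer of `P`. -/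
noncomputable def onNp : ↥(np z P) →* MulAut ↥Spor.M22 :=
  S.f.comp (inclusion inf_le_left)

theorem onNp_apply (x : ↥(np z P)) : onNp S x = S.f ⟨x, x.2.1⟩ := rfl

theorem onNp_surj : Function.Surjective (onNp S) := by
  intro y
  obtain ⟨h, rfl⟩ := S.surj y
  obtain ⟨n, hn, hm⟩ := exists_mem_np S h h.2
  refine ⟨⟨n * h, hm⟩, ?_⟩
  rw [onNp_apply, show (⟨(⟨n * (h : G), hm⟩ : ↥(np z P)), hm.1⟩ : ↥(cz z)) = ⟨n, S.N_le hn⟩ * h from rfl,
    map_mul, show S.f ⟨n, S.N_le hn⟩ = 1 from ?_, one_mul]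
  exact MonoidHom.mem_ker.mp (S.ker_f ▸ mem_subgroupOf.mpr hn)

theorem onNp_ker : (onNp S).ker = (zpowers z ⊔ P : Subgroup G).subgroupOf (np z P) := by
  ext x
  rw [MonoidHom.mem_ker, onNp_apply, ← MonoidHom.mem_ker, S.ker_f, mem_subgroupOf, mem_subgroupOf,
    ← N_inf_norm S, mem_inf]
  exact ⟨fun h => ⟨h, x.2.2⟩, fun h => h.1⟩

theorem zP_le_cp : zpowers z ⊔ P ≤ cp z P := by
  refine sup_le (zpowers_z_le S) (le_inf (P_le_cz S) fun a ha b hb => ?_)
  haveI : IsCyclic ↥P := isCyclic_of_prime_card (hp := ⟨by norm_num⟩) S.card_P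
  have hc : IsMulCommutative ↥P := inferInstance
  exact congrArg Subtype.val (hc.is_comm.comm (⟨b, hb⟩ : ↥P) ⟨a, ha⟩)

omit S in
theorem cp_le_np : cp z P ≤ np z P := inf_le_inf_left _ (centralizer_le_normalizer _)

theorem card_np : Nat.card ↥(np z P) = 6 * 887040 := by
  have h := (onNp S).ker.card_mul_index
  rw [index_ker, MonoidHom.range_eq_top.mpr (onNp_surj S), card_top, card_aut_M22, onNp_ker,
    Nat.card_congr (subgroupOfEquivOfLe ((zP_le_cp S).trans cp_le_np)).toEquiv, card_zP S] at h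
  exact h.symm

theorem cp_relIndex : (cp z P).relIndex (np z P) = 2 := by
  obtain ⟨m, hm, hmC⟩ : ∃ m ∈ np z P, m ∉ cp z P :=
    SetLike.exists_of_lt (lt_of_le_of_ne cp_le_np (Ne.symm S.ne))
  haveI : IsCyclic ↥P := isCyclic_of_prime_card (hp := ⟨by norm_num⟩) S.card_P
  obtain ⟨g, hg⟩ := IsCyclic.exists_generator (α := ↥P)
  set a : G := (g : G) with hag
  have ho : orderOf a = 3 := by
    rw [hag, Subgroup.orderOf_coe, orderOf_eq_card_of_forall_mem_zpowers hg, S.card_P]
  have hgen : ∀ b ∈ P, b ∈ zpowers a := fun b hb => by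
    obtain ⟨k, hk⟩ := hg ⟨b, hb⟩
    exact ⟨k, congrArg Subtype.val hk⟩
  have hcases : ∀ x ∈ np z P, x * a * x⁻¹ = a ∨ x * a * x⁻¹ = a⁻¹ := by
    intro x hx
    obtain ⟨k, hk⟩ := hgen _ ((mem_normalizer_iff.mp hx.2 a).mp g.2)
    have hk3 : a ^ k = a ^ (k % 3) := by
      have := zpow_mod_orderOf a k
      rw [ho] at this
      exact_mod_cast this.symm
    simp only at hk
    rw [hk3] at hk
    rcases (show k % 3 = 0 ∨ k % 3 = 1 ∨ k % 3 = 2 by omega) with e | e | e <;> rw [e] at hk
    · exfalso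
      rw [zpow_zero, eq_comm, conj_eq_one_iff] at hk
      rw [hk, orderOf_one] at ho
      norm_num at ho
    · exact Or.inl (by rw [← hk, zpow_one])
    · right
      rw [← hk]
      refine eq_inv_of_mul_eq_one_left ?_
      rw [← zpow_add_one, show (2 : ℤ) + 1 = ((3 : ℕ) : ℤ) by norm_num, zpow_natCast, ← ho, pow_orderOf_eq_one]
  have hiff : ∀ x ∈ np z P, (x ∈ cp z P ↔ x * a * x⁻¹ = a) := fun x hx =>
    ⟨fun h => by rw [← h.2 a g.2, mul_inv_cancel_right],
     fun h => ⟨hx.1, fun b hb => by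
      obtain ⟨k, hk⟩ := hgen b hb
      have hxa : Commute x a := by
        show x * a = a * x
        calc x * a = x * a * x⁻¹ * x := by group
          _ = a * x := by rw [h]
      rw [← hk]
      exact (hxa.zpow_right k).symm⟩⟩
  have hma : m * a * m⁻¹ = a⁻¹ := (hcases m hm).resolve_left (mt (hiff m hm).mpr hmC)
  refine relIndex_eq_two_iff.mpr ⟨m, hm, fun b hb => ?_⟩
  have hbm : b * m * a * (b * m)⁻¹ = (b * a * b⁻¹)⁻¹ :=
    calc b * m * a * (b * m)⁻¹ = b * (m * a * m⁻¹) * b⁻¹ := by group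
      _ = (b * a * b⁻¹)⁻¹ := by rw [hma]; group
  rcases hcases b hb with h | h
  · refine Or.inr ⟨(hiff b hb).mpr h, fun hc => ?_⟩
    have := (hiff _ (mul_mem hb hm)).mp hc
    rw [hbm, h] at this
    exact hmC ((hiff m hm).mpr (hma.trans this))
  · refine Or.inl ⟨(hiff _ (mul_mem hb hm)).mpr (by rw [hbm, h, inv_inv]), fun hc => ?_⟩
    have := (hiff b hb).mp hc
    rw [h] at this
    exact hmC ((hiff m hm).mpr (hma.trans this))

theorem card_cp : Nat.card ↥(cp z P) = 6 * 443520 := by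
  have h := ((cp z P).subgroupOf (np z P)).card_mul_index
  rw [Nat.card_congr (subgroupOfEquivOfLe cp_le_np).toEquiv,
    show ((cp z P).subgroupOf (np z P)).index = 2 from cp_relIndex S, card_np S] at h
  omega

theorem map_cp : ((cp z P).subgroupOf (np z P)).map (onNp S) =
    (MulAut.conj : ↥Spor.M22 →* MulAut ↥Spor.M22).range := by
  refine eq_inn_of_index_two ?_
  rw [index_map_eq _ (onNp_surj S), show ((cp z P).subgroupOf (np z P)).index = 2 from cp_relIndex S]
  rw [onNp_ker]
  exact subgroupOf_mono _ (zP_le_cp S)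

/-- The map of the centralizer of `P` onto the Mathieu group. -/
noncomputable def toM22 : ↥(cp z P) →* ↥Spor.M22 :=
  (MonoidHom.ofInjective conj_injective_M22).symm.toMonoidHom.comp
    (((onNp S).comp (inclusion cp_le_np)).codRestrict _ fun x => by
      rw [← map_cp S]
      exact mem_map_of_mem _ (mem_subgroupOf.mpr x.2))

theorem toM22_spec (x : ↥(cp z P)) :
    MulAut.conj (toM22 S x) = onNp S ⟨x, cp_le_np x.2⟩ :=
  congrArg Subtype.val ((MonoidHom.ofInjective conj_injective_M22).apply_symm_apply _)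

theorem toM22_surj : Function.Surjective (toM22 S) := by
  intro y
  obtain ⟨x, hx, hxy⟩ : MulAut.conj y ∈ ((cp z P).subgroupOf (np z P)).map (onNp S) := by
    rw [map_cp S]; exact ⟨y, rfl⟩
  refine ⟨⟨x, hx⟩, conj_injective_M22 ?_⟩
  rw [toM22_spec]
  exact hxy

theorem toM22_ker : (toM22 S).ker = (zpowers z ⊔ P : Subgroup G).subgroupOf (cp z P) := by
  ext x
  rw [MonoidHom.mem_ker, ← map_eq_one_iff _ conj_injective_M22, toM22_spec, ← MonoidHom.mem_ker,
    onNp_ker, mem_subgroupOf, mem_subgroupOf]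

theorem center_cp : center ↥(cp z P) = (zpowers z ⊔ P : Subgroup G).subgroupOf (cp z P) := by
  refine le_antisymm (fun x hx => ?_) (fun x hx => mem_center_iff.mpr fun y => Subtype.ext ?_)
  · rw [← toM22_ker S, MonoidHom.mem_ker]
    have : toM22 S x ∈ center ↥Spor.M22 := mem_center_iff.mpr fun w => by
      obtain ⟨v, rfl⟩ := toM22_surj S w
      rw [← map_mul, ← map_mul, mem_center_iff.mp hx v]
    rwa [center_M22, mem_bot] at this
  · rw [mem_subgroupOf] at hx
    have hle : zpowers z ⊔ P ≤ centralizer ({(y : G)} : Set G) :=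
      sup_le (zpowers_le.mpr (mem_centralizer_singleton_iff.mpr
        (mem_centralizer_singleton_iff.mp y.2.1).symm))
        fun a ha => mem_centralizer_singleton_iff.mpr (y.2.2 a ha)
    exact (mem_centralizer_singleton_iff.mp (hle hx)).symm

theorem card_center_cp : Nat.card ↥(center ↥(cp z P)) = 6 := by
  rw [center_cp S, Nat.card_congr (subgroupOfEquivOfLe (zP_le_cp S)).toEquiv, card_zP S]

theorem isCyclic_center_cp : IsCyclic ↥(center ↥(cp z P)) := by
  haveI : Fact (Nat.Prime 3) := ⟨by norm_num⟩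
  obtain ⟨a, ha⟩ := exists_prime_orderOf_dvd_card' (G := ↥P) 3 (S.card_P ▸ dvd_rfl)
  have hoa : orderOf (a : G) = 3 := by rw [Subgroup.orderOf_coe, ha]
  have hm : z * (a : G) ∈ zpowers z ⊔ P := mul_mem_sup (mem_zpowers z) a.2
  have hc : (⟨z * a, zP_le_cp S hm⟩ : ↥(cp z P)) ∈ center ↥(cp z P) := by
    rw [center_cp S]; exact mem_subgroupOf.mpr hm
  refine isCyclic_of_orderOf_eq_card (⟨⟨z * a, zP_le_cp S hm⟩, hc⟩ : ↥(center ↥(cp z P))) ?_
  rw [card_center_cp S, ← Subgroup.orderOf_coe, ← Subgroup.orderOf_coe]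
  rw [Commute.orderOf_mul_eq_mul_orderOf_of_coprime (show Commute z (a : G) from (z_comm_P S a.2).symm)
    (by rw [S.ord_z, hoa]; norm_num), S.ord_z, hoa]

theorem isoM22_quotient : Spor.IsoM22 (↥(cp z P) ⧸ center ↥(cp z P)) :=
  ⟨(QuotientGroup.quotientMulEquivOfEq ((center_cp S).trans (toM22_ker S).symm)).trans
    (QuotientGroup.quotientKerEquivOfSurjective (toM22 S) (toM22_surj S))⟩

theorem commutator_sup_zpowers : ⁅cp z P, cp z P⁆ ⊔ zpowers z = cp z P := by
  refine le_antisymm (sup_le (commutator_le.mpr fun a ha b hb => ?_) (zpowers_z_le S)) fun x hx => ?_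
  · rw [commutatorElement_def]
    exact mul_mem (mul_mem (mul_mem ha hb) (inv_mem ha)) (inv_mem hb)
  · haveI := CfsgLib.Golay.sporM22_simple
    have hp : _root_.commutator ↥Spor.M22 = ⊤ := by
      rcases (inferInstance : (_root_.commutator ↥Spor.M22).Normal).eq_bot_or_eq_top with h | h
      · exfalso
        have hc := center_M22
        rw [show center ↥Spor.M22 = ⊤ from eq_top_iff.mpr fun a _ => mem_center_iff.mpr fun b => ?_] at hc
        · have := CfsgLib.Golay.card_sporM22
          rw [← card_top, hc, card_bot] at this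
          norm_num at this
        · rw [← commutatorElement_eq_one_iff_mul_comm, ← mem_bot, ← h, _root_.commutator_def]
          exact commutator_mem_commutator (mem_top b) (mem_top a)
      · exact h
    have hy : toM22 S ⟨x, hx⟩ ∈ (_root_.commutator ↥(cp z P)).map (toM22 S) := by
      rw [_root_.commutator_def, map_commutator, map_top_of_surjective _ (toM22_surj S),
        ← _root_.commutator_def, hp]
      exact mem_top _
    obtain ⟨c, hc, hcx⟩ := hy
    have hcc : (c : G) ∈ ⁅cp z P, cp z P⁆ := by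
      rw [_root_.commutator_def] at hc
      have := mem_map_of_mem (cp z P).subtype hc
      rw [map_commutator, ← MonoidHom.range_eq_map, range_subtype] at this
      exact this
    have hk : c⁻¹ * ⟨x, hx⟩ ∈ (toM22 S).ker := by
      rw [MonoidHom.mem_ker, map_mul, map_inv, hcx, inv_mul_cancel]
    rw [toM22_ker S, mem_subgroupOf] at hk
    have hle : zpowers z ⊔ P ≤ ⁅cp z P, cp z P⁆ ⊔ zpowers z := sup_le le_sup_right (S.der.trans le_sup_left)
    have := mul_mem (mem_sup_left hcc : (c : G) ∈ ⁅cp z P, cp z P⁆ ⊔ zpowers z) (hle hk)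
    simpa [mul_assoc] using this

/-- The first four clauses of the statement on the centralizer of `P`, given that `z` is a product of
commutators there. -/
theorem cent_structure (hz : z ∈ ⁅cp z P, cp z P⁆) :
    ⁅cp z P, cp z P⁆ = cp z P ∧ IsCyclic ↥(center ↥(cp z P)) ∧ Nat.card ↥(center ↥(cp z P)) = 6 ∧
      Spor.IsoM22 (↥(cp z P) ⧸ center ↥(cp z P)) := by
  refine ⟨?_, isCyclic_center_cp S, card_center_cp S, isoM22_quotient S⟩
  calc ⁅cp z P, cp z P⁆ = ⁅cp z P, cp z P⁆ ⊔ zpowers z := (sup_eq_left.mpr (zpowers_le.mpr hz)).symm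
    _ = cp z P := commutator_sup_zpowers S

end CfsgLib.JankoFour
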