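import Cfsg.Agent.Lib.JankoFour.Basic
import Cfsg.Agent.Lib.JankoFour.Setting
import Cfsg.Agent.Lib.JankoFour.Centraliser.NormP

/-!
# Groups of Janko-four type: the centraliser and the normaliser of the subgroup of order three
-/

set_option autoImplicit false
set_option linter.unusedSectionVars false

namespace CfsgLib.JankoFour

open Subgroup Cfsg

variable {G : Type*} [Group G] [Finite G]

/-- The perfect sixfold cover and the normaliser, given the facts about the automizer. -/
theorem order_three_cover_of_facts [IsSimpleGroup G] {z : G} {P : Subgroup G} (h : IsOfJankoFourTypeWith z P)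
    (hfacts : ∀ {V : Type} [AddCommGroup V] [Module (ZMod 2) V] [Finite V]
      [DistribMulAction ((centralizer ({z} : Set G)) ⧸ core2 z) V] {q : QuadraticForm (ZMod 2) V}
      {n : (centralizer ({z} : Set G)) ⧸ core2 z} {M : Subgroup ((centralizer ({z} : Set G)) ⧸ core2 z)}
      {φ : ↥M →* ↥Cfsg.Spor.M22}, Core q n M φ → Facts q n M) :
    ⁅cp z P, cp z P⁆ = cp z P ∧ IsCyclic ↥(center ↥(cp z P)) ∧ Nat.card ↥(center ↥(cp z P)) = 6 ∧
      Spor.IsoM22 (↥(cp z P) ⧸ center ↥(cp z P)) ∧ normalizer (P : Set G) ≤ centralizer ({z} : Set G) := by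
  obtain ⟨S⟩ := exists_setting h
  obtain ⟨ι, hι, q, inst, π, n, M, φ, m, -, p, hpP, hpn⟩ := exists_model_of_facts h hfacts
  obtain ⟨s, A, Ab, T₀, c, -⟩ := Thompson.exists_ctx m
  have h3 : p * p * p = 1 := by
    refine Subtype.ext ?_
    have e := pow_card_eq_one' (x := (⟨(p : G), hpP⟩ : ↥P))
    rw [S.card_P, pow_succ, pow_two] at e
    exact (congrArg Subtype.val e : _)
  have hp1 : (p : G) ≠ 1 := fun e => by
    have h := m.core.ordn
    rw [← hpn, show p = 1 from Subtype.ext e, QuotientGroup.mk_one, orderOf_one] at h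
    omega
  have hgen : zpowers (p : G) = P := by
    haveI := Fact.mk Nat.prime_three
    exact eq_of_le_of_card_ge (zpowers_le.2 hpP) (by
      rw [Nat.card_zpowers, orderOf_eq_prime (p := 3) (by rw [pow_succ, pow_two]; exact congrArg Subtype.val h3) hp1,
        S.card_P])
  have hcP : centralizer (P : Set G) = centralizer ({(p : G)} : Set G) := by
    rw [← hgen, zpowers_eq_closure, centralizer_closure]
  have hz : z ∈ ⁅cp z P, cp z P⁆ := by
    show z ∈ ⁅centralizer ({z} : Set G) ⊓ centralizer (P : Set G), centralizer ({z} : Set G) ⊓ centralizer (P : Set G)⁆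
    rw [hcP]
    exact c.z_mem_derived hpn h3
  obtain ⟨h1, h2, h4, h5⟩ := cent_structure S hz
  exact ⟨h1, h2, h4, h5, hgen ▸ c.normalizer_three_le hpn h3⟩

end CfsgLib.JankoFour
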