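import Cfsg.Agent.Lib.JankoFour.SylowThreeMain
import Cfsg.Agent.Lib.JankoFour.Setting
import Cfsg.Agent.Lib.JankoFour.Centraliser.NormP

/-!
# The Sylow 3-subgroup and its normalizer, from the hypothesis of Janko-four type
-/

set_option autoImplicit false
set_option linter.unusedSectionVars false
set_option linter.style.haveILetI false

namespace CfsgLib.JankoFour

open Subgroup QuadraticMap Cfsg

variable {G : Type*} [Group G] [Finite G]

/-- The normalizer of `P` lies in the centralizer of `z`, given the facts about the automizer. -/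
theorem normalizer_le_of_facts [IsSimpleGroup G] {z : G} {P : Subgroup G} (h : IsOfJankoFourTypeWith z P)
    (hfacts : ∀ {V : Type} [AddCommGroup V] [Module (ZMod 2) V] [Finite V]
      [DistribMulAction ((centralizer ({z} : Set G)) ⧸ core2 z) V] {q : QuadraticForm (ZMod 2) V}
      {n : (centralizer ({z} : Set G)) ⧸ core2 z} {M : Subgroup ((centralizer ({z} : Set G)) ⧸ core2 z)}
      {φ : ↥M →* ↥Cfsg.Spor.M22}, Core q n M φ → Facts q n M) :
    normalizer (P : Set G) ≤ centralizer ({z} : Set G) := by
  obtain ⟨ι, hι, q, inst, π, n, M, φ, m, -, p, hpP, hpn⟩ := exists_model_of_facts h hfacts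
  obtain ⟨-, -, -, -, -, hc, -, -, -⟩ := h
  have hp3 : (p : G) ^ 3 = 1 := by
    have h := pow_card_eq_one' (x := (⟨(p : G), hpP⟩ : ↥P))
    rw [hc] at h
    exact (congrArg Subtype.val h : _)
  have hp1 : (p : G) ≠ 1 := fun e => m.core.n_ne (by
    rw [← hpn, show p = 1 from Subtype.ext e, QuotientGroup.mk_one])
  haveI := Fact.mk Nat.prime_three
  have hgen : zpowers (p : G) = P := eq_of_le_of_card_ge (zpowers_le.2 hpP)
    (by rw [Nat.card_zpowers, orderOf_eq_prime hp3 hp1, hc])
  obtain ⟨s, A, Ab, T₀, c, -⟩ := Thompson.exists_ctx m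
  rw [← hgen]
  exact c.normalizer_three_le hpn (Subtype.ext (by
    show (p : G) * p * p = 1
    rw [← hp3, pow_succ, pow_two]))

/-- The Sylow 3-subgroup of the centralizer and its normalizer, given the facts about the automizer. -/
theorem sylow_three_of_facts [IsSimpleGroup G] {z : G} (hJ : IsOfJankoFourTypeAt z)
    (hfacts : ∀ {V : Type} [AddCommGroup V] [Module (ZMod 2) V] [Finite V]
      [DistribMulAction ((centralizer ({z} : Set G)) ⧸ core2 z) V] {q : QuadraticForm (ZMod 2) V}
      {n : (centralizer ({z} : Set G)) ⧸ core2 z} {M : Subgroup ((centralizer ({z} : Set G)) ⧸ core2 z)}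
      {φ : ↥M →* ↥Cfsg.Spor.M22}, Core q n M φ → Facts q n M)
    (R : Sylow 3 G) (hR : (R : Subgroup G) ≤ centralizer ({z} : Set G)) :
    IsExtraspecial 3 ↥(R : Subgroup G) ∧ Nat.card ↥(R : Subgroup G) = 27 ∧
      Monoid.exponent ↥(R : Subgroup G) = 3 ∧
      normalizer ((R : Subgroup G) : Set G) ≤ centralizer ({z} : Set G) ∧
      Nat.card ↥(normalizer ((R : Subgroup G) : Set G)) = 864 := by
  obtain ⟨P, hP⟩ := hJ
  obtain ⟨S⟩ := exists_setting hP
  exact sylow_three S (normalizer_le_of_facts hP hfacts) R hR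

end CfsgLib.JankoFour
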