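import Cfsg.Agent.Lib.MathieuOut.Outer

/-!
# The stabiliser of a pair of points in M24 is the automorphism group of M22

The pair stabiliser acts by conjugation on the point-wise stabiliser M22 without kernel, and both
groups have order 887040.
-/

set_option autoImplicit false
set_option maxRecDepth 100000

namespace CfsgLib.JankoFour

open Cfsg CfsgLib.Golay CfsgLib.M24Cert CfsgLib.MathieuOut

open scoped Pointwise

/-- The stabiliser of the two distinguished points in M24. -/
abbrev PairStab : Subgroup (Equiv.Perm GolayPt) :=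
  M24 ⊓ MulAction.stabilizer (Equiv.Perm GolayPt) ({none, some 0} : Set GolayPt)

theorem mem_pairStab {h : Equiv.Perm GolayPt} :
    h ∈ PairStab ↔ h ∈ M24 ∧
      ((h none = none ∧ h (some 0) = some 0) ∨ (h none = some 0 ∧ h (some 0) = none)) := by
  refine Subgroup.mem_inf.trans (and_congr_right fun _ => MulAction.mem_stabilizer_iff.trans ?_)
  rw [Set.smul_set_insert, Set.smul_set_singleton, Set.pair_eq_pair_iff]
  exact Iff.rfl

theorem mem_m22 {h : Equiv.Perm GolayPt} :
    h ∈ Cfsg.Spor.M22 ↔ h ∈ M24 ∧ h none = none ∧ h (some 0) = some 0 := by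
  simp [Cfsg.Spor.M22, Cfsg.Spor.M23, MulAction.mem_stabilizer_iff, and_assoc]

theorem conj_mem {h g : Equiv.Perm GolayPt} (hh : h ∈ PairStab) (hg : g ∈ Cfsg.Spor.M22) :
    h * g * h⁻¹ ∈ Cfsg.Spor.M22 := by
  obtain ⟨h24, hp⟩ := mem_pairStab.1 hh
  obtain ⟨g24, g1, g2⟩ := mem_m22.1 hg
  refine mem_m22.2 ⟨mul_mem (mul_mem h24 g24) (inv_mem h24), ?_⟩
  have hx : h⁻¹ (h none) = none := Equiv.symm_apply_apply _ _
  have hy : h⁻¹ (h (some 0)) = some 0 := Equiv.symm_apply_apply _ _
  rcases hp with ⟨e1, e2⟩ | ⟨e1, e2⟩ <;> rw [e1] at hx <;> rw [e2] at hy <;>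
    simp only [Equiv.Perm.mul_apply, hx, hy, g1, g2, e1, e2, and_self]

/-- Conjugation by an element of the pair stabiliser. -/
def conjAut (h : PairStab) : MulAut Cfsg.Spor.M22 where
  toFun g := ⟨h.1 * g.1 * h.1⁻¹, conj_mem h.2 g.2⟩
  invFun g := ⟨h.1⁻¹ * g.1 * h.1, by simpa using conj_mem (inv_mem h.2) g.2⟩
  left_inv g := Subtype.ext (by simp [mul_assoc])
  right_inv g := Subtype.ext (by simp [mul_assoc])
  map_mul' a b := Subtype.ext (by simp [mul_assoc])

/-- The action on the point-wise stabiliser. -/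
def conjHom : PairStab →* MulAut Cfsg.Spor.M22 where
  toFun := conjAut
  map_one' := MulEquiv.ext fun g => Subtype.ext (by simp [conjAut])
  map_mul' a b := MulEquiv.ext fun g => Subtype.ext (by simp [conjAut, mul_assoc])

theorem conjHom_injective : Function.Injective conjHom := by
  rw [← MonoidHom.ker_eq_bot_iff, Subgroup.eq_bot_iff_forall]
  intro h hk
  have hc : ∀ g ∈ Cfsg.Spor.M22, h.1 * g = g * h.1 := fun g hg => mul_inv_eq_iff_eq_mul.1
    (by simpa [conjHom, conjAut] using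
      congrArg Subtype.val (DFunLike.congr_fun (MonoidHom.mem_ker.1 hk) (⟨g, hg⟩ : Cfsg.Spor.M22)))
  obtain ⟨h24, hp⟩ := mem_pairStab.1 h.2
  rcases hp with ⟨e1, e2⟩ | ⟨e1, e2⟩
  · have := sporM22_simple
    have hm : h.1 ∈ Cfsg.Spor.M22 := mem_m22.2 ⟨h24, e1, e2⟩
    have hz : (⟨h.1, hm⟩ : Cfsg.Spor.M22) ∈ Subgroup.center Cfsg.Spor.M22 :=
      Subgroup.mem_center_iff.2 fun g => Subtype.ext (hc g.1 g.2).symm
    rcases (inferInstance : (Subgroup.center Cfsg.Spor.M22).Normal).eq_bot_or_eq_top with e | e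
    · rw [e, Subgroup.mem_bot] at hz
      exact Subtype.ext (by simpa using congrArg Subtype.val hz)
    · exfalso
      obtain ⟨-, hu2⟩ := m22_cut.of_test (L := m22Cert.u) (by decide +kernel)
      obtain ⟨-, hv2⟩ := m22_cut.of_test (L := m22Cert.v) (by decide +kernel)
      have := Subgroup.mem_center_iff.1 (e ▸ Subgroup.mem_top (⟨pL m22Cert.u, hu2⟩ : Cfsg.Spor.M22))
        ⟨pL m22Cert.v, hv2⟩
      have h2 : pL m22Cert.v * pL m22Cert.u ≠ pL m22Cert.u * pL m22Cert.v := by decide +kernel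
      exact h2 (congrArg Subtype.val this)
  · exfalso
    obtain ⟨hnv, hn24⟩ := mem_M24_of_m24B swap_facts.1
    obtain ⟨hu1, hu2⟩ := m22_cut.of_test (L := m22Cert.u) (by decide +kernel)
    have hn : pL swap22 none = some 0 ∧ pL swap22 (some 0) = none := by decide +kernel
    have hg : h.1 * (pL swap22)⁻¹ ∈ Cfsg.Spor.M22 := by
      refine mem_m22.2 ⟨mul_mem h24 (inv_mem hn24), ?_, ?_⟩
      · rw [Equiv.Perm.mul_apply,
          show (pL swap22)⁻¹ none = some 0 from (Equiv.symm_apply_eq _).2 hn.2.symm, e2]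
      · rw [Equiv.Perm.mul_apply,
          show (pL swap22)⁻¹ (some 0) = none from (Equiv.symm_apply_eq _).2 hn.1.symm, e1]
    obtain ⟨hk1, hk2⟩ := pL_powL hu1 2
    have e2' := congrArg pL (eqB_eq swap_facts.2.2.1)
    rw [pL_compL hnv hu1, pL_compL hk1 hnv, hk2] at e2'
    have hx : (h.1 * (pL swap22)⁻¹)⁻¹ * pL m22Cert.u =
        pL m22Cert.u ^ 2 * (h.1 * (pL swap22)⁻¹)⁻¹ := by
      have hcu := hc _ hu2
      calc (h.1 * (pL swap22)⁻¹)⁻¹ * pL m22Cert.u
          = pL swap22 * h.1⁻¹ * (pL m22Cert.u * h.1) * h.1⁻¹ := by group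
        _ = pL swap22 * pL m22Cert.u * h.1⁻¹ := by rw [← hcu]; group
        _ = _ := by rw [e2']; group
    obtain ⟨L, hL, -⟩ := transporters m22_cut hu1 2 (plan := m22Cert.planU) (E := [])
      (by decide +kernel) (by decide +kernel) (fun L hL => absurd hL List.not_mem_nil)
      (inv_mem hg) hx
    exact absurd hL List.not_mem_nil

theorem card_aut : Nat.card (MulAut Cfsg.Spor.M22) = 887040 := by
  have := sporM22_simple
  have hinj : Function.Injective (MulAut.conj : Cfsg.Spor.M22 →* MulAut Cfsg.Spor.M22) := by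
    intro a b hab
    have ha : ∀ g : Cfsg.Spor.M22, a * g * a⁻¹ = b * g * b⁻¹ := fun g =>
      DFunLike.congr_fun hab g
    have hle : Cfsg.Spor.M22 ≤ PairStab := fun x hx => mem_pairStab.2
      ⟨(mem_m22.1 hx).1, Or.inl (mem_m22.1 hx).2⟩
    have e : conjHom ⟨a.1, hle a.2⟩ = conjHom ⟨b.1, hle b.2⟩ :=
      MulEquiv.ext fun g => Subtype.ext (congrArg Subtype.val (ha g))
    exact Subtype.ext (congrArg (fun s : PairStab => s.1) (conjHom_injective e))
  rw [Subgroup.card_eq_card_quotient_mul_card_subgroup (Cfsg.Inn Cfsg.Spor.M22),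
    show Nat.card (MulAut Cfsg.Spor.M22 ⧸ Cfsg.Inn Cfsg.Spor.M22) = 2 from out_M22,
    show Nat.card (Cfsg.Inn Cfsg.Spor.M22) = 443520 from
      (Nat.card_congr (MonoidHom.ofInjective hinj).symm.toEquiv).trans card_sporM22]

theorem card_pairStab : 887040 ≤ Nat.card PairStab := by
  obtain ⟨hnv, hn24⟩ := mem_M24_of_m24B swap_facts.1
  have hn : pL swap22 none = some 0 ∧ pL swap22 (some 0) = none := by decide +kernel
  let f : Cfsg.Spor.M22 × Bool → PairStab := fun p =>
    ⟨p.1.1 * if p.2 then pL swap22 else 1, by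
      obtain ⟨g24, g1, g2⟩ := mem_m22.1 p.1.2
      refine mem_pairStab.2 ?_
      cases p.2
      · simp [g24, g1, g2]
      · exact ⟨mul_mem g24 hn24, Or.inr ⟨by simp [hn.1, g2], by simp [hn.2, g1]⟩⟩⟩
  have hf : Function.Injective f := by
    rintro ⟨g, a⟩ ⟨g', b⟩ h
    have h' : g.1 * (if a then pL swap22 else 1) = g'.1 * if b then pL swap22 else 1 :=
      congrArg Subtype.val h
    obtain ⟨-, g1, -⟩ := mem_m22.1 g.2
    obtain ⟨-, g1', g2'⟩ := mem_m22.1 g'.2
    obtain ⟨-, -, g2⟩ := mem_m22.1 g.2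
    have hab : a = b := by
      have e := congrArg (fun s : Equiv.Perm GolayPt => s none) h'
      cases a <;> cases b <;> simp [hn.1, g1, g2, g1', g2'] at e <;> rfl
    subst hab
    simp only [mul_left_inj] at h'
    exact Prod.ext (Subtype.ext h') rfl
  have h := Nat.card_le_card_of_injective f hf
  rw [Nat.card_prod, card_sporM22, Nat.card_eq_fintype_card, Fintype.card_bool] at h
  omega

/-- The pair stabiliser in M24 is the automorphism group of M22. -/
theorem pairStab_equiv_aut :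
    Nonempty (↥(Cfsg.M24 ⊓ MulAction.stabilizer (Equiv.Perm Cfsg.GolayPt)
      ({none, some 0} : Set Cfsg.GolayPt)) ≃* MulAut ↥Cfsg.Spor.M22) := by
  haveI : Finite (MulAut Cfsg.Spor.M22) := Nat.finite_of_card_ne_zero (by rw [card_aut]; norm_num)
  exact ⟨MulEquiv.ofBijective conjHom (Function.Injective.bijective_of_nat_card_le conjHom_injective
    (card_aut.trans_le card_pairStab))⟩

end CfsgLib.JankoFour
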