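import Cfsg.Agent.Lib.JankoFour.Thompson.Normaliser
import Cfsg.Agent.Lib.JankoFour.PairAut
import Cfsg.Agent.Lib.Golay.M24Sub

/-!
# The statements on the elementary subgroups of order `2^11`, from the model
-/

set_option autoImplicit false
set_option linter.unusedSectionVars false
set_option linter.style.haveILetI false
set_option maxHeartbeats 1000000

namespace CfsgLib.JankoFour

open Subgroup QuadraticMap
open Cfsg (GolayPt)
open CfsgLib.JankoFour.Thompson (Ctx Ns Zs)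
open CfsgLib.LargeFischer.Thompson (elem_map')
open scoped Pointwise

variable {G : Type*} [Group G] [Finite G]

/-- Conjugation carries normalisers. -/
theorem mem_normalizer_map {A : Subgroup G} (k m : G) :
    m ∈ Subgroup.normalizer ((A.map (MulAut.conj k).toMonoidHom : Subgroup G) : Set G) ↔
      k⁻¹ * m * k ∈ Subgroup.normalizer (A : Set G) := by
  have hmem : ∀ x : G, x ∈ A.map (MulAut.conj k).toMonoidHom ↔ k⁻¹ * x * k ∈ A := fun x => by
    constructor
    · rintro ⟨a, ha, rfl⟩; simpa [mul_assoc] using ha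
    · exact fun h => ⟨_, h, by simp [mul_assoc]⟩
  rw [Subgroup.mem_normalizer_iff, Subgroup.mem_normalizer_iff]
  constructor
  · intro h a
    have := h (k * a * k⁻¹)
    simp only [hmem] at this
    simpa [mul_assoc] using this
  · intro h a
    simp only [hmem]
    simpa [mul_assoc] using h (k⁻¹ * a * k)

theorem normalizer_map_conj (A : Subgroup G) (k : G) :
    Subgroup.normalizer ((A.map (MulAut.conj k).toMonoidHom : Subgroup G) : Set G) =
      (Subgroup.normalizer (A : Set G)).map (MulAut.conj k).toMonoidHom := by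
  ext m
  rw [mem_normalizer_map]
  constructor
  · exact fun h => ⟨_, h, by simp [mul_assoc]⟩
  · rintro ⟨x, hx, rfl⟩; simpa [mul_assoc] using hx

variable {z : G} {Q : Subgroup (centralizer ({z} : Set G))} [Q.Normal] {V : Type*} [AddCommGroup V]
  [Module (ZMod 2) V] [DistribMulAction ((centralizer ({z} : Set G)) ⧸ Q) V] [Finite V]
  {q : QuadraticForm (ZMod 2) V} {π : ↥Q → V} {n : (centralizer ({z} : Set G)) ⧸ Q}
  {M : Subgroup ((centralizer ({z} : Set G)) ⧸ Q)} {φ : ↥M →* ↥Cfsg.Spor.M22}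

section Ctx

variable {s : V} {A : Subgroup G} {Ab : Subgroup ((centralizer ({z} : Set G)) ⧸ Q)} (c : Ctx Q q π n M φ s A Ab)
include c

theorem orbit_Zs : {v : G | ∃ m ∈ Subgroup.normalizer (A : Set G), m * z * m⁻¹ = v} = Zs z A := by
  ext a
  constructor
  · rintro ⟨m, hm, rfl⟩
    exact ⟨c.conj_mem hm c.z_mem, isConj_iff.2 ⟨m, rfl⟩⟩
  · rintro ⟨ha, hc⟩
    obtain ⟨g, hg⟩ := isConj_iff.1 hc
    obtain ⟨m, hm, e⟩ := c.fusion c.z_mem (g := g) (hg ▸ ha)
    exact ⟨m, hm, e.trans hg⟩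

theorem orbit_Ns {t : G} (ht : t ∈ Ns z A) :
    {v : G | ∃ m ∈ Subgroup.normalizer (A : Set G), m * t * m⁻¹ = v} = Ns z A := by
  ext a
  constructor
  · rintro ⟨m, hm, rfl⟩
    exact c.Ns_conj hm ht
  · exact fun ha => c.Ns_trans ht ha

theorem exists_Ns : ∃ t, t ∈ Ns z A :=
  (Set.ncard_pos (Set.toFinite _)).1 (by rw [c.Ns_counts.1]; norm_num)

/-- A complement is the Mathieu group. -/
theorem complement_iso {K : Subgroup G} (hK : K ≤ Subgroup.normalizer (A : Set G)) (hKA : K ⊓ A = ⊥)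
    (hKA' : K ⊔ A = Subgroup.normalizer (A : Set G)) :
    ∃ f : ↥K →* Equiv.Perm GolayPt, Function.Injective f ∧ f.range = Cfsg.M24 ∧
      ∀ t ∈ Ns z A, ∃ a b : GolayPt, a ≠ b ∧
        ∀ m : ↥K, (m : G) * t * (m : G)⁻¹ = t ↔ f m • ({a, b} : Set GolayPt) = {a, b} := by
  obtain ⟨ψ, hker, hrange, hpt⟩ := c.exists_mathieu
  refine ⟨ψ.comp (Subgroup.inclusion hK), ?_, ?_, fun t ht => ?_⟩
  · rw [← MonoidHom.ker_eq_bot_iff, Subgroup.eq_bot_iff_forall]
    intro x hx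
    have h1 : Subgroup.inclusion hK x ∈ ψ.ker := hx
    rw [hker] at h1
    have h2 : (x : G) ∈ K ⊓ A := ⟨x.2, h1⟩
    rw [hKA, Subgroup.mem_bot] at h2
    exact Subtype.ext h2
  · refine le_antisymm (fun y ⟨x, hx⟩ => hrange.le ⟨_, hx⟩) fun y hy => ?_
    obtain ⟨m, rfl⟩ : y ∈ ψ.range := hrange.ge hy
    have hm : (m : G) ∈ K ⊔ A := hKA'.ge m.2
    have hnorm : K ≤ Subgroup.normalizer (A : Set G) := hK
    rw [← SetLike.mem_coe, Subgroup.coe_mul_of_left_le_normalizer_right K A hnorm] at hm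
    obtain ⟨x, hx, a, ha, e⟩ := hm
    refine ⟨⟨x, hx⟩, ?_⟩
    have h1 : (⟨a, Subgroup.le_normalizer ha⟩ : ↥(Subgroup.normalizer (A : Set G))) ∈ ψ.ker := by
      rw [hker]; exact ha
    show ψ (Subgroup.inclusion hK ⟨x, hx⟩) = ψ m
    rw [show m = Subgroup.inclusion hK ⟨x, hx⟩ * ⟨a, Subgroup.le_normalizer ha⟩ from Subtype.ext e.symm, map_mul,
      MonoidHom.mem_ker.1 h1, mul_one]
  · obtain ⟨a, b, hab, h⟩ := hpt t ht
    exact ⟨a, b, hab, fun m => h (Subgroup.inclusion hK m)⟩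

/-- The centraliser of one of the 276 elements. -/
theorem centraliser_split {K : Subgroup G} (hK : K ≤ Subgroup.normalizer (A : Set G)) (hKA : K ⊓ A = ⊥)
    (hKA' : K ⊔ A = Subgroup.normalizer (A : Set G)) {t : G} (ht : t ∈ Ns z A)
    (hct : centralizer ({t} : Set G) ≤ Subgroup.normalizer (A : Set G)) :
    (K ⊓ centralizer ({t} : Set G)) ⊔ A = centralizer ({t} : Set G) ∧
      Nonempty (↥(K ⊓ centralizer ({t} : Set G)) ≃* MulAut ↥Cfsg.Spor.M22) := by
  have hAt : A ≤ centralizer ({t} : Set G) := fun a ha => mem_centralizer_singleton_iff.2 (c.comm ha ht.1)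
  refine ⟨le_antisymm (sup_le inf_le_right hAt) fun x hx => ?_, ?_⟩
  · have hx' : x ∈ K ⊔ A := hKA' ▸ hct hx
    rw [← SetLike.mem_coe, Subgroup.coe_mul_of_left_le_normalizer_right K A hK] at hx'
    obtain ⟨y, hy, a, ha, rfl⟩ := hx'
    have hy' : y ∈ centralizer ({t} : Set G) := by
      have := mul_mem hx (inv_mem (hAt ha))
      simpa [mul_assoc] using this
    exact Subgroup.mul_mem_sup ⟨hy, hy'⟩ ha
  · obtain ⟨f, hf, hrange, hpt⟩ := complement_iso c hK hKA hKA'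
    obtain ⟨a, b, hab, hiff⟩ := hpt t ht
    obtain ⟨g, hg, hga, hgb⟩ := CfsgLib.Golay.M24_map_two hab
      (show (none : GolayPt) ≠ some 0 from Option.some_ne_none _ |>.symm)
    have hP : g • ({a, b} : Set GolayPt) = {none, some 0} := by
      rw [Set.smul_set_insert, Set.smul_set_singleton, Equiv.Perm.smul_def, Equiv.Perm.smul_def, hga, hgb]
    have hstab : ∀ x : Equiv.Perm GolayPt, (g * x * g⁻¹) • ({none, some 0} : Set GolayPt) = {none, some 0} ↔
        x • ({a, b} : Set GolayPt) = {a, b} := by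
      intro x
      rw [← hP, mul_smul, mul_smul, inv_smul_smul, smul_left_cancel_iff]
    let χ : ↥(K ⊓ centralizer ({t} : Set G)) →* Equiv.Perm GolayPt :=
      (MulAut.conj g).toMonoidHom.comp (f.comp (Subgroup.inclusion inf_le_left))
    have hχ : Function.Injective χ :=
      (MulEquiv.injective (MulAut.conj g)).comp (hf.comp (Subgroup.inclusion_injective inf_le_left))
    have hrχ : χ.range = Cfsg.M24 ⊓ MulAction.stabilizer (Equiv.Perm GolayPt) ({none, some 0} : Set GolayPt) := by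
      ext y
      constructor
      · rintro ⟨x, rfl⟩
        refine ⟨show g * f (Subgroup.inclusion inf_le_left x) * g⁻¹ ∈ Cfsg.M24 from
          mul_mem (mul_mem hg (hrange ▸ ⟨_, rfl⟩)) (inv_mem hg), (hstab _).2 ((hiff _).1 ?_)⟩
        show (x : G) * t * (x : G)⁻¹ = t
        rw [mem_centralizer_singleton_iff.1 x.2.2, mul_inv_cancel_right]
      · rintro ⟨hy, hys⟩
        obtain ⟨m, hm⟩ : g⁻¹ * y * g ∈ f.range := hrange.symm ▸ mul_mem (mul_mem (inv_mem hg) hy) hg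
        have hmt : (m : G) * t * (m : G)⁻¹ = t := (hiff m).2 (by
          rw [← hstab, hm, show g * (g⁻¹ * y * g) * g⁻¹ = y by group]
          exact hys)
        refine ⟨⟨m, m.2, mem_centralizer_singleton_iff.2 (mul_inv_eq_iff_eq_mul.1 hmt)⟩, ?_⟩
        show g * f m * g⁻¹ = y
        rw [hm]; group
    obtain ⟨e⟩ := pairStab_equiv_aut
    exact ⟨((MonoidHom.ofInjective hχ).trans (MulEquiv.subgroupCongr hrχ)).trans e⟩

end Ctx

variable (m : Model z Q q π n M φ)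
include m

theorem unique_big (T : Sylow 2 G) :
    ∃! B : Subgroup G, B ≤ (T : Subgroup G) ∧ Cfsg.IsElementaryAbelian 2 B ∧ Nat.card ↥B = 2 ^ 11 := by
  obtain ⟨s, A, Ab, -, h, -⟩ := Thompson.exists_conjugate m
  exact h T

/-- The self-centralising elementary subgroup and its split normaliser. -/
theorem big_normaliser
    (hsplit : ∀ (s : V) (A : Subgroup G) (Ab : Subgroup ((centralizer ({z} : Set G)) ⧸ Q)), Ctx Q q π n M φ s A Ab →
      ∃ K : Subgroup G, K ≤ Subgroup.normalizer (A : Set G) ∧ K ⊓ A = ⊥ ∧ K ⊔ A = Subgroup.normalizer (A : Set G))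
    {B : Subgroup G} (hB : Cfsg.IsElementaryAbelian 2 B) (h11 : Nat.card ↥B = 2 ^ 11) :
    centralizer (B : Set G) ≤ B ∧ ∃ K : Subgroup G, K ≤ Subgroup.normalizer (B : Set G) ∧ K ⊓ B = ⊥ ∧
      K ⊔ B = Subgroup.normalizer (B : Set G) ∧ Cfsg.Spor.IsoM24 ↥K := by
  obtain ⟨s, A, Ab, c, -, hconj⟩ := Thompson.exists_conjugate m
  obtain ⟨k, rfl⟩ := hconj B hB h11
  refine ⟨fun x hx => ⟨k⁻¹ * x * k, c.cent fun a ha => ?_, by simp [mul_assoc]⟩, ?_⟩
  · have h := mem_centralizer_iff.1 hx (k * a * k⁻¹) ⟨a, ha, rfl⟩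
    calc k⁻¹ * x * k * a = k⁻¹ * (x * (k * a * k⁻¹)) * k := by group
      _ = k⁻¹ * ((k * a * k⁻¹) * x) * k := by rw [h]
      _ = a * (k⁻¹ * x * k) := by group
  obtain ⟨K, hK, hKA, hKA'⟩ := hsplit s A Ab c
  obtain ⟨f, hf, hrange, -⟩ := complement_iso c hK hKA hKA'
  refine ⟨K.map (MulAut.conj k).toMonoidHom, ?_, ?_, ?_, ?_⟩
  · rw [normalizer_map_conj]; exact map_mono hK
  · rw [← map_inf_eq _ _ _ (MulEquiv.injective _), hKA, Subgroup.map_bot]
  · rw [normalizer_map_conj, ← Subgroup.map_sup, hKA']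
  · exact ⟨((K.equivMapOfInjective _ (MulEquiv.injective _)).symm.trans (MonoidHom.ofInjective hf)).trans
      (MulEquiv.subgroupCongr hrange)⟩

/-- The two orbits of the normaliser. -/
theorem big_orbits
    (hct : ∀ (s : V) (A : Subgroup G) (Ab : Subgroup ((centralizer ({z} : Set G)) ⧸ Q)), Ctx Q q π n M φ s A Ab →
      ∀ t ∈ Ns z A, centralizer ({t} : Set G) ≤ Subgroup.normalizer (A : Set G))
    {B : Subgroup G} (hB : Cfsg.IsElementaryAbelian 2 B) (h11 : Nat.card ↥B = 2 ^ 11) :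
    ∃ z' t : G, z' ∈ B ∧ t ∈ B ∧ t ≠ 1 ∧ IsConj z z' ∧ ¬ IsConj z t ∧
      Set.ncard {v : G | ∃ m ∈ Subgroup.normalizer (B : Set G), m * z' * m⁻¹ = v} = 1771 ∧
      Set.ncard {v : G | ∃ m ∈ Subgroup.normalizer (B : Set G), m * t * m⁻¹ = v} = 276 ∧
      centralizer ({t} : Set G) ≤ Subgroup.normalizer (B : Set G) := by
  obtain ⟨s, A, Ab, c, -, hconj⟩ := Thompson.exists_conjugate m
  obtain ⟨k, rfl⟩ := hconj B hB h11
  obtain ⟨t, ht⟩ := exists_Ns c
  have himg : ∀ x : G, {v : G | ∃ w ∈ Subgroup.normalizer ((A.map (MulAut.conj k).toMonoidHom : Subgroup G) : Set G),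
      w * (k * x * k⁻¹) * w⁻¹ = v} = MulAut.conj k '' {v : G | ∃ w ∈ Subgroup.normalizer (A : Set G), w * x * w⁻¹ = v} := by
    intro x
    rw [normalizer_map_conj]
    ext v
    constructor
    · rintro ⟨_, ⟨w, hw, rfl⟩, rfl⟩
      exact ⟨w * x * w⁻¹, ⟨w, hw, rfl⟩, by simp [mul_assoc]⟩
    · rintro ⟨_, ⟨w, hw, rfl⟩, rfl⟩
      exact ⟨k * w * k⁻¹, ⟨w, hw, rfl⟩, by simp [mul_assoc]⟩
  refine ⟨k * z * k⁻¹, k * t * k⁻¹, ⟨z, c.z_mem, rfl⟩, ⟨t, ht.1, rfl⟩, fun e => ht.2.1 (conj_eq_one_iff.1 e),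
    isConj_iff.2 ⟨k, rfl⟩, fun h => ht.2.2 (h.trans (isConj_iff.2 ⟨k, rfl⟩).symm), ?_, ?_, fun x hx => ?_⟩
  · rw [himg, Set.ncard_image_of_injective _ (MulEquiv.injective _), orbit_Zs c, c.Zs_facts.1]
  · rw [himg, Set.ncard_image_of_injective _ (MulEquiv.injective _), orbit_Ns c ht, c.Ns_counts.1]
  · rw [mem_normalizer_map]
    refine hct s A Ab c t ht (mem_centralizer_singleton_iff.2 ?_)
    have h := mem_centralizer_singleton_iff.1 hx
    calc k⁻¹ * x * k * t = k⁻¹ * (x * (k * t * k⁻¹)) * k := by group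
      _ = k⁻¹ * ((k * t * k⁻¹) * x) * k := by rw [h]
      _ = t * (k⁻¹ * x * k) := by group

/-- The centraliser of an involution outside the class. -/
theorem other_centraliser
    (hsplit : ∀ (s : V) (A : Subgroup G) (Ab : Subgroup ((centralizer ({z} : Set G)) ⧸ Q)), Ctx Q q π n M φ s A Ab →
      ∃ K : Subgroup G, K ≤ Subgroup.normalizer (A : Set G) ∧ K ⊓ A = ⊥ ∧ K ⊔ A = Subgroup.normalizer (A : Set G))
    (hct : ∀ (s : V) (A : Subgroup G) (Ab : Subgroup ((centralizer ({z} : Set G)) ⧸ Q)), Ctx Q q π n M φ s A Ab →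
      ∀ t ∈ Ns z A, centralizer ({t} : Set G) ≤ Subgroup.normalizer (A : Set G))
    (hinv : ∀ (s : V) (A : Subgroup G) (Ab : Subgroup ((centralizer ({z} : Set G)) ⧸ Q)), Ctx Q q π n M φ s A Ab →
      ∀ b : G, orderOf b = 2 → ¬ IsConj z b → ∃ g : G, g * b * g⁻¹ ∈ A)
    {b : G} (hb : orderOf b = 2) (hnc : ¬ IsConj z b) :
    ∃ W K : Subgroup G, W ≤ centralizer ({b} : Set G) ∧ K ≤ centralizer ({b} : Set G) ∧
      centralizer ({b} : Set G) ≤ Subgroup.normalizer (W : Set G) ∧ Cfsg.IsElementaryAbelian 2 W ∧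
      Nat.card ↥W = 2 ^ 11 ∧ K ⊓ W = ⊥ ∧ K ⊔ W = centralizer ({b} : Set G) ∧
      Nonempty (↥K ≃* MulAut ↥Cfsg.Spor.M22) := by
  obtain ⟨s, A, Ab, c, -, -⟩ := Thompson.exists_conjugate m
  obtain ⟨g, hg⟩ := hinv s A Ab c b hb hnc
  set t := g * b * g⁻¹ with htdef
  have ht : t ∈ Ns z A := ⟨hg, fun e => by
      rw [conj_eq_one_iff.1 e, orderOf_one] at hb; omega,
    fun h => hnc (h.trans (isConj_iff.2 ⟨g, rfl⟩).symm)⟩
  obtain ⟨K, hK, hKA, hKA'⟩ := hsplit s A Ab c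
  have hle := hct s A Ab c t ht
  obtain ⟨hsup, ⟨e⟩⟩ := centraliser_split c hK hKA hKA' ht hle
  set cj := (MulAut.conj g⁻¹).toMonoidHom
  have hcb : centralizer ({b} : Set G) = (centralizer ({t} : Set G)).map cj := by
    ext x
    constructor
    · intro hx
      refine ⟨g * x * g⁻¹, mem_centralizer_singleton_iff.2 ?_, by simp [cj, mul_assoc]⟩
      have h := mem_centralizer_singleton_iff.1 hx
      calc g * x * g⁻¹ * t = g * (x * b) * g⁻¹ := by rw [htdef]; group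
        _ = t * (g * x * g⁻¹) := by rw [h, htdef]; group
    · rintro ⟨y, hy, rfl⟩
      refine mem_centralizer_singleton_iff.2 ?_
      show g⁻¹ * y * g⁻¹⁻¹ * b = b * (g⁻¹ * y * g⁻¹⁻¹)
      have h := mem_centralizer_singleton_iff.1 hy
      calc g⁻¹ * y * g⁻¹⁻¹ * b = g⁻¹ * (y * t) * g := by rw [htdef]; group
        _ = _ := by rw [h, htdef]; group
  refine ⟨A.map cj, (K ⊓ centralizer ({t} : Set G)).map cj, ?_, ?_, ?_, elem_map' _ c.elem,
    (card_map_of_injective (MulEquiv.injective _)).trans c.card, ?_, ?_,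
    ⟨((K ⊓ centralizer ({t} : Set G)).equivMapOfInjective cj (MulEquiv.injective _)).symm.trans e⟩⟩
  · rw [hcb, ← hsup]; exact map_mono le_sup_right
  · rw [hcb]; exact map_mono inf_le_right
  · rw [hcb, normalizer_map_conj]; exact map_mono hle
  · rw [← map_inf_eq _ _ _ (MulEquiv.injective _), show K ⊓ centralizer ({t} : Set G) ⊓ A = ⊥ from
      le_bot_iff.1 ((inf_le_inf_right A inf_le_left).trans hKA.le), Subgroup.map_bot]
  · rw [← Subgroup.map_sup, hsup, hcb]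

end CfsgLib.JankoFour
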