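import Cfsg.Agent.Lib.JankoFour.Setting
import Cfsg.Agent.Lib.JankoFour.Rigid.Facts

/-!
# Groups of Janko-four type: the model exists
-/

set_option autoImplicit false

namespace CfsgLib.JankoFour

open Subgroup

variable {G : Type*} [Group G] [Finite G]

/-- The model of the centraliser of the involution. -/
theorem exists_model [IsSimpleGroup G] {z : G} {P : Subgroup G} (h : Cfsg.IsOfJankoFourTypeWith z P) :
    ∃ (ι : Type) (_ : Fintype ι) (q : QuadraticForm (ZMod 2) (ι → ZMod 2))
      (_ : DistribMulAction ((centralizer ({z} : Set G)) ⧸ core2 z) (ι → ZMod 2))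
      (π : ↥(core2 z) → ι → ZMod 2) (n : (centralizer ({z} : Set G)) ⧸ core2 z)
      (M : Subgroup ((centralizer ({z} : Set G)) ⧸ core2 z)) (φ : ↥M →* ↥Cfsg.Spor.M22),
      Model z (core2 z) q π n M φ ∧ (core2 z).map (centralizer ({z} : Set G)).subtype = Cfsg.twoCoreOfCentralizer z ∧
        ∃ p : centralizer ({z} : Set G), (p : G) ∈ P ∧ QuotientGroup.mk p = n :=
  exists_model_of_facts h fun c => c.facts

end CfsgLib.JankoFour
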