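import Cfsg.Agent.Lib.JankoFour.FiveGroup

/-!
# The centraliser of an element of order five
-/

set_option autoImplicit false
set_option linter.unusedSectionVars false
set_option linter.style.haveILetI false

namespace CfsgLib.JankoFour.Five

open Subgroup QuadraticMap CfsgLib.LargeExtra
open CfsgLib.LargeFischer (CentData vadd_self eq_of_vadd q_add z2_cases)

variable {G : Type*} [Group G] [Finite G]
variable {z : G} {Q : Subgroup (centralizer ({z} : Set G))} [Q.Normal]
  {V : Type*} [AddCommGroup V] [Module (ZMod 2) V] [DistribMulAction ((centralizer ({z} : Set G)) ⧸ Q) V] [Finite V]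
  {q : QuadraticForm (ZMod 2) V} {π : ↥Q → V} {n : (centralizer ({z} : Set G)) ⧸ Q}
  {M : Subgroup ((centralizer ({z} : Set G)) ⧸ Q)} {φ : ↥M →* ↥Cfsg.Spor.M22}
  {f : centralizer ({z} : Set G)} {u : V}

set_option quotPrecheck false in
local notation "Hz" => centralizer ({z} : Set G)
set_option quotPrecheck false in
local notation "K" => (centralizer ({z} : Set G)) ⧸ Q
set_option quotPrecheck false in
local notation "QG" => Q.map (centralizer ({z} : Set G)).subtype

/-- What is wanted from the second class of involutions. -/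
structure Second (z : G) (f : centralizer ({z} : Set G)) : Prop where
  ex : ∃ t ∈ cX f, t * t = 1 ∧ t ≠ 1 ∧ ¬ IsConj z t
  cent : ∀ t ∈ cX f, t * t = 1 → t ≠ 1 → ¬ IsConj z t →
    ∃ a, Nat.card ↥(cX f ⊓ centralizer ({t} : Set G)) = 5 * 2 ^ a

/-- A group of twice the order of `R` containing it normalises it. -/
theorem le_normalizer_of_double {T R : Subgroup G} (hRT : R ≤ T) (h : Nat.card ↥T = 2 * Nat.card ↥R) :
    T ≤ normalizer (R : Set G) := by
  have hi : (R.subgroupOf T).index = 2 := by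
    have h1 := (R.subgroupOf T).card_mul_index
    rw [Nat.card_congr (subgroupOfEquivOfLe hRT).toEquiv, h] at h1
    have := Nat.card_pos (α := ↥R)
    nlinarith
  haveI := normal_of_index_eq_two hi
  intro g hg
  rw [mem_normalizer_iff]
  intro x
  constructor
  · intro hx
    have h1 := Subgroup.Normal.conj_mem (H := R.subgroupOf T) inferInstance ⟨x, hRT hx⟩ hx ⟨g, hg⟩
    exact h1
  · intro hx
    have hxT : x ∈ T := by
      have := mul_mem (mul_mem (inv_mem hg) (hRT hx)) hg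
      simpa [mul_assoc] using this
    have h1 := Subgroup.Normal.conj_mem' (H := R.subgroupOf T) inferInstance ⟨g * x * g⁻¹, hRT hx⟩ hx ⟨g, hg⟩
    simpa [mem_subgroupOf, mul_assoc] using h1

namespace Ctx

variable (c : Ctx Q q π n M φ f u)

include c

theorem qX_le : c.qX.map ((centralizer ({z} : Set G)).subtype.comp Q.subtype) ≤ Hz ⊓ cX f := by
  rintro _ ⟨x, hx, rfl⟩
  exact ⟨(x : Hz).2, hx⟩

/-- An involution conjugate to `z` centralising the part of the core commuting with `f` is `z`. -/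
theorem eq_z {a : G} (haH : a ∈ Hz) (haX : a ∈ cX f) (haa : a * a = 1) (ha1 : a ≠ 1)
    (h : ∀ x ∈ c.qX, a * ((x : Hz) : G) = ((x : Hz) : G) * a) : a = z := by
  set w : Hz := ⟨a, haH⟩ with hw
  have hwcomm : (QuotientGroup.mk w : K) * QuotientGroup.mk f = QuotientGroup.mk f * QuotientGroup.mk w := by
    rw [← QuotientGroup.mk_mul, ← QuotientGroup.mk_mul, show w * f = f * w from Subtype.ext (mem_cX.1 haX)]
  have hfix : ∀ v : V, (QuotientGroup.mk f : K) • v = v → (QuotientGroup.mk w : K) • v = v := by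
    intro v hv
    obtain ⟨x, rfl⟩ := c.mdl.surj v
    exact c.mdl.fixed_of_comm (Subtype.ext (h x ((c.fix_iff x).1 hv)))
  have hw0 : (QuotientGroup.mk w : K) = 1 := by
    obtain ⟨i, hi⟩ := mem_zpowers_iff.1 (c.mdl.core.cent_fix_line c.facts c.ordK c.fixu c.u0 hwcomm
      (hfix u c.fixu) (hfix _ (c.mdl.core.fix_n c.ordK c.fixu)))
    have h2 : (QuotientGroup.mk w : K) ^ 2 = 1 := by
      rw [← QuotientGroup.mk_pow, pow_two, show w * w = 1 from Subtype.ext haa]; rfl
    have h5 : (QuotientGroup.mk w : K) ^ 5 = 1 := by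
      have hk5 : (QuotientGroup.mk f : K) ^ (5 : ℕ) = 1 := by rw [← c.ordK, pow_orderOf_eq_one]
      rw [← hi, ← zpow_natCast, ← zpow_mul, mul_comm, zpow_mul, zpow_natCast, hk5, one_zpow]
    have := Nat.dvd_gcd (orderOf_dvd_of_pow_eq_one h2) (orderOf_dvd_of_pow_eq_one h5)
    rw [show Nat.gcd 2 5 = 1 from rfl, Nat.dvd_one, orderOf_eq_one_iff] at this
    exact this
  set x : ↥Q := ⟨w, (QuotientGroup.eq_one_iff w).1 hw0⟩ with hx
  have hπ : π x = 0 := by
    refine c.mdl.core.fix_nondeg c.ordK ((c.fix_iff x).2 haX) fun v hv => ?_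
    obtain ⟨b, rfl⟩ := c.mdl.surj v
    exact (c.mdl.polar_iff x b).2 (h b ((c.fix_iff b).1 hv))
  exact ((c.mdl.ker x).1 hπ).resolve_left ha1

theorem exists_sylow : ∃ T : Sylow 2 ↥(cX f), (T : Subgroup ↥(cX f)).map (cX f).subtype ≤ Hz := by
  haveI : Fact (Nat.Prime 2) := ⟨Nat.prime_two⟩
  set C : Subgroup G := Hz ⊓ cX f with hC
  have hfac : (Nat.card ↥C).factorization 2 = 6 := by
    rw [c.card_CH, show (960 : ℕ) = 2 ^ 6 * 15 by norm_num, Nat.factorization_mul (by norm_num) (by norm_num),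
      Finsupp.add_apply, Nat.Prime.factorization_pow Nat.prime_two,
      Nat.factorization_eq_zero_of_not_dvd (n := 15) (by norm_num)]
    simp
  set R : Subgroup G := c.qX.map ((centralizer ({z} : Set G)).subtype.comp Q.subtype) with hR
  have hR32 : Nat.card ↥(R.subgroupOf C) = 2 ^ 5 := by
    rw [Nat.card_congr (subgroupOfEquivOfLe c.qX_le).toEquiv, card_map_of_injective, c.card_qX]; · norm_num
    intro a b e
    exact Subtype.ext (Subtype.ext e)
  obtain ⟨T', hT', hRT'⟩ := Sylow.exists_subgroup_card_pow_succ (n := 5) (p := 2)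
    (G := ↥C) (by rw [c.card_CH]; norm_num) hR32
  set T0 : Subgroup G := T'.map C.subtype with hT0
  have hT0c : Nat.card ↥T0 = 64 := by rw [card_map_of_injective (subtype_injective _), hT']; norm_num
  have hT0le : T0 ≤ C := map_subtype_le T'
  have hfix : ∀ g : G, g ∈ cX f → g ∈ normalizer (T0 : Set G) → g ∈ Hz := by
    intro g hgX hgN
    have hzT : z ∈ T0 := by
      obtain ⟨zQ, hzQ, -⟩ := c.mdl.exists_zQ
      refine ⟨⟨z, mem_centralizer_singleton_iff.2 rfl, c.z_cX⟩, hRT' ?_, rfl⟩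
      exact ⟨zQ, by show ((zQ : Hz) : G) ∈ cX f; rw [hzQ]; exact c.z_cX, hzQ⟩
    have haT := (mem_normalizer_iff.1 hgN z).1 hzT
    have hqT : ∀ x ∈ c.qX, ((x : Hz) : G) ∈ T0 := fun x hx =>
      ⟨⟨_, (x : Hz).2, hx⟩, hRT' ⟨x, hx, rfl⟩, rfl⟩
    have := c.eq_z (hT0le haT).1 (hT0le haT).2 (by
        calc g * z * g⁻¹ * (g * z * g⁻¹) = g * (z * z) * g⁻¹ := by group
          _ = 1 := by rw [c.zz]; group)
      (fun e => c.z_ne_one (conj_eq_one_iff.1 e)) (fun x hx => ?_)
    · exact mem_centralizer_singleton_iff.2 (mul_inv_eq_iff_eq_mul.1 this)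
    · have h1 : g⁻¹ * ((x : Hz) : G) * g ∈ T0 := by
        have h := (mem_normalizer_iff.1 (inv_mem hgN) _).1 (hqT x hx)
        rwa [inv_inv] at h
      have h2 := mem_centralizer_singleton_iff.1 (hT0le h1).1
      calc g * z * g⁻¹ * ((x : Hz) : G) = g * (z * (g⁻¹ * ((x : Hz) : G) * g)) * g⁻¹ := by group
        _ = g * (g⁻¹ * ((x : Hz) : G) * g * z) * g⁻¹ := by rw [h2]
        _ = ((x : Hz) : G) * (g * z * g⁻¹) := by group
  have hT0X : T0 ≤ cX f := fun _ h => (hT0le h).2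
  have hfacX : (Nat.card ↥(cX f)).factorization 2 = 6 := by
    have h6 : 2 ^ 6 ∣ Nat.card ↥(cX f) := by
      have := card_dvd_of_le hT0X
      rwa [hT0c, show (64 : ℕ) = 2 ^ 6 by norm_num] at this
    refine le_antisymm (not_lt.1 fun hlt => ?_) ((Nat.Prime.pow_dvd_iff_le_factorization Nat.prime_two Nat.card_pos.ne').1 h6)
    have h7 : 2 ^ (6 + 1) ∣ Nat.card ↥(cX f) :=
      (Nat.Prime.pow_dvd_iff_le_factorization Nat.prime_two Nat.card_pos.ne').2 hlt
    obtain ⟨S, hS, hTS⟩ := Sylow.exists_subgroup_card_pow_succ h7 (H := T0.subgroupOf (cX f)) (by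
      rw [Nat.card_congr (subgroupOfEquivOfLe hT0X).toEquiv, hT0c]; norm_num)
    set S0 : Subgroup G := S.map (cX f).subtype
    have hS0 : Nat.card ↥S0 = 2 * Nat.card ↥T0 := by
      rw [card_map_of_injective (subtype_injective _), hS, hT0c]; norm_num
    have hle : T0 ≤ S0 := fun x hx => ⟨⟨x, hT0X hx⟩, hTS hx, rfl⟩
    have hN := le_normalizer_of_double hle hS0
    have hS0le : S0 ≤ C := fun x hx => ⟨hfix x (map_subtype_le S hx) (hN hx), map_subtype_le S hx⟩
    have := card_dvd_of_le hS0le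
    rw [hS0, hT0c, c.card_CH] at this
    norm_num at this
  refine ⟨Sylow.ofCard (T0.subgroupOf (cX f)) (by
    rw [Nat.card_congr (subgroupOfEquivOfLe hT0X).toEquiv, hT0c, hfacX]; norm_num), ?_⟩
  intro x hx
  obtain ⟨y, hy, rfl⟩ := hx
  exact (hT0le hy).1

theorem exists_conj_cJ {a : G} (haX : a ∈ cX f) (haa : a * a = 1) :
    ∃ g ∈ cX f, g * a * g⁻¹ ∈ c.cJ := by
  haveI : Fact (Nat.Prime 2) := ⟨Nat.prime_two⟩
  obtain ⟨T, hT⟩ := c.exists_sylow
  have hp : IsPGroup 2 ↥(zpowers (⟨a, haX⟩ : ↥(cX f))) := by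
    rintro ⟨w, hw⟩
    obtain ⟨i, rfl⟩ := mem_zpowers_iff.1 hw
    refine ⟨1, Subtype.ext ?_⟩
    show ((⟨a, haX⟩ : ↥(cX f)) ^ i) ^ 2 ^ 1 = 1
    rw [pow_one, ← zpow_natCast, ← zpow_mul, mul_comm, zpow_mul, zpow_natCast,
      show (⟨a, haX⟩ : ↥(cX f)) ^ 2 = 1 from Subtype.ext (by simpa [pow_two] using haa), one_zpow]
  obtain ⟨P, hP⟩ := hp.exists_le_sylow
  obtain ⟨g, hg⟩ := MulAction.exists_smul_eq ↥(cX f) P T
  have h1 : g * ⟨a, haX⟩ * g⁻¹ ∈ (T : Subgroup ↥(cX f)) := by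
    rw [← hg, Sylow.coe_subgroup_smul]
    exact Subgroup.smul_mem_pointwise_smul _ (MulAut.conj g) _ (hP (mem_zpowers _))
  refine ⟨g, g.2, c.mem_cJ (c.CH_le_cY ⟨hT ⟨_, h1, rfl⟩, (g * ⟨a, haX⟩ * g⁻¹).2⟩) ?_⟩
  have h2 : ((g : G) * a * (g : G)⁻¹) ^ 2 = 1 := by rw [conj_pow, pow_two, haa]; group
  show ((g : G) * a * (g : G)⁻¹) ^ 1344 = 1
  rw [show 1344 = 2 * 672 from rfl, pow_mul, h2, one_pow]

variable (hT : Second z f)

include hT

theorem not_conj_of_outer {a : G} (ha : a ∈ c.cJ) (haE : a ∉ c.cE) (haa : a * a = 1) : ¬ IsConj z a := by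
  obtain ⟨t, htX, htt, ht1, hnc⟩ := hT.ex
  obtain ⟨g, -, hgt⟩ := c.exists_conj_cJ htX htt
  set t' := g * t * g⁻¹ with ht'
  have hnc' : ¬ IsConj z t' := fun h => hnc (h.trans (isConj_iff.2 ⟨g, rfl⟩).symm)
  have htE : t' ∉ c.cE := fun h => hnc' (c.conj_of_mem h fun e => ht1 (conj_eq_one_iff.1 e))
  have ht2 : t' * t' = 1 := by
    calc t' * t' = g * (t * t) * g⁻¹ := by rw [ht']; group
      _ = 1 := by rw [htt]; group
  obtain ⟨j, -, hj⟩ := c.outer_conj ha haE haa hgt htE ht2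
  exact fun h => hnc' (h.trans (isConj_iff.2 ⟨j, hj⟩))

theorem mem_cE_of_conj {a : G} (ha : a ∈ c.cY) (hc : IsConj z a) : a ∈ c.cE := by
  obtain ⟨g, hg⟩ := isConj_iff.1 hc
  have haa : a * a = 1 := by
    calc a * a = g * (z * z) * g⁻¹ := by rw [← hg]; group
      _ = 1 := by rw [c.zz]; group
  by_contra haE
  exact c.not_conj_of_outer hT (c.mem_cJ ha (by rw [show 1344 = 2 * 672 from rfl, pow_mul, pow_two, haa, one_pow])) haE haa hc

theorem cent_le {a : G} (ha : a ∈ c.cY) (haa : a * a = 1) (ha1 : a ≠ 1) :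
    cX f ⊓ centralizer ({a} : Set G) ≤ c.cY := by
  by_cases haE : a ∈ c.cE
  · obtain ⟨g, hg, hga⟩ := c.exists_move haE ha1
    intro x hx
    have h : g⁻¹ * x * g ∈ Hz ⊓ cX f := by
      refine ⟨mem_centralizer_singleton_iff.2 ?_, (cX f).mul_mem ((cX f).mul_mem ((cX f).inv_mem hg.1) hx.1) hg.1⟩
      have := mem_centralizer_singleton_iff.1 hx.2
      rw [← hga] at this
      calc g⁻¹ * x * g * z = g⁻¹ * (x * (g * z * g⁻¹)) * g := by group
        _ = g⁻¹ * ((g * z * g⁻¹) * x) * g := by rw [this]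
        _ = z * (g⁻¹ * x * g) := by group
    have := mul_mem (mul_mem (show g ∈ c.cY from hg) (c.CH_le_cY h)) (inv_mem (show g ∈ c.cY from hg))
    simpa [mul_assoc] using this
  haveI : Fact (Nat.Prime 2) := ⟨Nat.prime_two⟩
  have haJ : a ∈ c.cJ := c.mem_cJ ha (by rw [show 1344 = 2 * 672 from rfl, pow_mul, pow_two, haa, one_pow])
  obtain ⟨m, hm⟩ := hT.cent a (c.cY_le ha) haa ha1 (c.not_conj_of_outer hT haJ haE haa)
  set C := cX f ⊓ centralizer ({a} : Set G) with hC
  have hFC : zpowers (f : G) ≤ C := zpowers_le.2 ⟨mem_cX.2 rfl,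
    mem_centralizer_singleton_iff.2 (mem_cX.1 (c.cY_le ha)).symm⟩
  -- the central subgroup of order five
  set F := (zpowers (f : G)).subgroupOf C with hF
  haveI : F.Normal := ⟨fun x hx w => by
    obtain ⟨i, hi⟩ := mem_zpowers_iff.1 hx
    replace hi : (f : G) ^ i = (x : G) := hi
    have hw : Commute (w : G) ((f : G) ^ i) := (show Commute (w : G) (f : G) from mem_cX.1 w.2.1).zpow_right i
    show (w : G) * (x : G) * (w : G)⁻¹ ∈ zpowers (f : G)
    rw [← hi, hw.eq, mul_inv_cancel_right]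
    exact zpow_mem (mem_zpowers _) i⟩
  let P : Sylow 2 ↥C := default
  have hPc : Nat.card ↥(P : Subgroup ↥C) = 2 ^ m := by
    rw [P.card_eq_multiplicity, hm, Nat.factorization_mul (by norm_num) (by positivity), Finsupp.add_apply,
      Nat.factorization_eq_zero_of_not_dvd (n := 5) (by norm_num), zero_add, Nat.Prime.factorization_pow Nat.prime_two,
      Finsupp.single_eq_same]
  have hFc : Nat.card ↥F = 5 := by rw [hF, Nat.card_congr (subgroupOfEquivOfLe hFC).toEquiv, c.cardF]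
  have hdisj : Disjoint F (P : Subgroup ↥C) := by
    rw [disjoint_iff, eq_bot_iff]
    intro x hx
    have h1 := F.orderOf_dvd_natCard hx.1
    have h2 := (P : Subgroup ↥C).orderOf_dvd_natCard hx.2
    rw [hFc] at h1
    rw [hPc] at h2
    have h3 := Nat.dvd_gcd h1 h2
    rw [show Nat.gcd 5 (2 ^ m) = 1 from Nat.Coprime.pow_right m (by norm_num), Nat.dvd_one, orderOf_eq_one_iff] at h3
    exact h3
  have hcompl : F.IsComplement' (P : Subgroup ↥C) :=
    isComplement'_of_card_mul_and_disjoint (by rw [hFc, hPc, hm]) hdisj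
  have hdec : ∀ x : ↥C, ∃ y ∈ F, ∃ w ∈ (P : Subgroup ↥C), y * w = x := fun x => by
    obtain ⟨⟨y, w⟩, h⟩ := hcompl.2 x
    exact ⟨y, y.2, w, w.2, h⟩
  -- all two-elements lie in the Sylow subgroup
  have hP2 : ∀ x : ↥C, x * x = 1 → x ∈ (P : Subgroup ↥C) := by
    intro x hxx
    obtain ⟨y, hy, w, hw, rfl⟩ := hdec x
    obtain ⟨i, hi⟩ := mem_zpowers_iff.1 hy
    replace hi : (f : G) ^ i = (y : G) := hi
    have hcomm : Commute y w := Subtype.ext (by
      show (y : G) * (w : G) = (w : G) * (y : G)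
      rw [← hi]
      exact ((show Commute (w : G) (f : G) from mem_cX.1 w.2.1).zpow_right i).symm.eq)
    have h1 : y * y = (w * w)⁻¹ := eq_inv_of_mul_eq_one_left (by
      rw [← hxx]; simp only [mul_assoc]; rw [← mul_assoc w y, ← hcomm.eq, mul_assoc])
    have h2 : y * y ∈ F ⊓ (P : Subgroup ↥C) := ⟨mul_mem hy hy, h1 ▸ (P : Subgroup ↥C).inv_mem ((P : Subgroup ↥C).mul_mem hw hw)⟩
    rw [hdisj.eq_bot, mem_bot] at h2
    have h5 : y ^ 5 = 1 := by
      have := congrArg Subtype.val (pow_card_eq_one' (G := ↥F) (x := ⟨y, hy⟩))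
      rw [hFc] at this
      exact this
    have : y = 1 := by
      rw [pow_succ, show y ^ 4 = (y * y) * (y * y) by simp only [pow_succ, pow_zero, one_mul, mul_assoc], h2, one_mul, one_mul] at h5
      exact h5
    rw [this, one_mul]
    exact hw
  -- the part inside
  have hPle : ∀ x ∈ (P : Subgroup ↥C), (x : G) ∈ c.cY := by
    set W0 : Subgroup ↥(P : Subgroup ↥C) := (c.cY.subgroupOf C).subgroupOf (P : Subgroup ↥C) with hW0
    haveI : Group.IsNilpotent ↥(P : Subgroup ↥C) := P.isPGroup'.isNilpotent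
    suffices W0 = ⊤ by
      intro x hx
      have h : (⟨x, hx⟩ : ↥(P : Subgroup ↥C)) ∈ W0 := by rw [this]; trivial
      exact h
    by_contra hne
    obtain ⟨w, hwN, hw0⟩ := SetLike.exists_of_lt
      (Group.normalizerCondition_of_isNilpotent (G := ↥(P : Subgroup ↥C)) W0 (lt_top_iff_ne_top.2 hne))
    -- the conjugates of the involution inside
    let S := {e : G // e ∈ c.cE ∧ e ≠ 1 ∧ e * a = a * e}
    have hSP : ∀ e : S, ∃ p : ↥(P : Subgroup ↥C), ((p : ↥C) : G) = (e : G) ∧ p ∈ W0 := fun e =>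
      ⟨⟨⟨e, c.cE_le_cX e.2.1, mem_centralizer_singleton_iff.2 e.2.2.2⟩, hP2 _ (Subtype.ext (c.cE_sq e.2.1))⟩, rfl,
        c.cE_le_cY e.2.1⟩
    have hact : ∀ (k : ℤ) (e : S), ((((w ^ k : ↥(P : Subgroup ↥C)) : ↥C)) : G) * (e : G) *
        ((((w ^ k : ↥(P : Subgroup ↥C)) : ↥C)) : G)⁻¹ ∈ c.cE ∧
        ((((w ^ k : ↥(P : Subgroup ↥C)) : ↥C)) : G) * (e : G) * ((((w ^ k : ↥(P : Subgroup ↥C)) : ↥C)) : G)⁻¹ ≠ 1 ∧
        ((((w ^ k : ↥(P : Subgroup ↥C)) : ↥C)) : G) * (e : G) * ((((w ^ k : ↥(P : Subgroup ↥C)) : ↥C)) : G)⁻¹ * a =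
          a * (((((w ^ k : ↥(P : Subgroup ↥C)) : ↥C)) : G) * (e : G) * ((((w ^ k : ↥(P : Subgroup ↥C)) : ↥C)) : G)⁻¹) := by
      intro k e
      obtain ⟨p, hp, hpW⟩ := hSP e
      set v := w ^ k with hv
      have hY : (((v * p * v⁻¹ : ↥(P : Subgroup ↥C)) : ↥C) : G) ∈ c.cY :=
        (mem_normalizer_iff.1 (zpow_mem hwN k) p).1 hpW
      have hval : (((v * p * v⁻¹ : ↥(P : Subgroup ↥C)) : ↥C) : G) =
          ((v : ↥C) : G) * (e : G) * ((v : ↥C) : G)⁻¹ := by
        simp only [Subgroup.coe_mul, Subgroup.coe_inv, hp]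
      rw [hval] at hY
      refine ⟨c.mem_cE_of_conj hT hY ((c.conj_of_mem e.2.1 e.2.2.1).trans (isConj_iff.2 ⟨_, rfl⟩)),
        fun h => e.2.2.1 (conj_eq_one_iff.1 h), ?_⟩
      have := mem_centralizer_singleton_iff.1 ((v * p * v⁻¹ : ↥(P : Subgroup ↥C)) : ↥C).2.2
      rwa [hval] at this
    letI : MulAction ↥(zpowers w) S :=
      { smul := fun k e => ⟨(((k : ↥(P : Subgroup ↥C)) : ↥C) : G) * (e : G) * (((k : ↥(P : Subgroup ↥C)) : ↥C) : G)⁻¹, by
          obtain ⟨i, hi⟩ := mem_zpowers_iff.1 k.2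
          rw [← hi]
          exact hact i e⟩
        one_smul := fun e => Subtype.ext (by
          show (((1 : ↥(P : Subgroup ↥C)) : ↥C) : G) * (e : G) * _ = (e : G)
          simp)
        mul_smul := fun k k' e => Subtype.ext (by
          show ((((k : ↥(P : Subgroup ↥C)) * k' : ↥(P : Subgroup ↥C)) : ↥C) : G) * (e : G) * _ = _
          show _ = (((k : ↥(P : Subgroup ↥C)) : ↥C) : G) * ((((k' : ↥(P : Subgroup ↥C)) : ↥C) : G) * (e : G) *
            (((k' : ↥(P : Subgroup ↥C)) : ↥C) : G)⁻¹) * _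
          simp only [Subgroup.coe_mul, mul_inv_rev, mul_assoc]) }
    have hodd : ¬ 2 ∣ Nat.card S := by
      set CE : Subgroup G := c.cE ⊓ centralizer ({a} : Set G) with hCE
      have hcard : Nat.card S + 1 = Nat.card ↥CE := by
        rw [show Nat.card S = ((CE : Set G) \ {1}).ncard from ?_,
          Set.ncard_sdiff_singleton_of_mem (one_mem _), ← Nat.card_coe_set_eq]
        · have : 0 < Nat.card ↥CE := Nat.card_pos
          simp only [SetLike.coe_sort_coe]
          omega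
        · rw [← Nat.card_coe_set_eq]
          exact Nat.card_congr (Equiv.subtypeEquivRight fun e => by
            simp only [hCE, Set.mem_sdiff, SetLike.mem_coe, mem_inf, Set.mem_singleton_iff, mem_centralizer_singleton_iff]
            tauto)
      have h2 : 2 ∣ Nat.card ↥CE := by
        obtain ⟨e, he, hne⟩ : ∃ e ∈ CE, e ≠ 1 := by
          haveI := c.elementary.1
          have hmem : ∀ e ∈ c.cE, e * (a * e * a⁻¹) ∈ CE := by
            intro e he
            have h1 := c.conj_mem_cE ha he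
            refine ⟨mul_mem he h1, mem_centralizer_singleton_iff.2 ?_⟩
            calc e * (a * e * a⁻¹) * a = e * a * e := by group
              _ = a * ((a * e * a⁻¹) * e) := by
                rw [show a⁻¹ = a from inv_eq_of_mul_eq_one_left haa]
                calc e * a * e = (a * a) * (e * a * e) := by rw [haa, one_mul]
                  _ = _ := by group
              _ = a * (e * (a * e * a⁻¹)) := by rw [c.cE_comm he h1]
          by_cases hall : ∀ e ∈ c.cE, e * (a * e * a⁻¹) = 1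
          · refine absurd (c.cJ_cent haJ fun e he => ?_) haE
            rw [← mul_inv_eq_iff_eq_mul, eq_inv_of_mul_eq_one_right (hall e he)]
            exact inv_eq_of_mul_eq_one_left (c.cE_sq he)
          · simp only [not_forall] at hall
            obtain ⟨e, he, hne⟩ := hall
            exact ⟨_, hmem e he, hne⟩
        have h := CE.orderOf_dvd_natCard he
        rwa [orderOf_eq_prime (by rw [pow_two]; exact c.cE_sq he.1) hne] at h
      omega
    have hz : IsPGroup 2 ↥(zpowers w) := P.isPGroup'.to_subgroup _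
    obtain ⟨e, he⟩ := hz.nonempty_fixed_point_of_prime_not_dvd_card S hodd
    have hwe : ((w : ↥C) : G) * (e : G) * ((w : ↥C) : G)⁻¹ = (e : G) :=
      congrArg Subtype.val (he ⟨w, mem_zpowers w⟩)
    obtain ⟨g, hg, hge⟩ := c.exists_move e.2.1 e.2.2.1
    refine hw0 ?_
    show ((w : ↥C) : G) ∈ c.cY
    have hmem : g⁻¹ * ((w : ↥C) : G) * g ∈ Hz ⊓ cX f := by
      refine ⟨mem_centralizer_singleton_iff.2 ?_, (cX f).mul_mem ((cX f).mul_mem ((cX f).inv_mem hg.1) (w : ↥C).2.1) hg.1⟩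
      have h1 := mul_inv_eq_iff_eq_mul.1 hwe
      rw [← hge] at h1
      calc g⁻¹ * ((w : ↥C) : G) * g * z = g⁻¹ * (((w : ↥C) : G) * (g * z * g⁻¹)) * g := by group
        _ = g⁻¹ * ((g * z * g⁻¹) * ((w : ↥C) : G)) * g := by rw [h1]
        _ = z * (g⁻¹ * ((w : ↥C) : G) * g) := by group
    have := mul_mem (mul_mem (show g ∈ c.cY from hg) (c.CH_le_cY hmem)) (inv_mem (show g ∈ c.cY from hg))
    simpa [mul_assoc] using this
  intro x hx
  obtain ⟨y, hy, w, hw, h⟩ := hdec ⟨x, hx⟩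
  rw [← show (y : G) * (w : G) = x from congrArg Subtype.val h]
  exact mul_mem (zpowers_le.2 c.f_mem_cY hy) (hPle w hw)

/-- The centraliser of `f` normalises the subgroup of order eight. -/
theorem cX_eq : cX f = c.cY := by
  refine le_antisymm (fun x hx => ?_) c.cY_le
  by_cases hzx : x * z * x⁻¹ ∈ c.cY
  · have he := c.mem_cE_of_conj hT hzx (isConj_iff.2 ⟨x, rfl⟩)
    obtain ⟨g, hg, hge⟩ := c.exists_move he fun e => c.z_ne_one (conj_eq_one_iff.1 e)
    have h : g⁻¹ * x ∈ Hz ⊓ cX f := by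
      refine ⟨mem_centralizer_singleton_iff.2 ?_, (cX f).mul_mem ((cX f).inv_mem hg.1) hx⟩
      calc g⁻¹ * x * z = g⁻¹ * (x * z * x⁻¹) * x := by group
        _ = g⁻¹ * (g * z * g⁻¹) * x := by rw [hge]
        _ = z * (g⁻¹ * x) := by group
    have := mul_mem (show g ∈ c.cY from hg) (c.CH_le_cY h)
    rwa [mul_inv_cancel_left] at this
  exfalso
  refine hzx ?_
  set z' := x * z * x⁻¹ with hz'
  have hz'X : z' ∈ cX f := mul_mem (mul_mem hx c.z_cX) (inv_mem hx)
  have hzz : z' * z' = 1 := by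
    calc z' * z' = x * (z * z) * x⁻¹ := by rw [hz']; group
      _ = 1 := by rw [c.zz]; group
  obtain ⟨t, htX, htt, ht1, hnc⟩ := hT.ex
  obtain ⟨g, hgX, hgt⟩ := c.exists_conj_cJ htX htt
  set a := g * t * g⁻¹ with ha
  have haa : a * a = 1 := by
    calc a * a = g * (t * t) * g⁻¹ := by rw [ha]; group
      _ = 1 := by rw [htt]; group
  have ha1 : a ≠ 1 := fun e => ht1 (conj_eq_one_iff.1 e)
  have hn : ¬ IsConj z' a := fun h =>
    hnc (((isConj_iff.2 ⟨x, rfl⟩ : IsConj z z').trans h).trans (isConj_iff.2 ⟨g, rfl⟩).symm)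
  obtain ⟨w, hw1, hww, hwz, hwa, hwm⟩ := exists_common hzz haa (fun e => hn (e ▸ IsConj.refl a)) hn
  have hwX : w ∈ cX f := zpowers_le.2 (mul_mem hz'X (c.cY_le (c.cJ_le hgt))) hwm
  have hwY : w ∈ c.cY := c.cent_le hT (c.cJ_le hgt) haa ha1 ⟨hwX, mem_centralizer_singleton_iff.2 hwa⟩
  exact c.cent_le hT hwY hww hw1 ⟨hz'X, mem_centralizer_singleton_iff.2 hwz.symm⟩

end Ctx

end CfsgLib.JankoFour.Five
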