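import Cfsg.Agent.Lib.JankoFour.FiveLocal
import Cfsg.Agent.Lib.InvolChar.SubgroupsA8
import Cfsg.Agent.Lib.LargeFischer.ThreeTwelve.Split

/-!
# The normaliser of the subgroup of order eight in the centraliser of an element of order five
-/

set_option autoImplicit false
set_option linter.unusedSectionVars false
set_option linter.style.haveILetI false

namespace CfsgLib.JankoFour.Five

open Subgroup QuadraticMap CfsgLib.LargeExtra
open CfsgLib.LargeFischer (CentData vadd_self eq_of_vadd q_add z2_cases)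

section General

variable {A : Type*} [Group A] [Finite A]

/-- An endomorphism strictly shrinks a nontrivial invariant subgroup on which it is nilpotent. -/
theorem two_card_map_le (D : A →* A) (S : Subgroup A) (h4 : ∀ x, D (D (D (D x))) = 1) (hS : S ≠ ⊥)
    (hinv : ∀ x ∈ S, D x ∈ S) : 2 * Nat.card ↥(S.map D) ≤ Nat.card ↥S := by
  let g : ↥S →* A := D.comp S.subtype
  have hr : g.range = S.map D := by rw [MonoidHom.range_comp, Subgroup.range_subtype]
  obtain ⟨x, hx, hx1⟩ : ∃ x ∈ S, x ≠ 1 := by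
    by_contra h
    simp only [not_exists, not_and, not_not] at h
    exact hS ((Subgroup.eq_bot_iff_forall _).2 h)
  have hker : g.ker ≠ ⊥ := by
    intro hb
    have hinj : ∀ y ∈ S, D y = 1 → y = 1 := fun y hy e => by
      have h1 : (⟨y, hy⟩ : ↥S) ∈ g.ker := e
      rw [hb, Subgroup.mem_bot] at h1
      exact congrArg Subtype.val h1
    exact hx1 (hinj x hx (hinj _ (hinv _ hx) (hinj _ (hinv _ (hinv _ hx)) (hinj _ (hinv _ (hinv _ (hinv _ hx))) (h4 x)))))
  have h2 : 2 ≤ Nat.card ↥g.ker := (Subgroup.one_lt_card_iff_ne_bot _).2 hker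
  have h := g.ker.card_mul_index
  rw [Subgroup.index_ker, hr] at h
  rw [← h]
  exact Nat.mul_le_mul_right _ h2

/-- An endomorphism with trivial fourth power of a group of order eight has trivial third power. -/
theorem third_trivial (D : A →* A) (h8 : Nat.card A = 8) (h4 : ∀ x, D (D (D (D x))) = 1) (x : A) :
    D (D (D x)) = 1 := by
  have step : ∀ S : Subgroup A, (∀ y ∈ S, D y ∈ S) → (∀ y ∈ S.map D, D y ∈ S.map D) := fun S h y hy => by
    obtain ⟨w, hw, rfl⟩ := hy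
    exact ⟨D w, h w hw, rfl⟩
  have h0 : ∀ y ∈ (⊤ : Subgroup A), D y ∈ (⊤ : Subgroup A) := fun _ _ => mem_top _
  by_contra hne
  have hS : ∀ S : Subgroup A, ((⊤ : Subgroup A).map D).map D ≤ S → S ≠ ⊥ := fun S hle e => hne (by
    have : D (D x) ∈ S := hle ⟨_, ⟨x, mem_top _, rfl⟩, rfl⟩
    rw [e, mem_bot] at this
    rw [this, map_one])
  have h1 := two_card_map_le D ⊤ h4 (hS _ le_top) h0
  have h2 := two_card_map_le D _ h4 (hS _ (map_mono le_top)) (step _ h0)
  have h3 := two_card_map_le D _ h4 (hS _ le_rfl) (step _ (step _ h0))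
  have hne3 : (((⊤ : Subgroup A).map D).map D).map D ≠ ⊥ := fun e => hne (by
    have : D (D (D x)) ∈ (((⊤ : Subgroup A).map D).map D).map D := ⟨_, ⟨_, ⟨x, mem_top _, rfl⟩, rfl⟩, rfl⟩
    rwa [e, mem_bot] at this)
  have h5 := two_card_map_le D _ h4 hne3 (step _ (step _ (step _ h0)))
  rw [Subgroup.card_top, h8] at h1
  have : 0 < Nat.card ↥((((⊤ : Subgroup A).map D).map D).map D |>.map D) := Nat.card_pos
  omega

/-- An endomorphism with trivial square of a group of order eight has at most two values. -/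
theorem image_card_le (D : A →* A) (h8 : Nat.card A = 8) (h2 : ∀ x, D (D x) = 1) : Nat.card ↥D.range ≤ 2 := by
  have hle : D.range ≤ D.ker := by
    rintro _ ⟨x, rfl⟩
    exact h2 x
  have h := D.ker.card_mul_index
  rw [Subgroup.index_ker, h8] at h
  have h3 := Subgroup.card_dvd_of_le hle
  have h4 : Nat.card ↥D.range * Nat.card ↥D.range ∣ 8 := h ▸ Nat.mul_dvd_mul_right h3 _
  have h5 := Nat.le_of_dvd (by norm_num) h4
  nlinarith

/-- The automorphisms of an elementary abelian group of order eight act as matrices. -/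
theorem exists_gl {G : Type*} [Group G] [Finite G] {E : Subgroup G} (hE : Cfsg.IsElementaryAbelian 2 E)
    (h8 : Nat.card ↥E = 8) :
    ∃ ρ : MulAut ↥E →* Matrix.SpecialLinearGroup (Fin 3) (ZMod 2), Function.Injective ρ := by
  classical
  haveI := hE.1
  letI cg : CommGroup ↥E := { (inferInstance : Group ↥E) with
    mul_comm := fun a b => IsMulCommutative.is_comm.comm a b }
  letI : Module (ZMod 2) (Additive ↥E) := AddCommGroup.zmodModule fun x => by
    refine congrArg Additive.ofMul (Subtype.ext ?_ : ((Additive.toMul x : ↥E) ^ 2) = 1)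
    simpa using hE.2 _ (Additive.toMul x).2
  have hfin : Module.finrank (ZMod 2) (Additive ↥E) = 3 := by
    have h := CfsgLib.LargeFischer.card_eq_two_pow (V := Additive ↥E)
    rw [Nat.card_congr Additive.toMul, h8] at h
    exact Nat.pow_right_injective le_rfl (h.symm.trans (show (8 : ℕ) = 2 ^ 3 by norm_num))
  haveI : Module.Finite (ZMod 2) (Additive ↥E) := Module.Finite.of_finite
  let b : Module.Basis (Fin 3) (ZMod 2) (Additive ↥E) := (Module.finBasisOfFinrankEq _ _ hfin)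
  let L : MulAut ↥E → (Additive ↥E →ₗ[ZMod 2] Additive ↥E) := fun θ =>
    ((MonoidHom.toAdditive θ.toMonoidHom) : Additive ↥E →+ Additive ↥E).toZModLinearMap 2
  let μ : MulAut ↥E →* Matrix (Fin 3) (Fin 3) (ZMod 2) :=
    { toFun := fun θ => LinearMap.toMatrix b b (L θ)
      map_one' := by
        rw [show L 1 = LinearMap.id from rfl, LinearMap.toMatrix_id]
      map_mul' := fun θ ψ => by
        rw [← LinearMap.toMatrix_comp b b b (L θ) (L ψ)]
        rfl }
  have hinj : Function.Injective μ := fun θ ψ e => by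
    have e' : L θ = L ψ := (LinearMap.toMatrix b b).injective e
    refine MulEquiv.ext fun x => ?_
    exact congrArg Additive.toMul (LinearMap.congr_fun e' (Additive.ofMul x))
  obtain ⟨esl⟩ := CfsgLib.LargeFischer.Split.gl_equiv_sl
  refine ⟨esl.toMonoidHom.comp μ.toHomUnits, esl.injective.comp fun θ ψ e => hinj ?_⟩
  exact congrArg Units.val e

/-- Two non-conjugate involutions centralise a common involution. -/
theorem exists_common {a b : A} (ha : a * a = 1) (hb : b * b = 1) (hab : a ≠ b) (hn : ¬ IsConj a b) :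
    ∃ w : A, w ≠ 1 ∧ w * w = 1 ∧ w * a = a * w ∧ w * b = b * w ∧ w ∈ Subgroup.zpowers (a * b) := by
  set r := a * b with hr
  have ha' : a⁻¹ = a := inv_eq_of_mul_eq_one_left ha
  have hb' : b⁻¹ = b := inv_eq_of_mul_eq_one_left hb
  have har : ∀ i : ℕ, a * r ^ i * a = (r ^ i)⁻¹ := by
    intro i
    calc a * r ^ i * a = a * r ^ i * a⁻¹ := by rw [ha']
      _ = (a * r * a⁻¹) ^ i := conj_pow.symm
      _ = (r⁻¹) ^ i := by rw [hr, mul_inv_rev, ha', hb', ← mul_assoc a a b, ha, one_mul]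
      _ = (r ^ i)⁻¹ := inv_pow r i
  have ho : 0 < orderOf r := orderOf_pos r
  rcases Nat.even_or_odd' (orderOf r) with ⟨k, hk | hk⟩
  · have hkk : r ^ k * r ^ k = 1 := by rw [← pow_add, ← two_mul, ← hk, pow_orderOf_eq_one]
    have hinv : (r ^ k)⁻¹ = r ^ k := inv_eq_of_mul_eq_one_left hkk
    have hca : r ^ k * a = a * r ^ k := by
      have h1 := har k
      rw [hinv] at h1
      calc r ^ k * a = a * r ^ k * a * a := by rw [h1]
        _ = a * r ^ k := by rw [mul_assoc (a * r ^ k), ha, mul_one]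
    refine ⟨r ^ k, ?_, hkk, hca, ?_, pow_mem (Subgroup.mem_zpowers _) k⟩
    · intro e
      have := orderOf_dvd_of_pow_eq_one e
      have hk0 : 0 < k := by omega
      have := Nat.le_of_dvd hk0 this
      omega
    · have hb2 : b = a * r := by rw [hr, ← mul_assoc, ha, one_mul]
      rw [hb2, ← mul_assoc, hca, mul_assoc, mul_assoc, ← pow_succ, ← pow_succ']
  · exfalso
    refine hn (isConj_iff.2 ⟨r ^ k, ?_⟩)
    have h0 : r ^ (2 * k) = r⁻¹ := eq_inv_of_mul_eq_one_left (by rw [← pow_succ, ← hk, pow_orderOf_eq_one])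
    calc r ^ k * a * (r ^ k)⁻¹ = r ^ k * a * (a * r ^ k * a) := by rw [har]
      _ = r ^ k * (a * a) * r ^ k * a := by group
      _ = r⁻¹ * a := by rw [ha, mul_one, ← pow_add, ← two_mul, h0]
      _ = b := by rw [hr, mul_inv_rev, hb', ha', mul_assoc, ha, mul_one]

end General

variable {G : Type*} [Group G] [Finite G]
variable {z : G} {Q : Subgroup (centralizer ({z} : Set G))} [Q.Normal]
  {V : Type*} [AddCommGroup V] [Module (ZMod 2) V] [DistribMulAction ((centralizer ({z} : Set G)) ⧸ Q) V] [Finite V]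
  {q : QuadraticForm (ZMod 2) V} {π : ↥Q → V} {n : (centralizer ({z} : Set G)) ⧸ Q}
  {M : Subgroup ((centralizer ({z} : Set G)) ⧸ Q)} {φ : ↥M →* ↥Cfsg.Spor.M22}
  {f : centralizer ({z} : Set G)} {u : V}

set_option quotPrecheck false in
local notation "Hz" => centralizer ({z} : Set G)
set_option quotPrecheck false in
local notation "K" => (centralizer ({z} : Set G)) ⧸ Q
set_option quotPrecheck false in
local notation "QG" => Q.map (centralizer ({z} : Set G)).subtype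

namespace Ctx

variable (c : Ctx Q q π n M φ f u)

include c

/-- The normaliser of the subgroup of order eight inside the centraliser of `f`. -/
def cY (c : Ctx Q q π n M φ f u) : Subgroup G := cX f ⊓ normalizer (c.cE : Set G)

theorem cY_le : c.cY ≤ cX f := inf_le_left

theorem CH_le_cY : Hz ⊓ cX f ≤ c.cY := fun w hw =>
  ⟨hw.2, c.nH_normalizes ⟨hw.1, c.cX_le_nX hw.2⟩⟩

theorem conj_mem_cE {g y : G} (hg : g ∈ c.cY) (hy : y ∈ c.cE) : g * y * g⁻¹ ∈ c.cE :=
  (mem_normalizer_iff.1 hg.2 y).1 hy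

theorem cE_mul_comm (a b : ↥c.cE) : a * b = b * a := Subtype.ext (c.cE_comm a.2 b.2)

theorem cE_four (a b a' b' : ↥c.cE) : a * b * (a' * b') = a * a' * (b * b') := by
  rw [mul_assoc a b, ← mul_assoc b a', c.cE_mul_comm b a', mul_assoc a' b, ← mul_assoc a a']

theorem z_ne_one : z ≠ 1 := fun h => by
  have := c.mdl.ordz
  rw [h, orderOf_one] at this
  omega

theorem card_cY : Nat.card ↥c.cY = 6720 := by
  classical
  choose g hg hge using fun e : {e : G // e ∈ c.cE ∧ e ≠ 1} => c.exists_move e.2.1 e.2.2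
  let F : {e : G // e ∈ c.cE ∧ e ≠ 1} × ↥(Hz ⊓ cX f) → ↥c.cY := fun p =>
    ⟨g p.1 * p.2, mul_mem (show g p.1 ∈ c.cY from hg p.1) (c.CH_le_cY p.2.2)⟩
  have hz : ∀ w : ↥(Hz ⊓ cX f), (w : G) * z * (w : G)⁻¹ = z := fun w =>
    mul_inv_eq_iff_eq_mul.2 (mem_centralizer_singleton_iff.1 w.2.1)
  have hconj : ∀ p, (F p : G) * z * (F p : G)⁻¹ = (p.1 : G) := fun p => by
    show g p.1 * (p.2 : G) * z * (g p.1 * (p.2 : G))⁻¹ = _
    calc g p.1 * (p.2 : G) * z * (g p.1 * (p.2 : G))⁻¹ = g p.1 * ((p.2 : G) * z * (p.2 : G)⁻¹) * (g p.1)⁻¹ := by group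
      _ = _ := by rw [hz, hge]
  have hbij : Function.Bijective F := by
    constructor
    · intro p p' e
      have h1 : p.1 = p'.1 := Subtype.ext (by rw [← hconj, ← hconj, e])
      have h2 : g p.1 * (p.2 : G) = g p'.1 * (p'.2 : G) := congrArg Subtype.val e
      rw [h1] at h2
      exact Prod.ext h1 (Subtype.ext (mul_left_cancel h2))
    · intro y
      set e : {e : G // e ∈ c.cE ∧ e ≠ 1} := ⟨(y : G) * z * (y : G)⁻¹, c.conj_mem_cE y.2 c.z_mem_cE,
        fun h => c.z_ne_one (conj_eq_one_iff.1 h)⟩ with he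
      refine ⟨⟨e, ⟨(g e)⁻¹ * y, mem_centralizer_singleton_iff.2 ?_, (cX f).mul_mem ((cX f).inv_mem (hg e).1) y.2.1⟩⟩,
        Subtype.ext (mul_inv_cancel_left _ _)⟩
      have h := hge e
      rw [he] at h
      simp only at h
      calc (g e)⁻¹ * (y : G) * z = (g e)⁻¹ * ((y : G) * z * (y : G)⁻¹) * (y : G) := by group
        _ = (g e)⁻¹ * (g e * z * (g e)⁻¹) * (y : G) := by rw [h]
        _ = z * ((g e)⁻¹ * (y : G)) := by group
  rw [← Nat.card_congr (Equiv.ofBijective F hbij), Nat.card_prod, c.card_CH,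
    show Nat.card {e : G // e ∈ c.cE ∧ e ≠ 1} = ((c.cE : Set G) \ {1}).ncard from Nat.card_coe_set_eq _,
    Set.ncard_sdiff_singleton_of_mem (one_mem _), ← Nat.card_coe_set_eq]
  simp [c.card_cE]

theorem f_mem_cY : (f : G) ∈ c.cY := c.CH_le_cY ⟨f.2, mem_cX.2 rfl⟩

theorem cE_le_cY : c.cE ≤ c.cY := fun _ he => c.CH_le_cY ⟨c.cE_le_H he, c.cE_le_cX he⟩

theorem exists_cJ : ∃ J : Subgroup G, J ≤ c.cY ∧ Nat.card ↥J = 1344 ∧ ∀ y ∈ c.cY, y ^ 1344 = 1 → y ∈ J := by
  set F := (zpowers (f : G)).subgroupOf c.cY with hF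
  haveI : F.Normal := ⟨fun x hx y => by
    obtain ⟨i, hi⟩ := mem_zpowers_iff.1 hx
    replace hi : (f : G) ^ i = (x : G) := hi
    have hy : Commute (y : G) ((f : G) ^ i) := (show Commute (y : G) (f : G) from mem_cX.1 y.2.1).zpow_right i
    show (y : G) * (x : G) * (y : G)⁻¹ ∈ zpowers (f : G)
    rw [← hi, hy.eq, mul_inv_cancel_right]
    exact zpow_mem (mem_zpowers _) i⟩
  have hFc : Nat.card ↥F = 5 := by
    rw [hF, Nat.card_congr (subgroupOfEquivOfLe (zpowers_le.2 c.f_mem_cY)).toEquiv, c.cardF]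
  have hidx : F.index = 1344 := by
    have h := F.card_mul_index
    rw [hFc, c.card_cY] at h
    omega
  obtain ⟨J, hJ⟩ := exists_right_complement'_of_coprime (N := F) (by rw [hFc, hidx]; norm_num)
  have hJc : Nat.card ↥J = 1344 := by
    have h := hJ.card_mul
    rw [hFc, c.card_cY] at h
    omega
  refine ⟨J.map c.cY.subtype, map_subtype_le J, by rw [card_map_of_injective (subtype_injective _), hJc], ?_⟩
  intro y hy h1
  obtain ⟨⟨a, b⟩, hab⟩ := hJ.2 (⟨y, hy⟩ : ↥c.cY)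
  obtain ⟨i, hi⟩ := mem_zpowers_iff.1 a.2
  replace hi : (f : G) ^ i = ((a : ↥c.cY) : G) := hi
  have hab' : ((a : ↥c.cY) : G) * ((b : ↥c.cY) : G) = y := congrArg Subtype.val hab
  have hcomm : Commute ((a : ↥c.cY) : G) ((b : ↥c.cY) : G) := by
    rw [← hi]
    exact (show Commute (f : G) ((b : ↥c.cY) : G) from (mem_cX.1 (b : ↥c.cY).2.1).symm).zpow_left i
  rw [← hab', hcomm.mul_pow] at h1
  have hb : ((b : ↥c.cY) : G) ^ 1344 = 1 := by
    have := congrArg (fun x : ↥J => ((x : ↥c.cY) : G)) (pow_card_eq_one' (x := b))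
    simpa [hJc] using this
  rw [hb, mul_one] at h1
  have h5 : ((a : ↥c.cY) : G) ^ 5 = 1 := by
    rw [← hi, ← zpow_natCast, ← zpow_mul, mul_comm, zpow_mul, zpow_natCast, c.f_five, one_zpow]
  have := Nat.dvd_gcd (orderOf_dvd_of_pow_eq_one h1) (orderOf_dvd_of_pow_eq_one h5)
  rw [show Nat.gcd 1344 5 = 1 from rfl, Nat.dvd_one, orderOf_eq_one_iff] at this
  rw [this, one_mul] at hab'
  exact ⟨b, b.2, hab'⟩

/-- The complement of the group of order five. -/
noncomputable def cJ (c : Ctx Q q π n M φ f u) : Subgroup G := c.exists_cJ.choose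

theorem cJ_le : c.cJ ≤ c.cY := c.exists_cJ.choose_spec.1

theorem card_cJ : Nat.card ↥c.cJ = 1344 := c.exists_cJ.choose_spec.2.1

theorem mem_cJ {y : G} (hy : y ∈ c.cY) (h : y ^ 1344 = 1) : y ∈ c.cJ := c.exists_cJ.choose_spec.2.2 y hy h

theorem pow_cJ {y : G} (hy : y ∈ c.cJ) : y ^ 1344 = 1 := by
  have := congrArg Subtype.val (pow_card_eq_one' (G := ↥c.cJ) (x := ⟨y, hy⟩))
  simpa [c.card_cJ] using this

theorem cE_le_cJ : c.cE ≤ c.cJ := fun y hy => c.mem_cJ (c.cE_le_cY hy) (by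
  rw [show 1344 = 2 * 672 from rfl, pow_mul, pow_two, c.cE_sq hy, one_pow])

theorem F_inf_cJ {y : G} (hyF : y ∈ zpowers (f : G)) (hy : y ∈ c.cJ) : y = 1 := by
  obtain ⟨i, hi⟩ := mem_zpowers_iff.1 hyF
  have h5 : y ^ 5 = 1 := by rw [← hi, ← zpow_natCast, ← zpow_mul, mul_comm, zpow_mul, zpow_natCast, c.f_five, one_zpow]
  have := Nat.dvd_gcd (orderOf_dvd_of_pow_eq_one (c.pow_cJ hy)) (orderOf_dvd_of_pow_eq_one h5)
  rw [show Nat.gcd 1344 5 = 1 from rfl, Nat.dvd_one, orderOf_eq_one_iff] at this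
  exact this

theorem cY_decomp {y : G} (hy : y ∈ c.cY) : ∃ a ∈ zpowers (f : G), ∃ j ∈ c.cJ, a * j = y := by
  have hc : Commute (f : G) y := (mem_cX.1 hy.1).symm
  -- split by exponents: 4 * 1344 is congruent to one modulo five
  have h6720 : y ^ 6720 = 1 := by
    have := congrArg Subtype.val (pow_card_eq_one' (G := ↥c.cY) (x := ⟨y, hy⟩))
    simpa [c.card_cY] using this
  refine ⟨y ^ 5376, ?_, y ^ 1345, c.mem_cJ (pow_mem hy _) ?_, ?_⟩
  · have hm : y ^ 5376 ∈ c.cY := pow_mem hy _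
    have h5 : (y ^ 5376) ^ 5 = 1 := by rw [← pow_mul, show 5376 * 5 = 6720 * 4 from rfl, pow_mul, h6720, one_pow]
    set F := (zpowers (f : G)).subgroupOf c.cY with hF
    haveI : F.Normal := ⟨fun x hx w => by
      obtain ⟨i, hi⟩ := mem_zpowers_iff.1 hx
      replace hi : (f : G) ^ i = (x : G) := hi
      have hw : Commute (w : G) ((f : G) ^ i) := (show Commute (w : G) (f : G) from mem_cX.1 w.2.1).zpow_right i
      show (w : G) * (x : G) * (w : G)⁻¹ ∈ zpowers (f : G)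
      rw [← hi, hw.eq, mul_inv_cancel_right]
      exact zpow_mem (mem_zpowers _) i⟩
    have hFc : Nat.card ↥F = 5 := by
      rw [hF, Nat.card_congr (subgroupOfEquivOfLe (zpowers_le.2 c.f_mem_cY)).toEquiv, c.cardF]
    have hidx : F.index = 1344 := by
      have h := F.card_mul_index
      rw [hFc, c.card_cY] at h
      omega
    have h2 := F.pow_index_mem (⟨y ^ 5376, hm⟩ : ↥c.cY)
    rw [hidx] at h2
    have h3 : (y ^ 5376) ^ 1344 ∈ zpowers (f : G) := h2
    have h4 : y ^ 5376 = ((y ^ 5376) ^ 1344) ^ 4 := by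
      generalize y ^ 5376 = g at h5 ⊢
      rw [← pow_mul, show 1344 * 4 = 5 * 1075 + 1 from rfl, pow_succ, pow_mul, h5, one_pow, one_mul]
    rw [h4]
    exact pow_mem h3 _
  · rw [← pow_mul, show 1345 * 1344 = 6720 * 269 from rfl, pow_mul, h6720, one_pow]
  · rw [← pow_add, show 5376 + 1345 = 6720 + 1 from rfl, pow_succ, h6720, one_mul]

/-- Centralising the subgroup of order eight. -/
theorem cent_cE {y : G} (hy : y ∈ c.cY) (h : ∀ e ∈ c.cE, y * e = e * y) :
    ∃ a ∈ zpowers (f : G), ∃ e ∈ c.cE, y = a * e := by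
  have hyH : y ∈ Hz := mem_centralizer_singleton_iff.2 (h z c.z_mem_cE)
  set w : Hz := ⟨y, hyH⟩
  have hcomm : (QuotientGroup.mk w : K) * QuotientGroup.mk f = QuotientGroup.mk f * QuotientGroup.mk w := by
    rw [← QuotientGroup.mk_mul, ← QuotientGroup.mk_mul, show w * f = f * w from Subtype.ext (mem_cX.1 hy.1)]
  have hfix : ∀ v ∈ ln n u, (QuotientGroup.mk w : K) • v = v := by
    intro v hv
    obtain ⟨x, rfl⟩ := c.mdl.surj v
    exact c.mdl.fixed_of_comm (Subtype.ext (h _ ((c.coe_mem_cE x).2 hv)))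
  obtain ⟨i, hi⟩ := mem_zpowers_iff.1 (c.mdl.core.cent_fix_line c.facts c.ordK c.fixu c.u0 hcomm
    (hfix u (.inr (.inl rfl))) (hfix _ (.inr (.inr (.inl rfl)))))
  have hx : f ^ (-i) * w ∈ Q := by
    rw [← QuotientGroup.eq_one_iff, QuotientGroup.mk_mul, QuotientGroup.mk_zpow, ← hi, ← zpow_add, neg_add_cancel,
      zpow_zero]
  set x : ↥Q := ⟨_, hx⟩
  have hxv : ((x : Hz) : G) = (f : G) ^ (-i) * y := by simp [x, w]
  have hxX : ((x : Hz) : G) ∈ cX f := by
    rw [hxv]; exact mul_mem (zpow_mem (mem_cX.2 rfl) _) hy.1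
  have hperp : ∀ v ∈ ln n u, polar q (π x) v = 0 := by
    intro v hv
    obtain ⟨b, rfl⟩ := c.mdl.surj v
    refine (c.mdl.polar_iff x b).2 ?_
    have hb := (c.coe_mem_cE b).2 hv
    have hbf : Commute ((f : G) ^ (-i)) ((b : Hz) : G) :=
      (show Commute (f : G) ((b : Hz) : G) from (mem_cX.1 (c.cE_le_cX hb)).symm).zpow_left _
    rw [hxv]
    exact (hbf.mul_left (show Commute y _ from h _ hb)).eq
  refine ⟨(f : G) ^ i, zpow_mem (mem_zpowers _) i, ((x : Hz) : G), (c.coe_mem_cE x).2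
    (c.mdl.core.perp_line c.facts c.ordK c.fixu c.u0 c.qu ((c.fix_iff x).2 hxX)
      (hperp u (.inr (.inl rfl))) (hperp _ (.inr (.inr (.inl rfl))))), ?_⟩
  rw [hxv]; group

theorem cJ_cent {j : G} (hj : j ∈ c.cJ) (h : ∀ e ∈ c.cE, j * e = e * j) : j ∈ c.cE := by
  obtain ⟨a, ha, e, he, rfl⟩ := c.cent_cE (c.cJ_le hj) h
  have : a = 1 := c.F_inf_cJ ha (by simpa using mul_mem hj (inv_mem (c.cE_le_cJ he)))
  rw [this, one_mul]
  exact he

theorem exists_cJ_move {e : G} (he : e ∈ c.cE) (h1 : e ≠ 1) : ∃ j ∈ c.cJ, j * z * j⁻¹ = e := by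
  obtain ⟨g, hg, hge⟩ := c.exists_move he h1
  obtain ⟨a, ha, j, hj, rfl⟩ := c.cY_decomp (y := g) hg
  refine ⟨j, hj, ?_⟩
  obtain ⟨i, rfl⟩ := mem_zpowers_iff.1 ha
  have hfe : Commute ((f : G) ^ i) e := (show Commute (f : G) e from (mem_cX.1 (c.cE_le_cX he)).symm).zpow_left i
  calc j * z * j⁻¹ = ((f : G) ^ i)⁻¹ * ((f : G) ^ i * j * z * ((f : G) ^ i * j)⁻¹) * (f : G) ^ i := by group
    _ = ((f : G) ^ i)⁻¹ * (e * (f : G) ^ i) := by rw [hge, mul_assoc]
    _ = e := by rw [← hfe.eq, inv_mul_cancel_left]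

/-- An element fixed by the complement is trivial. -/
theorem eq_one_of_fixed {e : G} (he : e ∈ c.cE) (h : ∀ j ∈ c.cJ, j * e * j⁻¹ = e) : e = 1 := by
  by_contra h1
  obtain ⟨j, hj, hje⟩ := c.exists_cJ_move he h1
  have hez : e = z := by
    calc e = j⁻¹ * (j * e * j⁻¹) * j := by group
      _ = j⁻¹ * (j * z * j⁻¹) * j := by rw [h j hj, hje]
      _ = z := by group
  -- another element of the subgroup
  obtain ⟨x, hx, hx0⟩ : ∃ x : ↥Q, π x ∈ ln n u ∧ π x ≠ 0 := by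
    obtain ⟨x, hx⟩ := c.mdl.surj u
    exact ⟨x, by rw [hx]; exact .inr (.inl rfl), by rw [hx]; exact c.u0⟩
  have hxE := (c.coe_mem_cE x).2 hx
  have hx1 : ((x : Hz) : G) ≠ 1 := fun e' => hx0 ((c.mdl.ker x).2 (.inl e'))
  obtain ⟨j', hj', hje'⟩ := c.exists_cJ_move hxE hx1
  have h9 := h j' hj'
  rw [hez] at h9
  exact hx0 ((c.mdl.ker x).2 (.inr (hje'.symm.trans h9)))

/-- The action of the complement. -/
noncomputable def toAut (c : Ctx Q q π n M φ f u) : ↥c.cJ →* MulAut ↥c.cE :=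
  c.cE.normalizerMonoidHom.comp (inclusion (fun _ hj => (c.cJ_le hj).2))

theorem toAut_apply (j : ↥c.cJ) (e : ↥c.cE) : ((c.toAut j e : ↥c.cE) : G) = (j : G) * (e : G) * (j : G)⁻¹ := rfl

theorem toAut_ker : c.toAut.ker = c.cE.subgroupOf c.cJ := by
  ext j
  rw [MonoidHom.mem_ker, mem_subgroupOf]
  constructor
  · intro h
    refine c.cJ_cent j.2 fun e he => ?_
    have h1 : ((c.toAut j ⟨e, he⟩ : ↥c.cE) : G) = e := by rw [h]; rfl
    rw [c.toAut_apply] at h1
    exact mul_inv_eq_iff_eq_mul.1 h1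
  · intro h
    refine MulEquiv.ext fun e => Subtype.ext ?_
    rw [c.toAut_apply, c.cE_comm h e.2, mul_inv_cancel_right]
    rfl

instance cE_subgroupOf_normal : (c.cE.subgroupOf c.cJ).Normal := by
  rw [← c.toAut_ker]; infer_instance

theorem card_cE_sub : Nat.card ↥(c.cE.subgroupOf c.cJ) = 8 := by
  rw [Nat.card_congr (subgroupOfEquivOfLe c.cE_le_cJ).toEquiv, c.card_cE]

theorem card_range : Nat.card ↥c.toAut.range = 168 := by
  have h := c.toAut.ker.card_mul_index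
  rw [Subgroup.index_ker, c.card_cJ] at h
  have h2 : Nat.card ↥c.toAut.ker = 8 := by rw [c.toAut_ker]; exact c.card_cE_sub
  rw [h2] at h
  omega

theorem toAut_surjective : Function.Surjective c.toAut := by
  obtain ⟨ρ, hρ⟩ := exists_gl c.elementary c.card_cE
  haveI : Finite (MulAut ↥c.cE) := Finite.of_injective ρ hρ
  have hle : Nat.card (MulAut ↥c.cE) ≤ 168 := by
    refine (Nat.card_le_card_of_injective ρ hρ).trans (le_of_eq ?_)
    obtain ⟨esl⟩ := CfsgLib.LargeFischer.Split.gl_equiv_sl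
    rw [← Nat.card_congr esl.toEquiv, CfsgLib.InvolChar.SubgroupsA8.gl3_card]
  refine MonoidHom.range_eq_top.1 (eq_top_of_card_eq _ ?_)
  rw [c.card_range]
  have := Subgroup.card_le_card_group c.toAut.range
  rw [c.card_range] at this
  omega

theorem quot_equiv : Nonempty (↥c.cJ ⧸ c.cE.subgroupOf c.cJ ≃* Matrix.SpecialLinearGroup (Fin 3) (ZMod 2)) := by
  obtain ⟨ρ, hρ⟩ := exists_gl c.elementary c.card_cE
  haveI : Finite (MulAut ↥c.cE) := Finite.of_injective ρ hρ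
  have hbij : Function.Bijective ρ := by
    rw [Nat.bijective_iff_injective_and_card]
    refine ⟨hρ, ?_⟩
    obtain ⟨esl⟩ := CfsgLib.LargeFischer.Split.gl_equiv_sl
    rw [← Nat.card_congr esl.toEquiv, CfsgLib.InvolChar.SubgroupsA8.gl3_card, ← c.card_range,
      MonoidHom.range_eq_top.2 c.toAut_surjective, Subgroup.card_top]
  exact ⟨((QuotientGroup.quotientMulEquivOfEq c.toAut_ker.symm).trans
    (QuotientGroup.quotientKerEquivOfSurjective c.toAut c.toAut_surjective)).trans (MulEquiv.ofBijective ρ hbij)⟩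

/-- The element of order eight. -/
theorem exists_eight : ∃ (y : G) (b : ↥Q), y ∈ c.cJ ∧ y ∈ Hz ∧ y * y = ((b : Hz) : G) ∧
    ((b : Hz) : G) * ((b : Hz) : G) = z ∧ q (π b) ≠ 0 ∧ ((b : Hz) : G) ∈ cX f := by
  obtain ⟨k, hk, hkM, hkk, v, hv, hkv, hqv⟩ := c.facts.outer _ c.ordK
  obtain ⟨h, hh, hhX⟩ := c.exists_lift_cent hk
  have ha : h * h ∈ Q := by rw [← QuotientGroup.eq_one_iff, QuotientGroup.mk_mul, hh, hkk]
  set a : ↥Q := ⟨_, ha⟩ with hadef
  have haX : ((a : Hz) : G) ∈ cX f := mul_mem hhX hhX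
  have hka : k • π a = π a := by
    rw [← hh]
    exact c.mdl.fixed_of_comm (by simp [hadef, mul_assoc])
  set w0 := v + π a with hw0
  have hfw0 : (QuotientGroup.mk f : K) • w0 = w0 := by
    rw [hw0, smul_add, hv, (c.fix_iff a).2 haX]
  have hkw0 : k • w0 = w0 := by rw [hw0, smul_add, hkv, hka]
  obtain ⟨x, hx⟩ := c.mdl.surj (n • w0)
  have hxX : ((x : Hz) : G) ∈ cX f := (c.fix_iff x).1 (by rw [hx]; exact c.mdl.core.fix_n c.ordK hfw0)
  set y : Hz := h * (x : Hz) with hy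
  set b : ↥Q := a * MulAut.conjNormal h⁻¹ x * x with hb
  have hyb : y * y = (b : Hz) := by
    simp only [hy, hb, hadef, Subgroup.coe_mul, MulAut.conjNormal_apply, inv_inv]
    group
  have hkinv : (QuotientGroup.mk h⁻¹ : K) = k := by
    rw [QuotientGroup.mk_inv, hh]; exact inv_eq_of_mul_eq_one_left hkk
  have hπb : π b = v := by
    rw [hb, c.mdl.pi_mul, c.mdl.pi_mul, ← c.mdl.equiv, hkinv, hx, add_assoc,
      c.mdl.core.outer_image hkM hkw0, hw0, add_comm v, ← add_assoc, vadd_self, zero_add]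
  have hbb : ((b : Hz) : G) * ((b : Hz) : G) = z := by
    rcases (c.mdl.ker (b * b)).1 (by rw [c.mdl.pi_mul, vadd_self]) with e | e
    · exfalso
      refine hqv ?_
      rw [← hπb]
      exact (c.mdl.sq b).2 (Subtype.ext (Subtype.ext e))
    · exact e
  have hyX : (y : G) ∈ cX f := mul_mem hhX hxX
  have hy2 : (y : G) * (y : G) = ((b : Hz) : G) := congrArg Subtype.val hyb
  refine ⟨y, b, c.mem_cJ (c.CH_le_cY ⟨y.2, hyX⟩) ?_, y.2, hy2, hbb, by rw [hπb]; exact hqv, ?_⟩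
  · rw [show 1344 = 4 * 2 * 168 from rfl, pow_mul, pow_mul, show (y : G) ^ 4 = z by
      rw [show 4 = 2 * 2 from rfl, pow_mul, pow_two (y : G), hy2, pow_two, hbb], pow_two, c.zz, one_pow]
  · rw [← hy2]; exact mul_mem hyX hyX

theorem nonsplit (S : Subgroup ↥c.cJ) : ¬ (c.cE.subgroupOf c.cJ).IsComplement' S := by
  intro hS
  obtain ⟨y, b, hy, -, hy2, hb2, -, -⟩ := c.exists_eight
  obtain ⟨⟨⟨e, he⟩, ⟨k, hk⟩⟩, hek⟩ := hS.2 (⟨y, hy⟩ : ↥c.cJ)
  have hek' : (e : G) * (k : G) = y := congrArg Subtype.val hek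
  have heE : (e : G) ∈ c.cE := he
  have hy4 : y ^ 4 = z := by rw [show 4 = 2 * 2 from rfl, pow_mul, pow_two y, hy2, pow_two, hb2]
  have hz : ∀ e' ∈ c.cE, z * e' * z⁻¹ = e' := fun e' he' =>
    mul_inv_eq_iff_eq_mul.2 (c.cE_comm c.z_mem_cE he')
  -- conjugation by the two elements agrees on the subgroup
  have hkE : ∀ e' ∈ c.cE, (k : G) * e' * (k : G)⁻¹ ∈ c.cE := fun e' he' => c.conj_mem_cE (c.cJ_le k.2) he'
  have hyk : ∀ e' ∈ c.cE, y * e' * y⁻¹ = (k : G) * e' * (k : G)⁻¹ := by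
    intro e' he'
    rw [← hek']
    calc (e : G) * (k : G) * e' * ((e : G) * (k : G))⁻¹ = (e : G) * ((k : G) * e' * (k : G)⁻¹) * (e : G)⁻¹ := by group
      _ = _ := by rw [c.cE_comm heE (hkE e' he'), mul_inv_cancel_right]
  have hk4 : ∀ e' ∈ c.cE, (k : G) * ((k : G) * ((k : G) * ((k : G) * e' * (k : G)⁻¹) * (k : G)⁻¹) * (k : G)⁻¹) * (k : G)⁻¹ = e' := by
    intro e' he'
    have h1 := hkE e' he'
    have h2 := hkE _ h1
    have h3 := hkE _ h2
    rw [← hyk _ h3, ← hyk _ h2, ← hyk _ h1, ← hyk _ he']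
    calc _ = y ^ 4 * e' * (y ^ 4)⁻¹ := by rw [pow_succ, pow_succ, pow_two]; group
      _ = e' := by rw [hy4, hz e' he']
  have hkpow : (k : G) ^ 4 = 1 := by
    have h1 : (k : G) ^ 4 ∈ c.cE := c.cJ_cent (pow_mem k.2 4) fun e' he' => by
      have := hk4 e' he'
      rw [← mul_inv_eq_iff_eq_mul]
      refine Eq.trans ?_ this
      rw [pow_succ, pow_succ, pow_two]; group
    have h2 : k ^ 4 ∈ c.cE.subgroupOf c.cJ ⊓ S := ⟨by simpa [mem_subgroupOf] using h1, pow_mem hk 4⟩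
    rw [hS.disjoint.eq_bot, mem_bot] at h2
    simpa using congrArg Subtype.val h2
  -- the endomorphism
  haveI := c.elementary.1
  let D : ↥c.cE →* ↥c.cE := MonoidHom.mk' (fun e' => e' * ⟨(k : G) * e' * (k : G)⁻¹, hkE e' e'.2⟩) fun a a' => by
    have e1 : (⟨(k : G) * ((a * a' : ↥c.cE) : G) * (k : G)⁻¹, hkE _ (a * a').2⟩ : ↥c.cE) =
        ⟨(k : G) * a * (k : G)⁻¹, hkE a a.2⟩ * ⟨(k : G) * a' * (k : G)⁻¹, hkE a' a'.2⟩ :=
      Subtype.ext (by simp only [Subgroup.coe_mul]; group)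
    rw [e1, c.cE_four]
  have hsq : ∀ a : ↥c.cE, a * a = 1 := fun a => Subtype.ext (c.cE_sq a.2)
  let τ : ↥c.cE →* ↥c.cE := MonoidHom.mk' (fun e' => ⟨(k : G) * e' * (k : G)⁻¹, hkE e' e'.2⟩) fun a a' =>
    Subtype.ext (by simp only [Subgroup.coe_mul]; group)
  have hD : ∀ a, D a = a * τ a := fun _ => rfl
  have hτ4 : ∀ a, τ (τ (τ (τ a))) = a := fun a => Subtype.ext (hk4 a a.2)
  have hsq' : ∀ a b : ↥c.cE, a * (a * b) = b := fun a b => by rw [← mul_assoc, hsq, one_mul]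
  have h2 : ∀ a, D (D a) = a * τ (τ a) := fun a => by
    rw [hD, hD, map_mul, mul_assoc, hsq']
  have hD4 : ∀ a, D (D (D (D a))) = 1 := fun a => by
    rw [h2, h2, map_mul, map_mul, hτ4, c.cE_mul_comm (τ (τ a)) a]; exact hsq _
  have h3 := third_trivial D c.card_cE hD4 ⟨e, heE⟩
  set e0 : ↥c.cE := ⟨e, heE⟩
  rw [hD (D (D e0)), h2, map_mul, mul_assoc] at h3
  have hprod : (e : G) * ((k : G) * e * (k : G)⁻¹) * ((k : G) * ((k : G) * e * (k : G)⁻¹) * (k : G)⁻¹) *
      ((k : G) * ((k : G) * ((k : G) * e * (k : G)⁻¹) * (k : G)⁻¹) * (k : G)⁻¹) = 1 := by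
    have h5 : e0 * τ e0 * τ (τ e0) * τ (τ (τ e0)) = 1 := by
      rw [← h3, mul_assoc e0, mul_assoc, c.cE_mul_comm (τ e0) (τ (τ e0)), mul_assoc]
    exact congrArg Subtype.val h5
  refine c.z_ne_one ?_
  rw [← hy4, ← hek']
  calc ((e : G) * (k : G)) ^ 4 = (e : G) * ((k : G) * e * (k : G)⁻¹) * ((k : G) * ((k : G) * e * (k : G)⁻¹) * (k : G)⁻¹) *
      ((k : G) * ((k : G) * ((k : G) * e * (k : G)⁻¹) * (k : G)⁻¹) * (k : G)⁻¹) * (k : G) ^ 4 := by
        rw [pow_succ, pow_succ, pow_two, pow_succ (k : G), pow_succ (k : G), pow_two (k : G)]; group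
    _ = 1 := by rw [hprod, hkpow, one_mul]

/-- The commutation with the element of order four. -/
theorem outer_conj {a a' : G} (ha : a ∈ c.cJ) (haE : a ∉ c.cE) (haa : a * a = 1)
    (ha' : a' ∈ c.cJ) (haE' : a' ∉ c.cE) (haa' : a' * a' = 1) : ∃ j ∈ c.cJ, j * a * j⁻¹ = a' := by
  classical
  obtain ⟨y, b, hy, hyH, hy2, hb2, hqb, hbX⟩ := c.exists_eight
  set B : G := ((b : Hz) : G) with hB
  have hBJ : B ∈ c.cJ := hy2 ▸ mul_mem hy hy
  have hBE : ∀ e ∈ c.cE, B⁻¹ * e * B = e ∨ B⁻¹ * e * B = e * z := by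
    rintro _ ⟨x, hx, rfl⟩
    have h : π x = π (b⁻¹ * x * b) := by
      rw [c.mdl.pi_mul, c.mdl.pi_mul, c.mdl.pi_inv, add_comm (π b), add_assoc, vadd_self, add_zero]
    rcases c.mdl.pi_eq h with e | e
    · left; simpa [hB] using e
    · right; simpa [hB] using e
  -- step one: into the coset of the element
  have step : ∀ t ∈ c.cJ, t ∉ c.cE → t * t = 1 → ∃ j ∈ c.cJ, ∃ e ∈ c.cE, j * t * j⁻¹ = B * e := by
    intro t ht htE htt
    have hti : t⁻¹ = t := inv_eq_of_mul_eq_one_left htt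
    haveI := c.elementary.1
    have htc : ∀ e ∈ c.cE, t * e * t⁻¹ ∈ c.cE := fun e he => c.conj_mem_cE (c.cJ_le ht) he
    let D : ↥c.cE →* ↥c.cE := MonoidHom.mk' (fun e => e * ⟨t * e * t⁻¹, htc e e.2⟩) fun a1 a2 => by
      have e1 : (⟨t * ((a1 * a2 : ↥c.cE) : G) * t⁻¹, htc _ (a1 * a2).2⟩ : ↥c.cE) =
          ⟨t * a1 * t⁻¹, htc a1 a1.2⟩ * ⟨t * a2 * t⁻¹, htc a2 a2.2⟩ :=
        Subtype.ext (by simp only [Subgroup.coe_mul]; group)
      rw [e1, c.cE_four]
    have hDv : ∀ e, ((D e : ↥c.cE) : G) = (e : G) * (t * (e : G) * t⁻¹) := fun e => rfl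
    have hD2 : ∀ e, D (D e) = 1 := fun e => Subtype.ext (by
      rw [hDv, hDv, OneMemClass.coe_one]
      set x := t * (e : G) * t⁻¹ with hx
      have hxt : t * x * t⁻¹ = (e : G) := by
        calc t * x * t⁻¹ = (t * t) * (e : G) * (t * t)⁻¹ := by rw [hx]; group
          _ = (e : G) := by rw [htt, one_mul, inv_one, mul_one]
      have h1 : t * ((e : G) * x) * t⁻¹ = x * (e : G) := by
        calc t * ((e : G) * x) * t⁻¹ = x * (t * x * t⁻¹) := by rw [hx]; group
          _ = x * (e : G) := by rw [hxt]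
      rw [h1, ← c.cE_comm e.2 (htc _ e.2), c.cE_sq (mul_mem e.2 (htc _ e.2))])
    have hr := image_card_le D c.card_cE hD2
    obtain ⟨e1, he1⟩ : ∃ e, D e ≠ 1 := by
      by_contra hall
      simp only [not_exists, not_not] at hall
      refine htE (c.cJ_cent ht fun e he => ?_)
      have h1 : e * (t * e * t⁻¹) = 1 := by
        have h0 := congrArg Subtype.val (hall ⟨e, he⟩)
        rw [hDv] at h0
        exact h0
      rw [← mul_inv_eq_iff_eq_mul, eq_inv_of_mul_eq_one_right h1]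
      exact inv_eq_of_mul_eq_one_left (c.cE_sq he)
    have himg : ∀ e, D e = 1 ∨ D e = D e1 := by
      intro e
      by_contra hc
      rw [not_or] at hc
      have hsub : ({1, D e1, D e} : Set ↥c.cE) ⊆ D.range := by
        rintro x (rfl | rfl | rfl)
        exacts [one_mem _, ⟨e1, rfl⟩, ⟨e, rfl⟩]
      have h3 := Set.ncard_le_ncard hsub (Set.toFinite _)
      rw [Set.ncard_insert_of_notMem (by simp [Ne.symm he1, Ne.symm hc.1]) (Set.toFinite _),
        Set.ncard_pair (Ne.symm hc.2), ← Nat.card_coe_set_eq] at h3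
      simp only [SetLike.coe_sort_coe] at h3
      omega
    obtain ⟨j, hj, hje⟩ := c.exists_cJ_move (D e1).2 (fun e => he1 (Subtype.ext e))
    set t1 := j⁻¹ * t * j with ht1
    have ht1J : t1 ∈ c.cJ := mul_mem (mul_mem (inv_mem hj) ht) hj
    have ht1t : t1 * t1 = 1 := by
      calc t1 * t1 = j⁻¹ * (t * t) * j := by rw [ht1]; group
        _ = 1 := by rw [htt, mul_one, inv_mul_cancel]
    have ht1E : t1 ∉ c.cE := fun he => htE (by
      have := c.conj_mem_cE (c.cJ_le hj) he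
      rwa [show j * t1 * j⁻¹ = t by rw [ht1]; group] at this)
    have hact : ∀ e ∈ c.cE, e * (t1 * e * t1⁻¹) = 1 ∨ e * (t1 * e * t1⁻¹) = z := by
      intro e he
      have hje' : j * e * j⁻¹ ∈ c.cE := c.conj_mem_cE (c.cJ_le hj) he
      have h1 : e * (t1 * e * t1⁻¹) = j⁻¹ * ((j * e * j⁻¹) * (t * (j * e * j⁻¹) * t⁻¹)) * j := by
        rw [ht1]; group
      rcases himg ⟨_, hje'⟩ with h2 | h2 <;> have h2' := congrArg Subtype.val h2 <;> rw [hDv] at h2' <;> simp only at h2'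
      · left; rw [h1, h2', OneMemClass.coe_one]; group
      · right; rw [h1, h2', ← hje]; group
    have ht1z : t1 * z * t1⁻¹ = z := by
      rcases hact z c.z_mem_cE with h | h
      · rw [eq_inv_of_mul_eq_one_right h]; exact inv_eq_of_mul_eq_one_left c.zz
      · exfalso
        exact c.z_ne_one (conj_eq_one_iff.1 (mul_eq_left.1 h))
    have ht1H : t1 ∈ Hz := mem_centralizer_singleton_iff.2 (mul_inv_eq_iff_eq_mul.1 ht1z)
    set w : Hz := ⟨t1, ht1H⟩ with hw
    have hwcomm : (QuotientGroup.mk w : K) * QuotientGroup.mk f = QuotientGroup.mk f * QuotientGroup.mk w := by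
      rw [← QuotientGroup.mk_mul, ← QuotientGroup.mk_mul, show w * f = f * w from
        Subtype.ext (mem_cX.1 (c.cJ_le ht1J).1)]
    have hfix : ∀ v ∈ ln n u, (QuotientGroup.mk w : K) • v = v := by
      intro v hv
      obtain ⟨x, rfl⟩ := c.mdl.surj v
      have hxE := (c.coe_mem_cE x).2 hv
      rw [c.mdl.equiv]
      have hval : (((MulAut.conjNormal w x : ↥Q) : Hz) : G) = t1 * ((x : Hz) : G) * t1⁻¹ := by
        simp [MulAut.conjNormal_apply, hw]
      refine eq_of_vadd ?_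
      rw [add_comm, ← c.mdl.pi_mul]
      refine (c.mdl.ker _).2 ?_
      simp only [Subgroup.coe_mul, hval]
      exact hact _ hxE
    have hw0 : (QuotientGroup.mk w : K) = 1 := by
      obtain ⟨i, hi⟩ := mem_zpowers_iff.1 (c.mdl.core.cent_fix_line c.facts c.ordK c.fixu c.u0 hwcomm
        (hfix u (.inr (.inl rfl))) (hfix _ (.inr (.inr (.inl rfl)))))
      have h2 : (QuotientGroup.mk w : K) ^ 2 = 1 := by
        rw [← QuotientGroup.mk_pow, pow_two, show w * w = 1 from Subtype.ext ht1t]; rfl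
      have h5 : (QuotientGroup.mk w : K) ^ 5 = 1 := by
        have hk5 : (QuotientGroup.mk f : K) ^ (5 : ℕ) = 1 := by rw [← c.ordK, pow_orderOf_eq_one]
        rw [← hi, ← zpow_natCast, ← zpow_mul, mul_comm, zpow_mul, zpow_natCast, hk5, one_zpow]
      have := Nat.dvd_gcd (orderOf_dvd_of_pow_eq_one h2) (orderOf_dvd_of_pow_eq_one h5)
      rw [show Nat.gcd 2 5 = 1 from rfl, Nat.dvd_one, orderOf_eq_one_iff] at this
      exact this
    set x : ↥Q := ⟨w, (QuotientGroup.eq_one_iff w).1 hw0⟩ with hx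
    have hxX : ((x : Hz) : G) ∈ cX f := (c.cJ_le ht1J).1
    have hxl : π x ∉ ln n u := fun h => ht1E ((c.coe_mem_cE x).2 h)
    have hbl : π b ∉ ln n u := fun h => hqb (c.line_q h)
    obtain ⟨g, hgk, hgX⟩ := c.exists_lift_cent (k := n) (c.mdl.core.five_comm c.ordK)
    obtain ⟨a0, ha0, j0, hj0, hj0g⟩ := c.cY_decomp (c.CH_le_cY ⟨g.2, hgX⟩)
    obtain ⟨i0, rfl⟩ := mem_zpowers_iff.1 ha0
    have hj0H : j0 ∈ Hz := by
      have h1 : j0 = ((f : G) ^ i0)⁻¹ * (g : G) := eq_inv_mul_of_mul_eq hj0g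
      rw [h1]
      exact mul_mem (inv_mem (zpow_mem f.2 _)) g.2
    have hact0 : ∀ v : V, (QuotientGroup.mk f : K) • v = v → (QuotientGroup.mk (⟨j0, hj0H⟩ : Hz) : K) • v = n • v := by
      intro v hv
      have h1 : (⟨j0, hj0H⟩ : Hz) = f ^ (-i0) * g := Subtype.ext (by
        show j0 = _
        rw [Subgroup.coe_mul, SubgroupClass.coe_zpow, zpow_neg]
        exact eq_inv_mul_of_mul_eq hj0g)
      rw [h1, QuotientGroup.mk_mul, QuotientGroup.mk_zpow, hgk, mul_smul]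
      exact MulAction.mem_stabilizer_iff.1 (zpow_mem (MulAction.mem_stabilizer_iff.2 (c.mdl.core.fix_n c.ordK hv)) _)
    have fin : ∀ (i : Hz), (i : G) ∈ c.cJ → π b + (QuotientGroup.mk i : K) • π x ∈ ln n u →
        ∃ j' ∈ c.cJ, ∃ e ∈ c.cE, j' * t * j'⁻¹ = B * e := by
      intro i hi hl
      refine ⟨(i : G) * j⁻¹, mul_mem hi (inv_mem hj), B⁻¹ * ((i : G) * t1 * (i : G)⁻¹), ?_, ?_⟩
      · rw [c.mdl.equiv, ← c.mdl.pi_inv b, ← c.mdl.pi_mul] at hl
        have h1 := (c.coe_mem_cE _).2 hl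
        simpa [hB, hx, hw, MulAut.conjNormal_apply] using h1
      · rw [mul_inv_cancel_left, ht1]; group
    have hj0x : (QuotientGroup.mk (⟨j0, hj0H⟩ : Hz) : K) • π x = n • π x := hact0 _ ((c.fix_iff x).2 hxX)
    rcases c.mdl.core.off_line c.facts c.ordK c.fixu c.u0 ((c.fix_iff x).2 hxX) hxl ((c.fix_iff b).2 hbX) hbl
      with h | h | h
    · exact fin 1 (one_mem _) (by rwa [QuotientGroup.mk_one, one_smul])
    · exact fin ⟨j0, hj0H⟩ hj0 (by rwa [hj0x])
    · exact fin (⟨j0, hj0H⟩ * ⟨j0, hj0H⟩) (mul_mem hj0 hj0) (by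
        rwa [QuotientGroup.mk_mul, mul_smul, hj0x, hact0 _ (c.mdl.core.fix_n c.ordK ((c.fix_iff x).2 hxX))])
  obtain ⟨j1, hj1, e1, he1, h1⟩ := step a ha haE haa
  obtain ⟨j2, hj2, e2, he2, h2⟩ := step a' ha' haE' haa'
  haveI := c.elementary.1
  have hBc : ∀ e ∈ c.cE, B⁻¹ * e * B ∈ c.cE := fun e he => by
    rcases hBE e he with h | h <;> rw [h]
    exacts [he, mul_mem he c.z_mem_cE]
  let β : ↥c.cE →* ↥c.cE := MonoidHom.mk' (fun e => e * ⟨B⁻¹ * e * B, hBc e e.2⟩) fun a1 a2 => by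
    have e1 : (⟨B⁻¹ * ((a1 * a2 : ↥c.cE) : G) * B, hBc _ (a1 * a2).2⟩ : ↥c.cE) =
        ⟨B⁻¹ * a1 * B, hBc a1 a1.2⟩ * ⟨B⁻¹ * a2 * B, hBc a2 a2.2⟩ :=
      Subtype.ext (by simp only [Subgroup.coe_mul]; group)
    rw [e1, c.cE_four]
  have hβ : ∀ e, ((β e : ↥c.cE) : G) = (e : G) * (B⁻¹ * (e : G) * B) := fun _ => rfl
  have hsol : ∀ j t e, e ∈ c.cE → t * t = 1 → j * t * j⁻¹ = B * e → e * (B⁻¹ * e * B) = z := by
    intro j t e he htt hjt
    have h3 : B * e * (B * e) = 1 := by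
      calc B * e * (B * e) = j * t * j⁻¹ * (j * t * j⁻¹) := by rw [hjt]
        _ = j * (t * t) * j⁻¹ := by group
        _ = 1 := by rw [htt]; group
    have h4 : B * B * ((B⁻¹ * e * B) * e) = 1 := by rw [← h3]; group
    rw [hb2] at h4
    rw [c.cE_comm he (hBc e he), ← inv_eq_of_mul_eq_one_right h4, inv_eq_of_mul_eq_one_left c.zz]
  have hz1 := hsol j1 a e1 he1 haa h1
  have hz2 := hsol j2 a' e2 he2 haa' h2
  have hBy : y * B * y⁻¹ = B := by rw [← hy2]; group
  have hyz : y * z * y⁻¹ = z := mul_inv_eq_iff_eq_mul.2 (mem_centralizer_singleton_iff.1 hyH)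
  set d0 := e1 * (y * e1 * y⁻¹) with hd0
  have hye : y * e1 * y⁻¹ ∈ c.cE := c.conj_mem_cE (c.cJ_le hy) he1
  have hd0E : d0 ∈ c.cE := mul_mem he1 hye
  have hd1 : d0 ≠ 1 ∧ d0 ≠ z := by
    have key : y * d0 * y⁻¹ = d0 → False := by
      intro h
      have h5 : e1 = y * (y * e1 * y⁻¹) * y⁻¹ := by
        have h6 : y * e1 * y⁻¹ * (y * (y * e1 * y⁻¹) * y⁻¹) = y * e1 * y⁻¹ * e1 := by
          rw [← c.cE_comm he1 hye, ← hd0]
          calc y * e1 * y⁻¹ * (y * (y * e1 * y⁻¹) * y⁻¹) = y * d0 * y⁻¹ := by rw [hd0]; group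
            _ = d0 := h
        exact (mul_left_cancel h6).symm
      have h7 : B⁻¹ * e1 * B = e1 := by
        calc B⁻¹ * e1 * B = B⁻¹ * (y * (y * e1 * y⁻¹) * y⁻¹) * B := by rw [← h5]
          _ = B⁻¹ * (B * e1 * B⁻¹) * B := by rw [← hy2]; group
          _ = e1 := by group
      rw [h7, c.cE_sq he1] at hz1
      exact c.z_ne_one hz1.symm
    constructor <;> intro h <;> refine key ?_ <;> rw [h]
    · group
    · exact hyz
  have hker : β ⟨d0, hd0E⟩ = 1 := by
    have hye' : β ⟨_, hye⟩ = ⟨z, c.z_mem_cE⟩ := Subtype.ext (by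
      rw [hβ]
      have hB' : B⁻¹ = y * B⁻¹ * y⁻¹ := by conv_lhs => rw [← hBy]
                                           group
      show y * e1 * y⁻¹ * (B⁻¹ * (y * e1 * y⁻¹) * B) = z
      calc y * e1 * y⁻¹ * (B⁻¹ * (y * e1 * y⁻¹) * B)
          = y * e1 * y⁻¹ * ((y * B⁻¹ * y⁻¹) * (y * e1 * y⁻¹) * (y * B * y⁻¹)) := by rw [← hB', hBy]
        _ = y * (e1 * (B⁻¹ * e1 * B)) * y⁻¹ := by group
        _ = z := by rw [hz1, hyz])
    have he1' : β ⟨e1, he1⟩ = ⟨z, c.z_mem_cE⟩ := Subtype.ext (by rw [hβ]; exact hz1)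
    rw [show (⟨d0, hd0E⟩ : ↥c.cE) = ⟨e1, he1⟩ * ⟨_, hye⟩ from rfl, map_mul, hye', he1']
    exact Subtype.ext c.zz
  have hkerz : (⟨z, c.z_mem_cE⟩ : ↥c.cE) ∈ β.ker := Subtype.ext (by
    rw [hβ]
    show z * (B⁻¹ * z * B) = 1
    rw [mul_assoc B⁻¹, ← mem_centralizer_singleton_iff.1 (b : Hz).2, inv_mul_cancel_left, c.zz])
  have hcases : e2 = e1 ∨ e2 = e1 * z ∨ e2 = y * e1 * y⁻¹ ∨ e2 = y * e1 * y⁻¹ * z := by
    have hrge : Nat.card ↥β.range ≤ 2 := by
      have hsub : (β.range : Set ↥c.cE) ⊆ {1, ⟨z, c.z_mem_cE⟩} := by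
        rintro _ ⟨e, rfl⟩
        rcases hBE e e.2 with h | h
        · refine .inl (Subtype.ext ?_)
          rw [hβ, h, c.cE_sq e.2]; rfl
        · refine .inr (Subtype.ext ?_)
          rw [hβ, h, ← mul_assoc, c.cE_sq e.2, one_mul]
      have := Set.ncard_le_ncard hsub (Set.toFinite _)
      rw [← Nat.card_coe_set_eq] at this
      exact this.trans ((Set.ncard_insert_le _ _).trans (by rw [Set.ncard_singleton]))
    have hne : β ⟨e1, he1⟩ ≠ 1 := fun h => c.z_ne_one (hz1.symm.trans (congrArg Subtype.val h))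
    have hr2 : 1 < Nat.card ↥β.range := (Subgroup.one_lt_card_iff_ne_bot _).2 fun hb => by
      have h : β ⟨e1, he1⟩ ∈ β.range := ⟨_, rfl⟩
      rw [hb, mem_bot] at h
      exact hne h
    have hk4 : Nat.card ↥β.ker = 4 := by
      have h := β.ker.card_mul_index
      rw [Subgroup.index_ker, c.card_cE, show Nat.card ↥β.range = 2 by omega] at h
      omega
    let T : Set ↥c.cE := {1, ⟨z, c.z_mem_cE⟩, ⟨d0, hd0E⟩, ⟨d0, hd0E⟩ * ⟨z, c.z_mem_cE⟩}
    have hTsub : T ⊆ β.ker := by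
      rintro x (rfl | rfl | rfl | rfl)
      exacts [one_mem _, hkerz, hker, mul_mem hker hkerz]
    have hd0z : d0 * z ≠ 1 := fun h => hd1.2 (by rw [eq_inv_of_mul_eq_one_left h, inv_eq_of_mul_eq_one_left c.zz])
    have hT4 : T.ncard = 4 := by
      rw [Set.ncard_insert_of_notMem (by simp [Subtype.ext_iff, Ne.symm c.z_ne_one, Ne.symm hd1.1, Ne.symm hd0z]) (Set.toFinite _),
        Set.ncard_insert_of_notMem (by simp [Subtype.ext_iff, Ne.symm hd1.2, hd1.1]) (Set.toFinite _),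
        Set.ncard_pair (by simp [Subtype.ext_iff, c.z_ne_one])]
    have hTeq : T = β.ker := Set.eq_of_subset_of_ncard_le hTsub (by
      rw [hT4, ← Nat.card_coe_set_eq]; exact hk4.le) (Set.toFinite _)
    have hm : (⟨e1, he1⟩ * ⟨e2, he2⟩ : ↥c.cE) ∈ T := by
      rw [hTeq, SetLike.mem_coe, MonoidHom.mem_ker, map_mul]
      exact Subtype.ext (by rw [Subgroup.coe_mul, hβ, hβ]; exact (congrArg₂ (· * ·) hz1 hz2).trans c.zz)
    have he12 : ∀ d, e1 * e2 = d → e2 = e1 * d := fun d h => by rw [← h, ← mul_assoc, c.cE_sq he1, one_mul]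
    rcases hm with h | h | h | h
    · left; rw [he12 _ (congrArg Subtype.val h)]; exact mul_one _
    · right; left; exact he12 _ (congrArg Subtype.val h)
    · right; right; left
      rw [he12 d0 (congrArg Subtype.val h), hd0, ← mul_assoc, c.cE_sq he1, one_mul]
    · right; right; right
      rw [he12 (d0 * z) (congrArg Subtype.val h), hd0, ← mul_assoc, ← mul_assoc, c.cE_sq he1, one_mul]
  have hfin : ∃ j ∈ c.cJ, j * (B * e1) * j⁻¹ = B * e2 := by
    have he1i : e1⁻¹ = e1 := inv_eq_of_mul_eq_one_left (c.cE_sq he1)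
    have hz_step : e1 * (B * e1) * e1⁻¹ = B * (e1 * z) := by
      have h6 : B⁻¹ * e1 * B = e1 * z := by
        calc B⁻¹ * e1 * B = e1 * (e1 * (B⁻¹ * e1 * B)) := by rw [← mul_assoc, c.cE_sq he1, one_mul]
          _ = e1 * z := by rw [hz1]
      calc e1 * (B * e1) * e1⁻¹ = e1 * B := by group
        _ = B * (B⁻¹ * e1 * B) := by group
        _ = B * (e1 * z) := by rw [h6]
    rcases hcases with h | h | h | h <;> rw [h]
    · exact ⟨1, one_mem _, by group⟩
    · exact ⟨e1, c.cE_le_cJ he1, hz_step⟩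
    · exact ⟨y, hy, by rw [show y * (B * e1) * y⁻¹ = y * B * y⁻¹ * (y * e1 * y⁻¹) by group, hBy]⟩
    · refine ⟨y * e1, mul_mem hy (c.cE_le_cJ he1), ?_⟩
      calc y * e1 * (B * e1) * (y * e1)⁻¹ = y * (e1 * (B * e1) * e1⁻¹) * y⁻¹ := by group
        _ = y * (B * (e1 * z)) * y⁻¹ := by rw [hz_step]
        _ = y * B * y⁻¹ * (y * e1 * y⁻¹ * (y * z * y⁻¹)) := by group
        _ = B * (y * e1 * y⁻¹ * z) := by rw [hBy, hyz]
  obtain ⟨j, hj, hje⟩ := hfin
  refine ⟨j2⁻¹ * j * j1, mul_mem (mul_mem (inv_mem hj2) hj) hj1, ?_⟩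
  calc j2⁻¹ * j * j1 * a * (j2⁻¹ * j * j1)⁻¹ = j2⁻¹ * (j * (j1 * a * j1⁻¹) * j⁻¹) * j2 := by group
    _ = j2⁻¹ * (j2 * a' * j2⁻¹) * j2 := by rw [h1, hje, h2]
    _ = a' := by group

end Ctx

end CfsgLib.JankoFour.Five
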