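import Cfsg.Agent.Lib.JankoFour.FiveCent
import Cfsg.Agent.Lib.JankoFour.Basic

/-!
# The second class of involutions and elements of order five
-/

set_option autoImplicit false
set_option linter.unusedSectionVars false
set_option linter.style.haveILetI false

namespace CfsgLib.JankoFour.Five

open Subgroup QuadraticMap

section Abstract

variable {V : Type*} [AddCommGroup V] [Module (ZMod 2) V] [Finite V]
  {K : Type*} [Group K] [Finite K] [DistribMulAction K V]
  {q : QuadraticForm (ZMod 2) V} {n : K} {M : Subgroup K} {φ : ↥M →* ↥Cfsg.Spor.M22}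

/-- Elements of order five of the Mathieu group have centralisers of order five. -/
theorem cent_five_M22 (c : Core q n M φ) (hF : FiveFacts q n M) {y : ↥Cfsg.Spor.M22} (hy : orderOf y = 5) :
    Nat.card ↥(centralizer ({y} : Set ↥Cfsg.Spor.M22)) ≤ 5 := by
  haveI : Fact (Nat.Prime 5) := ⟨by norm_num⟩
  obtain ⟨m0, hm0⟩ := c.surj y
  have hy5 : y ^ 5 = 1 := by rw [← hy, pow_orderOf_eq_one]
  have hn3 : n ^ 3 = 1 := by rw [← c.ordn, pow_orderOf_eq_one]
  set m := m0 ^ 6 with hm
  have hφm : φ m = y := by rw [hm, map_pow, hm0, pow_succ, hy5, one_mul]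
  have h15 : (m0 : K) ^ 15 = 1 := by
    have h1 : ((m0 ^ 5 : ↥M) : K) ∈ zpowers n := (c.ker _).1 (by rw [map_pow, hm0, hy5])
    obtain ⟨i, hi⟩ := mem_zpowers_iff.1 h1
    rw [show 15 = 5 * 3 from rfl, pow_mul, ← SubmonoidClass.coe_pow, ← hi, ← zpow_natCast, ← zpow_mul, mul_comm,
      zpow_mul, zpow_natCast, hn3, one_zpow]
  have hm5 : orderOf (m : K) = 5 := by
    refine orderOf_eq_prime ?_ fun e => ?_
    · rw [hm, SubmonoidClass.coe_pow, ← pow_mul, show 6 * 5 = 15 * 2 from rfl, pow_mul, h15, one_pow]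
    · have : m = 1 := Subtype.ext e
      rw [this, map_one] at hφm
      rw [← hφm, orderOf_one] at hy
      omega
  set S : Subgroup ↥M := (centralizer ({(m : K)} : Set K) ⊓ M).subgroupOf M with hS
  have hS15 : Nat.card ↥S = 15 := by
    rw [hS, Nat.card_congr (subgroupOfEquivOfLe inf_le_right).toEquiv, c.cent_M_card hF hm5]
  have hsurj : centralizer ({y} : Set ↥Cfsg.Spor.M22) ≤ S.map φ := by
    intro a ha
    obtain ⟨a0, rfl⟩ := c.surj a
    refine ⟨a0, ⟨mem_centralizer_singleton_iff.2 ?_, a0.2⟩, rfl⟩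
    have hk : φ (a0 * m * a0⁻¹ * m⁻¹) = 1 := by
      rw [map_mul, map_mul, map_mul, map_inv, map_inv, hφm, mem_centralizer_singleton_iff.1 ha]; group
    obtain ⟨i, hi⟩ := mem_zpowers_iff.1 ((c.ker _).1 hk)
    simp only [Subgroup.coe_mul, Subgroup.coe_inv] at hi
    have hconj : (a0 : K) * (m : K) * (a0 : K)⁻¹ = n ^ i * (m : K) := by rw [hi]; group
    have hnm : Commute (n ^ i) (m : K) := (show Commute (m : K) n from c.commute _ m.2).symm.zpow_left i
    have h5 : (n ^ i) ^ 5 = 1 := by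
      have h := congrArg (· ^ 5) hconj
      simp only [conj_pow, hnm.mul_pow] at h
      rw [show (m : K) ^ 5 = 1 by rw [← hm5, pow_orderOf_eq_one], mul_one, mul_one, mul_inv_cancel] at h
      exact h.symm
    have h3 : (n ^ i) ^ 3 = 1 := by rw [← zpow_natCast, ← zpow_mul, mul_comm, zpow_mul, zpow_natCast, hn3, one_zpow]
    have h1 : n ^ i = 1 := by
      have := Nat.dvd_gcd (orderOf_dvd_of_pow_eq_one h5) (orderOf_dvd_of_pow_eq_one h3)
      rwa [show Nat.gcd 5 3 = 1 from rfl, Nat.dvd_one, orderOf_eq_one_iff] at this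
    rw [h1, one_mul] at hconj
    exact mul_inv_eq_iff_eq_mul.1 hconj
  refine (Nat.le_of_dvd Nat.card_pos (card_dvd_of_le hsurj)).trans ?_
  set g := φ.comp S.subtype with hg
  have hrange : g.range = S.map φ := by rw [hg, MonoidHom.range_comp, Subgroup.range_subtype]
  have hnS : (⟨n, c.nM⟩ : ↥M) ∈ S := ⟨mem_centralizer_singleton_iff.2 (c.commute _ m.2).symm, c.nM⟩
  have hker3 : 3 ∣ Nat.card ↥g.ker := by
    have h := g.ker.orderOf_dvd_natCard (x := ⟨_, hnS⟩) ((c.ker _).2 (mem_zpowers n))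
    rwa [Subgroup.orderOf_mk, Subgroup.orderOf_mk, c.ordn] at h
  have h := g.ker.card_mul_index
  rw [Subgroup.index_ker, hrange, hS15] at h
  have h3 := Nat.le_of_dvd Nat.card_pos hker3
  have h4 : 3 * Nat.card ↥(S.map φ) ≤ 15 := h ▸ Nat.mul_le_mul_right _ h3
  omega

/-- Elements of order five of the automorphism group of the Mathieu group. -/
theorem cent_five_aut (c : Core q n M φ) (hF : FiveFacts q n M) {a : MulAut ↥Cfsg.Spor.M22} (ha : orderOf a = 5) :
    Nat.card ↥(centralizer ({a} : Set (MulAut ↥Cfsg.Spor.M22))) ∣ 10 := by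
  classical
  haveI : Finite (MulAut ↥Cfsg.Spor.M22) := Finite.of_injective (fun e => (e : ↥Cfsg.Spor.M22 → ↥Cfsg.Spor.M22)) DFunLike.coe_injective
  set I := (MulAut.conj : ↥Cfsg.Spor.M22 →* MulAut ↥Cfsg.Spor.M22).range with hI
  haveI : I.Normal := normal_of_index_eq_two index_conj_range_M22
  have haI : a ∈ I := by
    have h2 : a ^ 2 ∈ I := by rw [pow_two]; exact mul_self_mem_of_index_two index_conj_range_M22 a
    have : a = (a ^ 2) ^ 3 := by rw [← pow_mul, show 2 * 3 = 5 + 1 from rfl, pow_succ, ← ha, pow_orderOf_eq_one, one_mul]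
    rw [this]; exact pow_mem h2 3
  obtain ⟨y, hy⟩ := haI
  have hy5 : orderOf y = 5 := by rw [← orderOf_injective _ conj_injective_M22, hy, ha]
  set C := centralizer ({a} : Set (MulAut ↥Cfsg.Spor.M22)) with hC
  have hle : C ⊓ I ≤ (centralizer ({y} : Set ↥Cfsg.Spor.M22)).map MulAut.conj := by
    rintro _ ⟨hx, w, rfl⟩
    refine ⟨w, mem_centralizer_singleton_iff.2 (conj_injective_M22 ?_), rfl⟩
    rw [map_mul, map_mul, hy]
    exact mem_centralizer_singleton_iff.1 hx
  have hm : Nat.card ↥(C ⊓ I) ≤ 5 := by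
    refine (Nat.le_of_dvd Nat.card_pos (card_dvd_of_le hle)).trans ?_
    rw [card_map_of_injective conj_injective_M22]
    exact cent_five_M22 c hF hy5
  have h5 : Nat.card ↥(C ⊓ I) = 5 := by
    have h := (C ⊓ I).orderOf_dvd_natCard (x := a) ⟨mem_centralizer_singleton_iff.2 rfl, ⟨y, hy⟩⟩
    rw [ha] at h
    exact le_antisymm hm (Nat.le_of_dvd Nat.card_pos h)
  have h1 := relIndex_mul_relIndex ⊥ (C ⊓ I) C bot_le inf_le_left
  simp only [relIndex_bot_left, inf_relIndex_left, h5] at h1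
  have h2 := relIndex_dvd_index_of_normal I C
  rw [hI, index_conj_range_M22] at h2
  rw [← h1, hI]
  exact Nat.mul_dvd_mul_left 5 h2

end Abstract

variable {G : Type*} [Group G] [Finite G]

/-- The centraliser of an element of order five in a split extension by the automorphism group. -/
theorem cent_split {V : Type*} [AddCommGroup V] [Module (ZMod 2) V] [Finite V]
    {K : Type*} [Group K] [Finite K] [DistribMulAction K V]
    {q : QuadraticForm (ZMod 2) V} {n : K} {M : Subgroup K} {φ : ↥M →* ↥Cfsg.Spor.M22}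
    (c : Core q n M φ) (hF : FiveFacts q n M) {t x : G} (hx : orderOf x = 5)
    {W L : Subgroup G} (hWt : W ≤ centralizer ({t} : Set G)) (hLt : L ≤ centralizer ({t} : Set G))
    (hnorm : centralizer ({t} : Set G) ≤ normalizer (W : Set G)) (hW : Nat.card ↥W = 2 ^ 11)
    (hdis : L ⊓ W = ⊥) (hsup : L ⊔ W = centralizer ({t} : Set G)) (e : ↥L ≃* MulAut ↥Cfsg.Spor.M22)
    (hxt : x ∈ centralizer ({t} : Set G)) :
    ∃ a, Nat.card ↥(centralizer ({x} : Set G) ⊓ centralizer ({t} : Set G)) = 5 * 2 ^ a := by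
  classical
  haveI : Fact (Nat.Prime 2) := ⟨Nat.prime_two⟩
  haveI : Fact (Nat.Prime 5) := ⟨by norm_num⟩
  set T := centralizer ({t} : Set G) with hT
  set W' := W.subgroupOf T with hW'
  set L' := L.subgroupOf T with hL'
  haveI : W'.Normal := normal_subgroupOf_of_le_normalizer hnorm
  let θ : ↥L' →* ↥T ⧸ W' := (QuotientGroup.mk' W').comp L'.subtype
  have hbij : Function.Bijective θ := by
    constructor
    · refine (injective_iff_map_eq_one θ).2 fun y hy => ?_
      have hyW : (y : ↥T) ∈ W' := (QuotientGroup.eq_one_iff (y : ↥T)).1 hy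
      have h1 : ((y : ↥T) : G) ∈ L ⊓ W := ⟨y.2, hyW⟩
      rw [hdis, mem_bot] at h1
      exact Subtype.ext (Subtype.ext h1)
    · intro y
      obtain ⟨w, rfl⟩ := QuotientGroup.mk_surjective y
      have htop : L' ⊔ W' = ⊤ := by
        rw [hL', hW', ← subgroupOf_sup hLt hWt, hsup, subgroupOf_self]
      obtain ⟨l, hl, v, hv, rfl⟩ := mem_sup_of_normal_right.1 (htop ▸ mem_top w : w ∈ L' ⊔ W')
      exact ⟨⟨l, hl⟩, by
        show QuotientGroup.mk l = QuotientGroup.mk (l * v)
        rw [QuotientGroup.mk_mul, (QuotientGroup.eq_one_iff v).2 hv, mul_one]⟩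
  let ψ : ↥T →* MulAut ↥Cfsg.Spor.M22 :=
    (((MulEquiv.ofBijective θ hbij).symm.trans (subgroupOfEquivOfLe hLt)).trans e).toMonoidHom.comp (QuotientGroup.mk' W')
  have hker : ψ.ker = W' := by
    rw [MonoidHom.ker_comp_of_injective _ _ (MulEquiv.injective _), QuotientGroup.ker_mk']
  have hψx : orderOf (ψ ⟨x, hxt⟩) = 5 := by
    refine orderOf_eq_prime (by rw [← map_pow, show (⟨x, hxt⟩ : ↥T) ^ 5 = 1 from Subtype.ext (by
      rw [SubmonoidClass.coe_pow, ← hx, pow_orderOf_eq_one]; rfl), map_one]) fun h => ?_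
    have h1 : x ∈ W := by
      have : (⟨x, hxt⟩ : ↥T) ∈ ψ.ker := h
      rwa [hker] at this
    have := W.orderOf_dvd_natCard h1
    rw [hx, hW] at this
    norm_num at this
  set C' := (centralizer ({x} : Set G)).subgroupOf T with hC'
  have hC'c : Nat.card ↥C' = Nat.card ↥(centralizer ({x} : Set G) ⊓ T) := by
    rw [hC', ← inf_subgroupOf_right, Nat.card_congr (subgroupOfEquivOfLe inf_le_right).toEquiv]
  set g := ψ.comp C'.subtype with hg
  have hr : Nat.card ↥g.range ∣ 10 := by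
    refine dvd_trans (card_dvd_of_le ?_) (cent_five_aut c hF hψx)
    rintro _ ⟨y, rfl⟩
    refine mem_centralizer_singleton_iff.2 ?_
    show ψ (y : ↥T) * ψ ⟨x, hxt⟩ = ψ ⟨x, hxt⟩ * ψ (y : ↥T)
    rw [← map_mul, ← map_mul]
    exact congrArg ψ (Subtype.ext (mem_centralizer_singleton_iff.1 y.2))
  obtain ⟨j, hj⟩ : ∃ j, Nat.card ↥g.ker = 2 ^ j := by
    have hd : Nat.card ↥g.ker ∣ 2 ^ 11 := by
      have hle : g.ker.map C'.subtype ≤ W' := by
        rintro _ ⟨y, hy, rfl⟩
        rw [← hker]; exact hy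
      have := card_dvd_of_le hle
      rwa [card_map_of_injective (subtype_injective _), hW', Nat.card_congr (subgroupOfEquivOfLe hWt).toEquiv, hW] at this
    obtain ⟨j, -, hj⟩ := (Nat.dvd_prime_pow Nat.prime_two).1 hd
    exact ⟨j, hj⟩
  have h := g.ker.card_mul_index
  rw [Subgroup.index_ker, hj, hC'c] at h
  have h5 : 5 ∣ 2 ^ j * Nat.card ↥g.range := by
    rw [h]
    have h1 := (centralizer ({x} : Set G) ⊓ T).orderOf_dvd_natCard (x := x) ⟨mem_centralizer_singleton_iff.2 rfl, hxt⟩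
    rwa [hx] at h1
  have h5' : 5 ∣ Nat.card ↥g.range :=
    ((Nat.Coprime.pow_right j (by norm_num : Nat.Coprime 5 2))).dvd_of_dvd_mul_left h5
  have hle := Nat.le_of_dvd (by norm_num) hr
  obtain ⟨k, hk⟩ := h5'
  have : k = 1 ∨ k = 2 := by
    have hpos : 0 < Nat.card ↥g.range := Nat.card_pos
    omega
  rcases this with rfl | rfl
  · exact ⟨j, by rw [← h, hk]; ring⟩
  · exact ⟨j + 1, by rw [← h, hk]; ring⟩

end CfsgLib.JankoFour.Five
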