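import Cfsg.Agent.Lib.JankoFour.SylowFiveSeven

/-!
# The fixed space of an element of order five of the group 3.M22.2 on the twelve-dimensional space
-/

set_option autoImplicit false
set_option linter.unusedSectionVars false

namespace CfsgLib.JankoFour

open QuadraticMap
open CfsgLib.LargeFischer (CentData perpSub perpSub_card vadd_self eq_of_vadd q_add z2_cases q_zero polar_self_zero)

variable {V : Type*} [AddCommGroup V] [Module (ZMod 2) V] [Finite V]
  {K : Type*} [Group K] [Finite K] [DistribMulAction K V]

variable {q : QuadraticForm (ZMod 2) V} {n : K} {M : Subgroup K} {φ : ↥M →* ↥Cfsg.Spor.M22}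

namespace Core

variable (c : Core q n M φ)

include c

theorem n3 : n * (n * n) = 1 := by
  have h := pow_orderOf_eq_one n
  rwa [c.ordn, pow_succ', pow_two] at h

theorem smul_n3 (v : V) : n • n • n • v = v := by rw [smul_smul, smul_smul, mul_assoc, c.n3, one_smul]

theorem sum_n (v : V) : v + n • v + n • n • v = 0 := by
  refine c.nfix _ ?_
  rw [smul_add, smul_add, c.smul_n3]
  abel

theorem n_n_eq (v : V) : n • n • v = v + n • v := (eq_of_vadd (c.sum_n v)).symm

theorem smul_n_neq {v : V} (hv : v ≠ 0) : n • v ≠ v := fun e => hv (c.nfix v e)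

theorem polar_isom (k : K) (a b : V) : polar q (k • a) (k • b) = polar q a b := by
  simp only [polar, ← smul_add, c.isom]

theorem smul_ne0 {v : V} (hv : v ≠ 0) (k : K) : k • v ≠ 0 := fun e => hv (by
  have := congrArg (k⁻¹ • ·) e
  simpa using this)

theorem mem_M_of_odd {g : K} {j : ℕ} (hj : Odd j) (hg : g ^ j = 1) : g ∈ M := by
  have h2 : g ^ 2 ∈ M := by
    rw [pow_two]
    exact Subgroup.mul_self_mem_of_index_two c.indexM g
  obtain ⟨i, rfl⟩ := hj
  rw [pow_succ, pow_mul] at hg
  rw [eq_inv_of_mul_eq_one_right hg]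
  exact inv_mem (pow_mem h2 i)

theorem conj_outer {k : K} (hk : k ∉ M) : k * n = n * n * k := by
  have hne : k * n ≠ n * k := by
    intro h
    obtain ⟨k', hk'⟩ := c.outer
    by_cases hM : k' ∈ M
    · exact hk' (c.commute k' hM)
    have hm : k⁻¹ * k' ∈ M := by
      rw [Subgroup.mul_mem_iff_of_index_two c.indexM, inv_mem_iff]
      exact ⟨fun e => absurd e hk, fun e => absurd e hM⟩
    refine hk' ?_
    calc k' * n = k * ((k⁻¹ * k') * n) := by group
      _ = k * n * (k⁻¹ * k') := by rw [c.commute _ hm]; group
      _ = n * k' := by rw [h]; group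
  obtain ⟨i, hi⟩ := Subgroup.mem_zpowers_iff.1 (c.normal k)
  have hk3 : n ^ (3 : ℤ) = 1 := by
    have := pow_orderOf_eq_one n
    rw [c.ordn] at this
    exact_mod_cast this
  have hmod : n ^ i = n ^ (i % 3) := by
    conv_lhs => rw [← Int.emod_add_mul_ediv i 3, zpow_add, zpow_mul, hk3, one_zpow, mul_one]
  rw [hmod] at hi
  have h3 : i % 3 = 0 ∨ i % 3 = 1 ∨ i % 3 = 2 := by omega
  have hkn : k * n = (k * n * k⁻¹) * k := by group
  rw [← hi] at hkn
  rcases h3 with e | e | e <;> rw [e] at hkn
  · exfalso
    rw [zpow_zero, one_mul, mul_eq_left] at hkn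
    have := c.ordn
    rw [hkn, orderOf_one] at this
    omega
  · exact absurd (by rwa [zpow_one] at hkn) hne
  · rwa [zpow_two] at hkn

/-- The line of a vector of a totally singular line. -/
theorem q_line {u : V} (hu : q u = 0) : ∀ v ∈ ln n u, q v = 0 := by
  rintro v (rfl | rfl | rfl | rfl)
  · exact q_zero q
  · exact hu
  · rw [c.isom, hu]
  · rw [c.isom, c.isom, hu]

theorem polar_line {u : V} (hu : q u = 0) : polar q u (n • u) = 0 := by
  have h := q_add q u (n • u)
  rwa [← c.n_n_eq, c.isom, c.isom, hu, zero_add, zero_add, eq_comm] at h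

omit c in
/-- The line of a vector as an additive subgroup. -/
theorem mem_ln {u v : V} : v ∈ ln n u ↔ v = 0 ∨ v = u ∨ v = n • u ∨ v = n • n • u := Iff.rfl

theorem line_add {u a b : V} (ha : a ∈ ln n u) (hb : b ∈ ln n u) : a + b ∈ ln n u := by
  rw [mem_ln, c.n_n_eq] at ha hb ⊢
  have h1 : ∀ x y : V, x + (x + y) = y := fun x y => by rw [← add_assoc, vadd_self, zero_add]
  have h2 : ∀ x y : V, y + (x + y) = x := fun x y => by rw [add_comm x y, h1]
  have h3 : ∀ x y : V, x + y + x = y := fun x y => by rw [add_comm, h1]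
  have h4 : ∀ x y : V, x + y + y = x := fun x y => by rw [add_assoc, vadd_self, add_zero]
  rcases ha with rfl | rfl | rfl | rfl <;> rcases hb with rfl | rfl | rfl | rfl <;>
    first
      | (left; first | exact zero_add 0 | exact vadd_self _; done)
      | (right; left; first | exact zero_add _ | exact add_zero _ | exact h2 _ _ | exact h4 _ _; done)
      | (right; right; left; first | exact zero_add _ | exact add_zero _ | exact h1 _ _ | exact h3 _ _; done)
      | (right; right; right; first | exact zero_add _ | exact add_zero _ | exact rfl | exact add_comm _ _; done)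

theorem line_ncard {u : V} (hu : u ≠ 0) : (ln n u).ncard = 4 := by
  have h1 := c.smul_n_neq hu
  have h2 : n • u ≠ 0 := c.smul_ne0 hu n
  have h3 : n • n • u ≠ 0 := c.smul_ne0 h2 n
  have h4 : n • n • u ≠ n • u := fun e => h1 (MulAction.injective n e)
  have h5 : n • n • u ≠ u := fun e => h1 (by
    have h := congrArg (n • ·) e
    simp only [c.smul_n3] at h
    exact h.symm)
  rw [ln, Set.ncard_insert_of_notMem (by simp [Ne.symm h2, Ne.symm h3, hu.symm]) (Set.toFinite _),
    Set.ncard_insert_of_notMem (by simp [Ne.symm h1, Ne.symm h5]) (Set.toFinite _),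
    Set.ncard_pair (Ne.symm h4)]

/-- The centralising data of a vector contain its line once the elementary group has order at least sixteen in `M`. -/
theorem line_mem_D (hf : Facts q n M) {s : V} {E : Subgroup K} {D : AddSubgroup V} (hs : s ≠ 0)
    (h : CentData q s E D) (hqs : q s = 0) : n • s ∈ D := by
  classical
  by_contra hns
  have hD64 : Nat.card ↥D ≤ 64 := by
    have h1 := perpSub_card q c.nondeg D
    have hsub : D ≤ perpSub q D := fun d hd u hu => by
      rw [polar, h.sing _ (D.add_mem hd hu), h.sing _ hd, h.sing _ hu]; ring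
    have h2 := Nat.le_of_dvd Nat.card_pos (AddSubgroup.card_dvd_of_le hsub)
    rw [c.cardV] at h1
    norm_num at h1
    nlinarith
  haveI : M.Normal := Subgroup.normal_of_index_eq_two c.indexM
  have hrel : (E ⊓ M).relIndex E ≤ 2 := by
    have := Subgroup.relIndex_dvd_index_of_normal M E
    rw [c.indexM] at this
    rw [Subgroup.inf_relIndex_left]
    exact Nat.le_of_dvd (by norm_num) this
  have hA16 : 16 ≤ Nat.card ↥(E ⊓ M) := by
    have h1 := Subgroup.relIndex_mul_relIndex ⊥ (E ⊓ M) E bot_le inf_le_left
    simp only [Subgroup.relIndex_bot_left] at h1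
    have h2 := h.card
    norm_num at h2
    nlinarith
  -- an element of `D` fixed by `A`
  have hfixA : ∀ d ∈ D, (∀ a ∈ E ⊓ M, a • d = d) → ∀ d' ∈ D, (∀ a ∈ E ⊓ M, a • d' = d') →
      d ≠ 0 → d ≠ s → d' ≠ 0 → d' ≠ s → d' = d ∨ d' = d + s := by
    intro d hd hda d' hd' hda' hd0 hds hd0' hds'
    obtain ⟨e0, he0, he0M⟩ : ∃ e ∈ E, e ∉ M := by
      by_contra hall
      simp only [not_exists, not_and, not_not, not_or] at hall
      rcases h.fixD d hd fun e he => hda e ⟨he, hall e he⟩ with e | e
      exacts [hd0 e, hds e]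
    have hgen : ∀ x ∈ D, (∀ a ∈ E ⊓ M, a • x = x) → e0 • x = x → x = 0 ∨ x = s := by
      intro x hx hxa hxe
      refine h.fixD x hx fun e he => ?_
      by_cases heM : e ∈ M
      · exact hxa e ⟨he, heM⟩
      have hm : e0⁻¹ * e ∈ M := by
        rw [Subgroup.mul_mem_iff_of_index_two c.indexM, _root_.inv_mem_iff]
        exact ⟨fun a => absurd a he0M, fun a => absurd a heM⟩
      have := hxa _ ⟨E.mul_mem (E.inv_mem he0) he, hm⟩
      rw [mul_smul] at this
      calc e • x = e0 • (e0⁻¹ • e • x) := by simp
        _ = x := by rw [this, hxe]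
    have hmv : ∀ x ∈ D, (∀ a ∈ E ⊓ M, a • x = x) → x ≠ 0 → x ≠ s → e0 • x = x + s := fun x hx hxa h0 h1 =>
      (h.move e0 he0 x hx).resolve_left fun e => (hgen x hx hxa e).elim h0 h1
    rcases hgen (d + d') (D.add_mem hd hd') (fun a ha => by rw [smul_add, hda a ha, hda' a ha]) (by
      rw [smul_add, hmv d hd hda hd0 hds, hmv d' hd' hda' hd0' hds']
      calc d + s + (d' + s) = d + d' + (s + s) := by abel
        _ = d + d' := by rw [vadd_self, add_zero]) with e | e
    · exact .inl (eq_of_vadd e).symm
    · refine .inr ?_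
      calc d' = (d + d') + d := by rw [add_comm d, add_assoc, vadd_self, add_zero]
        _ = d + s := by rw [e, add_comm]
  -- `A` fixes the orthogonal space of the line
  have hperp : ∀ a ∈ E ⊓ M, ∀ v, polar q v s = 0 → polar q v (n • s) = 0 → a • v + v = 0 := by
    intro a ha v hv hv'
    have hcomm : ∀ x : V, a • n • x = n • a • x := fun x => by rw [smul_smul, c.commute a ha.2, mul_smul]
    set w := a • v + v with hw
    have hwD : w ∈ D := h.perp a ha.1 v hv
    have hwD' : n • n • w ∈ D := by
      have hp : polar q (n • n • v) s = 0 := by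
        rw [← c.polar_isom n, c.smul_n3]; exact hv'
      have := h.perp a ha.1 _ hp
      rwa [hcomm, hcomm, ← smul_add, ← smul_add] at this
    have hfw : ∀ b ∈ E ⊓ M, b • w = w := by
      intro b hb
      have hcb : ∀ x : V, b • n • x = n • b • x := fun x => by rw [smul_smul, c.commute b hb.2, mul_smul]
      rcases h.move b hb.1 w hwD with e | e
      · exact e
      exfalso
      rcases h.move b hb.1 _ hwD' with e' | e' <;> rw [hcb, hcb, e, smul_add, smul_add] at e'
      · exact c.smul_ne0 (c.smul_ne0 hs n) n (add_eq_left.1 e')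
      · have h2 : n • n • s = s := add_left_cancel e'
        exact c.smul_n_neq hs (by have := congrArg (n • ·) h2; simpa [c.smul_n3] using this.symm)
    have hfw' : ∀ b ∈ E ⊓ M, b • (n • n • w) = n • n • w := fun b hb => by
      have hcb : ∀ x : V, b • n • x = n • b • x := fun x => by rw [smul_smul, c.commute b hb.2, mul_smul]
      rw [hcb, hcb, hfw b hb]
    by_contra hw0
    have hsD := h.mem
    by_cases hws : w = s
    · rw [hws] at hwD'
      refine hns ?_
      have : n • s = s + n • n • s := eq_of_vadd (by rw [add_comm s, ← c.sum_n s]; abel)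
      rw [this]
      exact D.add_mem hsD hwD'
    by_cases hws' : n • n • w = s
    · refine hns ?_
      rw [← hws', c.smul_n3]
      exact hwD
    have hw0' : n • n • w ≠ 0 := c.smul_ne0 (c.smul_ne0 hw0 n) n
    rcases hfixA w hwD hfw _ hwD' hfw' hw0 hws hw0' hws' with e | e
    · exact c.smul_n_neq hw0 (by have := congrArg (n • ·) e; simpa [c.smul_n3] using this.symm)
    · have hnw : n • w = s := by
        rw [c.n_n_eq] at e
        exact add_left_cancel e
      refine hns ?_
      have : n • s = n • n • w := by rw [hnw]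
      rw [this]
      exact hwD'
  -- so `A` has at most four elements
  obtain ⟨v0, hv0⟩ : ∃ v, polar q v s ≠ 0 := by
    by_contra hc
    simp only [not_exists, not_not] at hc
    exact hs (c.nondeg s fun w => by rw [QuadraticMap.polar_comm]; exact hc w)
  have hne : s ≠ n • s := fun e => c.smul_n_neq hs e.symm
  have hcos : ∀ v : V, ∃ x ∈ ln n v0, polar q (v + x) s = 0 ∧ polar q (v + x) (n • s) = 0 := by
    intro v
    have hp : ∀ x, polar q (v + x) s = polar q v s + polar q x s ∧
        polar q (v + x) (n • s) = polar q v (n • s) + polar q x (n • s) := fun x =>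
      ⟨QuadraticMap.polar_add_left q _ _ _, QuadraticMap.polar_add_left q _ _ _⟩
    have e0 : polar q v0 s = 1 := (z2_cases _).resolve_left hv0
    have en : polar q (n • v0) (n • s) = 1 := (c.polar_isom _ _ _).trans e0
    have hsum : n • n • v0 = v0 + n • v0 := c.n_n_eq v0
    have e1 : polar q (n • n • v0) (n • s) = polar q (n • v0) s := c.polar_isom _ _ _
    rw [hsum, QuadraticMap.polar_add_left, en] at e1
    rcases z2_cases (polar q v s) with a | a <;> rcases z2_cases (polar q v (n • s)) with b | b <;>
      rcases z2_cases (polar q v0 (n • s)) with d | d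
    all_goals first
      | exact ⟨0, .inl rfl, by rw [add_zero]; exact a, by rw [add_zero]; exact b⟩
      | exact ⟨v0, .inr (.inl rfl), by rw [(hp _).1, a, e0]; decide, by rw [(hp _).2, b, d]; decide⟩
      | exact ⟨n • v0, .inr (.inr (.inl rfl)), by rw [(hp _).1, a, ← e1, d]; decide, by rw [(hp _).2, b, en]; decide⟩
      | exact ⟨n • n • v0, .inr (.inr (.inr rfl)), by
          rw [(hp _).1, a, hsum, QuadraticMap.polar_add_left, e0, ← e1, d]; decide, by
          rw [(hp _).2, b, hsum, QuadraticMap.polar_add_left, d, en]; decide⟩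
  have himg : ∀ a ∈ E ⊓ M, a • v0 + v0 ∈ ln n s := by
    intro a ha
    set d := a • v0 + v0 with hd
    have hfix : ∀ y, polar q y s = 0 → polar q y (n • s) = 0 → a • y = y := fun y h1 h2 => eq_of_vadd (hperp a ha y h1 h2)
    have horth : ∀ y, polar q y s = 0 → polar q y (n • s) = 0 → polar q y d = 0 := by
      intro y h1 h2
      have h3 := c.polar_isom a y v0
      rw [hfix y h1 h2] at h3
      rw [hd, QuadraticMap.polar_add_right, h3, vadd_self]
    -- the orthogonal space of that space is the line
    let L : AddSubgroup V :=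
      { carrier := ln n s
        zero_mem' := .inl rfl
        add_mem' := fun h1 h2 => c.line_add h1 h2
        neg_mem' := fun {x} h1 => by rwa [show -x = x from neg_eq_of_add_eq_zero_left (vadd_self x)] }
    have hmem : d ∈ perpSub q (perpSub q L) := by
      intro y hy
      rw [QuadraticMap.polar_comm]
      exact horth y (hy s (.inr (.inl rfl))) (hy _ (.inr (.inr (.inl rfl))))
    have h1 := perpSub_card q c.nondeg L
    have h2 := perpSub_card q c.nondeg (perpSub q L)
    have hle : (L : Set V) ⊆ (perpSub q (perpSub q L) : Set V) := fun x hx y hy => by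
      rw [QuadraticMap.polar_comm]; exact hy x hx
    have heq : Nat.card ↥(perpSub q (perpSub q L)) = Nat.card ↥L := by
      have hpos : 0 < Nat.card ↥(perpSub q L) := Nat.card_pos
      nlinarith
    have := Set.eq_of_subset_of_ncard_le hle (by
      rw [← Nat.card_coe_set_eq, ← Nat.card_coe_set_eq]; exact heq.le) (Set.toFinite _)
    show d ∈ (L : Set V)
    rw [this]
    exact hmem
  have hinj : Function.Injective fun a : ↥(E ⊓ M) => (⟨(a : K) • v0 + v0, himg a a.2⟩ : ↥(ln n s)) := by
    intro a b e
    have e1 : (a : K) • v0 = (b : K) • v0 := add_right_cancel (congrArg Subtype.val e)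
    refine Subtype.ext (inv_mul_eq_one.1 (c.faithful _ fun v => ?_)).symm
    set g := (b : K)⁻¹ * a with hg
    have hgA : g ∈ E ⊓ M := mul_mem (inv_mem b.2) a.2
    obtain ⟨x, hx, h1, h2⟩ := hcos v
    have hfy : g • (v + x) = v + x := eq_of_vadd (hperp g hgA _ h1 h2)
    have hgv0 : g • v0 = v0 := by rw [hg, mul_smul, e1, inv_smul_smul]
    have hgn : ∀ y : V, g • n • y = n • g • y := fun y => by rw [smul_smul, c.commute g hgA.2, mul_smul]
    have hgx : g • x = x := by
      rcases hx with rfl | rfl | rfl | rfl
      · exact smul_zero g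
      · exact hgv0
      · rw [hgn, hgv0]
      · rw [hgn, hgn, hgv0]
    rw [smul_add, hgx] at hfy
    exact add_right_cancel hfy
  have hle4 := Nat.card_le_card_of_injective _ hinj
  rw [Nat.card_coe_set_eq, c.line_ncard hs] at hle4
  omega

section Five

variable (hF : FiveFacts q n M) {f : K} (hf5 : orderOf f = 5)

include hf5

theorem five_mem : f ∈ M := c.mem_M_of_odd (j := 5) (by decide) (hf5 ▸ pow_orderOf_eq_one f)

theorem five_comm : n * f = f * n := (c.commute f (c.five_mem hf5)).symm

theorem fix_n {v : V} (hv : f • v = v) : f • n • v = n • v := by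
  rw [smul_smul, ← c.five_comm hf5, mul_smul, hv]

theorem fix_ln {u : V} (hu : f • u = u) : ∀ v ∈ ln n u, f • v = v := by
  rintro v (rfl | rfl | rfl | rfl)
  exacts [smul_zero f, hu, c.fix_n hf5 hu, c.fix_n hf5 (c.fix_n hf5 hu)]

theorem fix_nondeg {w : V} (hw : f • w = w) (h : ∀ v, f • v = v → polar q w v = 0) : w = 0 := by
  refine c.nondeg w fun v => ?_
  have h5 : f • f • f • f • f • v = v := by
    rw [smul_smul, smul_smul, smul_smul, smul_smul]
    have := pow_orderOf_eq_one f
    rw [hf5] at this
    rw [show f * f * f * f * f = f ^ 5 by simp only [pow_succ, pow_zero, one_mul], this, one_smul]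
  have h1 := h (v + f • v + f • f • v + f • f • f • v + f • f • f • f • v) (by
    simp only [smul_add, h5]; abel)
  have hp : ∀ x, polar q w (f • x) = polar q w x := fun x => by
    conv_lhs => rw [← hw]
    exact c.polar_isom _ _ _
  simp only [QuadraticMap.polar_add_right, hp] at h1
  rcases z2_cases (polar q w v) with e | e
  · exact e
  · rw [e] at h1; exact absurd h1 (by decide)

include hF

/-- Inside the fixed space the orthogonal space of the line is the line. -/
theorem perp_line {u : V} (hu : f • u = u) (hu0 : u ≠ 0) (hqu : q u = 0) {v : V} (hv : f • v = v)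
    (h1 : polar q v u = 0) (h2 : polar q v (n • u) = 0) : v ∈ ln n u := by
  classical
  let W : AddSubgroup V :=
    { carrier := {v | f • v = v}
      zero_mem' := smul_zero f
      add_mem' := fun {a b} ha hb => by show f • (a + b) = a + b; rw [smul_add, ha, hb]
      neg_mem' := fun {a} ha => by show f • -a = -a; rw [smul_neg, ha] }
  let θ : ↥W →+ ZMod 2 × ZMod 2 := AddMonoidHom.mk' (fun w => (polar q (w : V) u, polar q (w : V) (n • u))) fun a b => by
    simp [QuadraticMap.polar_add_left]
  have hsurj : Function.Surjective θ := by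
    have hex : ∀ x : V, f • x = x → x ≠ 0 → ∃ w : V, f • w = w ∧ polar q w x = 1 := by
      intro x hx hx0
      by_contra hc
      simp only [not_exists, not_and, not_not, not_or] at hc
      exact hx0 (c.fix_nondeg hf5 hx fun w hw => by
        rw [QuadraticMap.polar_comm]
        exact (z2_cases _).resolve_right (hc w hw))
    intro p
    have hnu := c.fix_n hf5 hu
    obtain ⟨a, ha, ea⟩ := hex u hu hu0
    obtain ⟨b, hb, eb⟩ := hex (n • u) hnu (c.smul_ne0 hu0 n)
    have hsum : u + n • u ≠ 0 := fun e => c.smul_n_neq hu0 (eq_of_vadd e).symm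
    obtain ⟨d, hd, ed⟩ := hex (u + n • u) (by rw [smul_add, hu, hnu]) hsum
    rw [QuadraticMap.polar_add_right] at ed
    have hab : f • (a + b) = a + b := by rw [smul_add, ha, hb]
    have had : f • (a + d) = a + d := by rw [smul_add, ha, hd]
    have hbd : f • (b + d) = b + d := by rw [smul_add, hb, hd]
    obtain ⟨p1, p2⟩ := p
    rcases z2_cases (polar q a (n • u)) with a2 | a2 <;> rcases z2_cases (polar q b u) with b1 | b1 <;>
      rcases z2_cases (polar q d u) with d1 | d1 <;> rcases z2_cases (polar q d (n • u)) with d2 | d2 <;>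
      rw [d1, d2] at ed
    all_goals first
      | exact absurd ed (by decide)
      | (rcases z2_cases p1 with rfl | rfl <;> rcases z2_cases p2 with rfl | rfl
         all_goals first
          | exact ⟨0, map_zero θ⟩
          | exact ⟨⟨a, ha⟩, Prod.ext ea a2⟩
          | exact ⟨⟨b, hb⟩, Prod.ext b1 eb⟩
          | exact ⟨⟨d, hd⟩, Prod.ext d1 d2⟩
          | (refine ⟨⟨a + b, hab⟩, ?_⟩; simp [θ, QuadraticMap.polar_add_left, ea, eb, a2, b1, show (1 : ZMod 2) + 1 = 0 from rfl]; done)
          | (refine ⟨⟨a + d, had⟩, ?_⟩; simp [θ, QuadraticMap.polar_add_left, ea, a2, d1, d2, show (1 : ZMod 2) + 1 = 0 from rfl]; done)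
          | (refine ⟨⟨b + d, hbd⟩, ?_⟩; simp [θ, QuadraticMap.polar_add_left, eb, b1, d1, d2, show (1 : ZMod 2) + 1 = 0 from rfl]; done))
  have hW : Nat.card ↥W = 16 := (Nat.card_coe_set_eq _).trans (hF.fixed f hf5)
  have hker : Nat.card ↥θ.ker = 4 := by
    have h := θ.ker.card_mul_index
    rw [AddSubgroup.index_ker, AddMonoidHom.range_eq_top.2 hsurj, AddSubgroup.card_top, hW, Nat.card_prod,
      Nat.card_zmod] at h
    omega
  have hsub : ln n u ⊆ Subtype.val '' (θ.ker : Set ↥W) := by
    intro x hx
    refine ⟨⟨x, c.fix_ln hf5 hu x hx⟩, ?_, rfl⟩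
    have e1 := c.polar_line hqu
    have e2 : ∀ y, polar q (n • y) (n • u) = polar q y u := fun y => c.polar_isom n y u
    show θ _ = 0
    refine Prod.ext ?_ ?_
    · show polar q x u = 0
      rcases hx with rfl | rfl | rfl | rfl
      · exact QuadraticMap.polar_zero_left q u
      · exact polar_self_zero q _
      · rw [QuadraticMap.polar_comm]; exact e1
      · rw [c.n_n_eq, QuadraticMap.polar_add_left, polar_self_zero, QuadraticMap.polar_comm, e1, add_zero]
    · show polar q x (n • u) = 0
      rcases hx with rfl | rfl | rfl | rfl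
      · exact QuadraticMap.polar_zero_left q _
      · exact e1
      · exact polar_self_zero q _
      · rw [e2, QuadraticMap.polar_comm]; exact e1
  have heq := Set.eq_of_subset_of_ncard_le hsub (by
    rw [Set.ncard_image_of_injective _ Subtype.val_injective, ← Nat.card_coe_set_eq, SetLike.coe_sort_coe, hker,
      c.line_ncard hu0]) (Set.toFinite _)
  rw [heq]
  exact ⟨⟨v, hv⟩, Prod.ext h1 h2, rfl⟩

theorem cent_M_card : Nat.card ↥(Subgroup.centralizer ({f} : Set K) ⊓ M) = 15 := by
  haveI : M.Normal := Subgroup.normal_of_index_eq_two c.indexM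
  obtain ⟨k, hk, hkM, -⟩ := hF.outer f hf5
  have hle := Subgroup.relIndex_dvd_index_of_normal M (Subgroup.centralizer ({f} : Set K))
  rw [c.indexM] at hle
  have hne : M.relIndex (Subgroup.centralizer ({f} : Set K)) ≠ 1 := fun e =>
    hkM (Subgroup.relIndex_eq_one.1 e (Subgroup.mem_centralizer_singleton_iff.2 hk))
  have h2 : M.relIndex (Subgroup.centralizer ({f} : Set K)) = 2 :=
    ((Nat.dvd_prime Nat.prime_two).1 hle).resolve_left hne
  have h1 := Subgroup.relIndex_mul_relIndex ⊥ (Subgroup.centralizer ({f} : Set K) ⊓ M) _ bot_le inf_le_left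
  simp only [Subgroup.relIndex_bot_left, Subgroup.inf_relIndex_left, hF.cent f hf5, h2] at h1
  omega

theorem cent_M_eq : Subgroup.centralizer ({f} : Set K) ⊓ M = Subgroup.zpowers (n * f) := by
  have hc : Commute n f := c.five_comm hf5
  have ho : orderOf (n * f) = 15 := by
    rw [hc.orderOf_mul_eq_mul_orderOf_of_coprime (by rw [c.ordn, hf5]; norm_num), c.ordn, hf5]
  symm
  refine Subgroup.eq_of_le_of_card_ge (Subgroup.zpowers_le.2 ⟨?_, mul_mem c.nM (c.five_mem hf5)⟩) ?_
  · exact Subgroup.mem_centralizer_singleton_iff.2 (hc.mul_left (Commute.refl f)).eq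
  · rw [c.cent_M_card hF hf5, Nat.card_zpowers, ho]

/-- An element centralising `f` and the line is a power of `f`. -/
theorem cent_fix_line {u : V} (hu : f • u = u) (hu0 : u ≠ 0) {k : K} (hk : k * f = f * k)
    (h1 : k • u = u) (h2 : k • n • u = n • u) : k ∈ Subgroup.zpowers f := by
  have hkM : k ∈ M := by
    by_contra hM
    rw [smul_smul, c.conj_outer hM, mul_smul, h1, mul_smul] at h2
    exact c.smul_n_neq (c.smul_ne0 hu0 n) h2
  have hm : k ∈ Subgroup.centralizer ({f} : Set K) ⊓ M := ⟨Subgroup.mem_centralizer_singleton_iff.2 hk, hkM⟩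
  rw [c.cent_M_eq hF hf5, Subgroup.mem_zpowers_iff] at hm
  obtain ⟨i, rfl⟩ := hm
  have hc : Commute n f := c.five_comm hf5
  rw [hc.mul_zpow, mul_smul] at h1
  have hfi : f ^ i • u = u := MulAction.mem_stabilizer_iff.1 (zpow_mem (MulAction.mem_stabilizer_iff.2 hu) i)
  rw [hfi] at h1
  have h3 : n ^ i = 1 := by
    have hk3 : n ^ (3 : ℤ) = 1 := by
      have := pow_orderOf_eq_one n
      rw [c.ordn] at this
      exact_mod_cast this
    have hmod : n ^ i = n ^ (i % 3) := by
      conv_lhs => rw [← Int.emod_add_mul_ediv i 3, zpow_add, zpow_mul, hk3, one_zpow, mul_one]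
    rw [hmod] at h1 ⊢
    have h3 : i % 3 = 0 ∨ i % 3 = 1 ∨ i % 3 = 2 := by omega
    rcases h3 with e | e | e <;> rw [e] at h1 ⊢
    · exact zpow_zero n
    · rw [zpow_one] at h1
      exact absurd h1 (c.smul_n_neq hu0)
    · rw [zpow_two, mul_smul] at h1
      exact absurd ((congrArg (n • ·) h1).symm.trans (c.smul_n3 u)) (c.smul_n_neq hu0)
  rw [hc.mul_zpow, h3, one_mul]
  exact zpow_mem (Subgroup.mem_zpowers f) i

/-- Any two fixed vectors off the line agree modulo the line up to a power of `n`. -/
theorem off_line {u : V} (hu : f • u = u) (hu0 : u ≠ 0) {a b : V} (ha : f • a = a) (hal : a ∉ ln n u)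
    (hb : f • b = b) (hbl : b ∉ ln n u) :
    b + a ∈ ln n u ∨ b + n • a ∈ ln n u ∨ b + n • n • a ∈ ln n u := by
  by_contra hc
  simp only [not_exists, not_and, not_not, not_or] at hc
  classical
  have hnl : ∀ x, x ∉ ln n u → n • x ∉ ln n u := by
    intro x hx hm
    apply hx
    rw [mem_ln] at hm ⊢
    rcases hm with e | e | e | e
    · exact .inl (by have := congrArg (fun y => n • n • y) e; simpa [c.smul_n3] using this)
    · exact .inr (.inr (.inr (by rw [← e, c.smul_n3])))
    · exact .inr (.inl (MulAction.injective n e))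
    · exact .inr (.inr (.inl (MulAction.injective n e)))
  -- five different cosets of the line in a space of sixteen
  let rep : Fin 5 → V := ![0, a, n • a, n • n • a, b]
  have hsum : ∀ x y : V, x + y ∈ ln n u → x ∈ ln n u → y ∈ ln n u := fun x y h h' => by
    have := c.line_add h' h
    rwa [← add_assoc, vadd_self, zero_add] at this
  have ha1 := hnl a hal
  have ha2 := hnl _ ha1
  have hne : ∀ i j : Fin 5, rep i + rep j ∈ ln n u → i = j := by
    have d01 : a + n • a ∉ ln n u := by rw [← c.n_n_eq]; exact ha2
    have d02 : a + n • n • a ∉ ln n u := by rw [c.n_n_eq, ← add_assoc, vadd_self, zero_add]; exact ha1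
    have d12 : n • a + n • n • a ∉ ln n u := by
      rw [c.n_n_eq, ← add_assoc, add_comm (n • a) a, add_assoc, vadd_self, add_zero]; exact hal
    intro i j hij
    fin_cases i <;> fin_cases j <;> simp only [rep, Matrix.cons_val] at hij <;>
      first
        | rfl
        | (exfalso
           first
            | exact hal (by simpa using hij)
            | exact ha1 (by simpa using hij)
            | exact ha2 (by simpa using hij)
            | exact hbl (by simpa using hij)
            | exact d01 hij
            | exact d02 hij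
            | exact d12 hij
            | exact d01 (by rwa [add_comm] at hij)
            | exact d02 (by rwa [add_comm] at hij)
            | exact d12 (by rwa [add_comm] at hij)
            | exact hc.1 hij
            | exact hc.2.1 hij
            | exact hc.2.2 hij
            | exact hc.1 (by rwa [add_comm] at hij)
            | exact hc.2.1 (by rwa [add_comm] at hij)
            | exact hc.2.2 (by rwa [add_comm] at hij))
  have hrep : ∀ i, f • rep i = rep i := by
    intro i
    fin_cases i
    exacts [smul_zero f, ha, c.fix_n hf5 ha, c.fix_n hf5 (c.fix_n hf5 ha), hb]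
  let g : Fin 5 × ↥(ln n u) → ↥({v : V | f • v = v}) := fun p => ⟨rep p.1 + (p.2 : V), by
    show f • _ = _
    rw [smul_add, hrep, c.fix_ln hf5 hu _ p.2.2]⟩
  have hg : Function.Injective g := by
    rintro ⟨i, x⟩ ⟨j, y⟩ e
    have e' : rep i + (x : V) = rep j + (y : V) := congrArg Subtype.val e
    have hij : rep i + rep j = (x : V) + y := by
      have h1 : rep i = rep j + y + x := by
        rw [← e', add_assoc, vadd_self, add_zero]
      calc rep i + rep j = (rep j + rep j) + ((y : V) + x) := by rw [h1]; abel
        _ = x + y := by rw [vadd_self, zero_add, add_comm]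
    obtain rfl := hne i j (hij ▸ c.line_add x.2 y.2)
    exact Prod.ext rfl (Subtype.ext (add_left_cancel e'))
  have := Nat.card_le_card_of_injective g hg
  rw [Nat.card_prod, Nat.card_fin, Nat.card_coe_set_eq, Nat.card_coe_set_eq, hF.fixed f hf5, c.line_ncard hu0] at this
  omega

omit hF hf5 in
theorem outer_image {k : K} (hk : k ∉ M) {w : V} (hw : k • w = w) : k • n • w + n • w = w := by
  rw [smul_smul, c.conj_outer hk, mul_smul, hw, mul_smul, c.n_n_eq, add_assoc, vadd_self, add_zero]

end Five

end Core

end CfsgLib.JankoFour
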