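import Cfsg.Agent.Lib.JankoFour.FiveLine
import Cfsg.Agent.Lib.JankoFour.Big

/-!
# An element of order five of the centraliser and the normalised subgroup of order eight
-/

set_option autoImplicit false
set_option linter.unusedSectionVars false
set_option linter.style.haveILetI false

namespace CfsgLib.JankoFour.Five

open Subgroup QuadraticMap CfsgLib.LargeExtra
open CfsgLib.LargeFischer (CentData vadd_self eq_of_vadd q_add z2_cases)

variable {G : Type*} [Group G] [Finite G]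

/-- The setting: the model, an element of order five and the vector of its line. -/
structure Ctx {z : G} (Q : Subgroup (centralizer ({z} : Set G))) [Q.Normal] {V : Type*} [AddCommGroup V]
    [Module (ZMod 2) V] [DistribMulAction ((centralizer ({z} : Set G)) ⧸ Q) V] [Finite V]
    (q : QuadraticForm (ZMod 2) V) (π : ↥Q → V) (n : (centralizer ({z} : Set G)) ⧸ Q)
    (M : Subgroup ((centralizer ({z} : Set G)) ⧸ Q)) (φ : ↥M →* ↥Cfsg.Spor.M22)
    (f : centralizer ({z} : Set G)) (u : V) : Prop where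
  mdl : Model z Q q π n M φ
  facts : FiveFacts q n M
  ord : orderOf f = 5
  fixu : (QuotientGroup.mk f : (centralizer ({z} : Set G)) ⧸ Q) • u = u
  u0 : u ≠ 0
  qu : q u = 0
  orb : (MulAction.orbit ((centralizer ({z} : Set G)) ⧸ Q) u).ncard = 693
  uniq : ∀ v : V, (QuotientGroup.mk f : (centralizer ({z} : Set G)) ⧸ Q) • v = v → v ≠ 0 → q v = 0 →
    (MulAction.orbit ((centralizer ({z} : Set G)) ⧸ Q) v).ncard = 693 → v ∈ ln n u

variable {z : G} {Q : Subgroup (centralizer ({z} : Set G))} [Q.Normal]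
  {V : Type*} [AddCommGroup V] [Module (ZMod 2) V] [DistribMulAction ((centralizer ({z} : Set G)) ⧸ Q) V] [Finite V]
  {q : QuadraticForm (ZMod 2) V} {π : ↥Q → V} {n : (centralizer ({z} : Set G)) ⧸ Q}
  {M : Subgroup ((centralizer ({z} : Set G)) ⧸ Q)} {φ : ↥M →* ↥Cfsg.Spor.M22}
  {f : centralizer ({z} : Set G)} {u : V}

set_option quotPrecheck false in
local notation "Hz" => centralizer ({z} : Set G)
set_option quotPrecheck false in
local notation "K" => (centralizer ({z} : Set G)) ⧸ Q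
set_option quotPrecheck false in
local notation "QG" => Q.map (centralizer ({z} : Set G)).subtype

/-- The centraliser of the element of order five. -/
abbrev cX (f : centralizer ({z} : Set G)) : Subgroup G := centralizer ({(f : G)} : Set G)

/-- The normaliser of the group it generates. -/
abbrev nX (f : centralizer ({z} : Set G)) : Subgroup G := normalizer (zpowers (f : G) : Set G)

theorem mem_cX {f : centralizer ({z} : Set G)} {x : G} : x ∈ cX f ↔ x * (f : G) = (f : G) * x :=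
  mem_centralizer_singleton_iff

theorem exists_ctx (m : Model z Q q π n M φ) (hF : FiveFacts q n M) (hf : orderOf f = 5) :
    ∃ u, Ctx Q q π n M φ f u := by
  obtain ⟨e, he⟩ := m.exists_class
  have hk : orderOf (QuotientGroup.mk f : K) = 5 := by
    haveI : Fact (Nat.Prime 5) := ⟨by norm_num⟩
    refine orderOf_eq_prime (by rw [← QuotientGroup.mk_pow, ← hf, pow_orderOf_eq_one]; rfl) fun e => ?_
    have hfQ := (QuotientGroup.eq_one_iff f).1 e
    have h1 := Q.orderOf_dvd_natCard hfQ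
    rw [hf, m.cardQ] at h1
    norm_num at h1
  obtain ⟨u, h1, h2, h3, h4, h5⟩ := hF.line _ hk
  exact ⟨u, m, hF, hf, h1, h2, h3, h4, h5⟩

namespace Ctx

variable (c : Ctx Q q π n M φ f u)

include c

theorem f_five : (f : G) ^ 5 = 1 := by
  have := congrArg Subtype.val (pow_orderOf_eq_one f)
  rwa [c.ord, SubmonoidClass.coe_pow] at this

theorem ordG : orderOf (f : G) = 5 := by rw [Subgroup.orderOf_coe, c.ord]

theorem cardF : Nat.card ↥(zpowers (f : G)) = 5 := by rw [Nat.card_zpowers, c.ordG]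

theorem Q_order {x : centralizer ({z} : Set G)} (hx : x ∈ Q) : x ^ 2 ^ 13 = 1 := by
  have h := congrArg Subtype.val (pow_card_eq_one' (G := ↥Q) (x := ⟨x, hx⟩))
  rw [c.mdl.cardQ] at h
  exact h

/-- An element of the core inside the group of order five is trivial. -/
theorem inf_trivial {x : centralizer ({z} : Set G)} (hx : x ∈ Q) (hxF : (x : G) ∈ zpowers (f : G)) : x = 1 := by
  have h1 : (x : G) ^ 2 ^ 13 = 1 := by rw [← SubmonoidClass.coe_pow, c.Q_order hx]; rfl
  obtain ⟨i, hi⟩ := mem_zpowers_iff.1 hxF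
  have h5 : (x : G) ^ 5 = 1 := by rw [← hi, ← zpow_natCast, ← zpow_mul, mul_comm, zpow_mul, zpow_natCast, c.f_five, one_zpow]
  have := Nat.dvd_gcd (orderOf_dvd_of_pow_eq_one h1) (orderOf_dvd_of_pow_eq_one h5)
  rw [show Nat.gcd (2 ^ 13) 5 = 1 from rfl, Nat.dvd_one, orderOf_eq_one_iff] at this
  exact Subtype.ext this

theorem ordK : orderOf (QuotientGroup.mk f : K) = 5 := by
  haveI : Fact (Nat.Prime 5) := ⟨by norm_num⟩
  refine orderOf_eq_prime (by rw [← QuotientGroup.mk_pow, ← c.ord, pow_orderOf_eq_one]; rfl) fun e => ?_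
  have hfQ := c.inf_trivial ((QuotientGroup.eq_one_iff f).1 e) (mem_zpowers _)
  have := c.ord
  rw [hfQ, orderOf_one] at this
  omega

/-- Fixed vectors are the images of elements commuting with `f`. -/
theorem fix_iff (x : ↥Q) :
    (QuotientGroup.mk f : K) • π x = π x ↔ ((x : Hz) : G) ∈ cX f := by
  rw [mem_cX]
  constructor
  · intro h
    obtain ⟨zQ, hzQ, -, hzz, hzc, -⟩ := c.mdl.exists_zQ
    rcases c.mdl.conj_cases hzQ h with e | e
    · have := congrArg Subtype.val (mul_inv_eq_iff_eq_mul.1 e)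
      simpa using this.symm
    exfalso
    have hpow : ∀ i : ℕ, f ^ i * (x : Hz) * (f ^ i)⁻¹ = (x : Hz) * (zQ : Hz) ^ i := by
      intro i
      induction i with
      | zero => simp
      | succ i ih =>
        calc f ^ (i + 1) * (x : Hz) * (f ^ (i + 1))⁻¹ = f * (f ^ i * (x : Hz) * (f ^ i)⁻¹) * f⁻¹ := by
              rw [pow_succ']; group
          _ = f * (x : Hz) * f⁻¹ * (f * (zQ : Hz) ^ i * f⁻¹) := by rw [ih]; group
          _ = (x : Hz) * (zQ : Hz) * (zQ : Hz) ^ i := by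
              rw [e, ((show Commute f (zQ : Hz) from hzc f).pow_right i).eq, mul_inv_cancel_right]
          _ = (x : Hz) * (zQ : Hz) ^ (i + 1) := by rw [mul_assoc, ← pow_succ']
    have h5 := hpow 5
    rw [show f ^ 5 = 1 by rw [← c.ord, pow_orderOf_eq_one], one_mul, inv_one, mul_one, left_eq_mul] at h5
    have hz2 : (zQ : Hz) ^ 2 = 1 := by rw [pow_two, ← Subgroup.coe_mul, hzz]; rfl
    rw [pow_succ, show 4 = 2 * 2 from rfl, pow_mul, hz2, one_pow, one_mul] at h5
    have := c.mdl.ordz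
    rw [← hzQ, h5, OneMemClass.coe_one, orderOf_one] at this
    omega
  · intro h
    exact c.mdl.fixed_of_comm (Subtype.ext h.symm)

theorem z_mem_Q : z ∈ QG := by
  obtain ⟨zQ, hzQ, -⟩ := c.mdl.exists_zQ
  exact ⟨zQ, zQ.2, hzQ⟩

theorem zz : z * z = 1 := by rw [← pow_two, ← c.mdl.ordz, pow_orderOf_eq_one]

theorem z_cX : z ∈ cX f := mem_cX.2 (mem_centralizer_singleton_iff.1 f.2).symm

theorem ln_fixed : ∀ v ∈ ln n u, (QuotientGroup.mk f : K) • v = v := c.mdl.core.fix_ln c.ordK c.fixu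

/-- The elements of the core commuting with `f`. -/
def qX (c : Ctx Q q π n M φ f u) : Subgroup ↥Q :=
  have _ := c
  (cX f).comap ((centralizer ({z} : Set G)).subtype.comp Q.subtype)

theorem card_qX : Nat.card ↥c.qX = 32 := by
  obtain ⟨zQ, hzQ, -⟩ := c.mdl.exists_zQ
  obtain ⟨W, hW, -, heq⟩ := c.mdl.card_fibre hzQ c.qX
  have hz : zQ ∈ c.qX := by
    show ((zQ : Hz) : G) ∈ cX f
    rw [hzQ]; exact c.z_cX
  rw [heq hz]
  have : (W : Set V) = {v | (QuotientGroup.mk f : K) • v = v} := by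
    ext v
    rw [SetLike.mem_coe, hW]
    constructor
    · rintro ⟨x, hx, rfl⟩
      exact (c.fix_iff x).2 hx
    · intro hv
      obtain ⟨x, rfl⟩ := c.mdl.surj v
      exact ⟨x, (c.fix_iff x).1 hv, rfl⟩
  rw [show Nat.card ↥W = (W : Set V).ncard from Nat.card_coe_set_eq _, this, c.facts.fixed _ c.ordK]

/-- Normalisers lift. -/
theorem exists_lift {k : K} (hk : k ∈ normalizer (zpowers (QuotientGroup.mk f : K) : Set K)) :
    ∃ w : Hz, (QuotientGroup.mk w : K) = k ∧ (w : G) ∈ nX f := by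
  haveI : Fact (Nat.Prime 5) := ⟨by norm_num⟩
  obtain ⟨w, rfl⟩ := QuotientGroup.mk_surjective k
  set L : Subgroup Hz := (zpowers (QuotientGroup.mk f : K)).comap (QuotientGroup.mk' Q) with hL
  have hfL : f ∈ L := mem_zpowers _
  have hwL : w * f * w⁻¹ ∈ L := by
    show QuotientGroup.mk (w * f * w⁻¹) ∈ zpowers (QuotientGroup.mk f : K)
    exact (mem_normalizer_iff.1 hk _).1 (mem_zpowers _)
  have hcard : Nat.card ↥L = 5 * 2 ^ 13 := by
    have hQL : Q ≤ L := fun x hx => by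
      show QuotientGroup.mk x ∈ zpowers (QuotientGroup.mk f : K)
      rw [(QuotientGroup.eq_one_iff x).2 hx]; exact one_mem _
    have h := (Q.subgroupOf L).card_mul_index
    rw [Nat.card_congr (subgroupOfEquivOfLe hQL).toEquiv, c.mdl.cardQ] at h
    have hi : (Q.subgroupOf L).index = 5 := by
      let g : ↥L →* K := (QuotientGroup.mk' Q).comp L.subtype
      have hg : g.ker = Q.subgroupOf L := by
        ext x
        exact QuotientGroup.eq_one_iff _
      rw [← hg, Subgroup.index_ker, MonoidHom.range_comp, Subgroup.range_subtype, hL,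
        Subgroup.map_comap_eq_self_of_surjective (QuotientGroup.mk'_surjective Q), Nat.card_zpowers, c.ordK]
    rw [hi] at h
    omega
  have hfac : (Nat.card ↥L).factorization 5 = 1 := by
    rw [hcard, Nat.factorization_mul (by norm_num) (by norm_num), Finsupp.add_apply,
      Nat.factorization_eq_zero_of_not_dvd (n := 2 ^ 13) (by norm_num), add_zero,
      Nat.Prime.factorization_self (by norm_num)]
  have mk : ∀ x : ↥L, orderOf x = 5 → ∃ P : Sylow 5 ↥L, (P : Subgroup ↥L) = zpowers x := fun x hx =>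
    ⟨Sylow.ofCard (zpowers x) (by rw [Nat.card_zpowers, hx, hfac, pow_one]), rfl⟩
  obtain ⟨P, hP⟩ := mk ⟨f, hfL⟩ (by rw [Subgroup.orderOf_mk, c.ord])
  obtain ⟨R, hR⟩ := mk ⟨w * f * w⁻¹, hwL⟩ (by
    rw [Subgroup.orderOf_mk]
    exact (orderOf_injective (MulAut.conj w).toMonoidHom (MulAut.conj w).injective f).trans c.ord)
  obtain ⟨l, hl⟩ := MulAction.exists_smul_eq ↥L R P
  have hm : l * ⟨w * f * w⁻¹, hwL⟩ * l⁻¹ ∈ zpowers (⟨f, hfL⟩ : ↥L) := by
    rw [← hP, ← hl, Sylow.coe_subgroup_smul]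
    exact Subgroup.smul_mem_pointwise_smul _ (MulAut.conj l) _ (hR.symm ▸ mem_zpowers _)
  obtain ⟨j, hj⟩ := mem_zpowers_iff.1 hm
  obtain ⟨i, hi⟩ := mem_zpowers_iff.1 (l.2 : QuotientGroup.mk (l : Hz) ∈ zpowers (QuotientGroup.mk f : K))
  set w' : Hz := f ^ (-i) * (l : Hz) * w with hw'
  have hw'K : (QuotientGroup.mk w' : K) = QuotientGroup.mk w := by
    have hi'' : (QuotientGroup.mk f : K) ^ i = QuotientGroup.mk (l : Hz) := hi
    rw [hw', QuotientGroup.mk_mul, QuotientGroup.mk_mul, QuotientGroup.mk_zpow, ← hi'', ← zpow_add, neg_add_cancel,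
      zpow_zero, one_mul]
  have hj' : (f : G) ^ j = ((l : Hz) : G) * ((w : G) * (f : G) * (w : G)⁻¹) * ((l : Hz) : G)⁻¹ := by
    have := congrArg (fun x : ↥L => ((x : Hz) : G)) hj
    simpa using this
  refine ⟨w', hw'K, ?_⟩
  have hconj : (w' : G) * (f : G) * (w' : G)⁻¹ = (f : G) ^ j := by
    have h1 : ((f : G) ^ i)⁻¹ * (f : G) ^ j * (f : G) ^ i = (f : G) ^ j := by group
    calc (w' : G) * (f : G) * (w' : G)⁻¹
        = ((f : G) ^ i)⁻¹ * (((l : Hz) : G) * ((w : G) * (f : G) * (w : G)⁻¹) * ((l : Hz) : G)⁻¹) * (f : G) ^ i := by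
          have hw'G : (w' : G) = ((f : G) ^ i)⁻¹ * ((l : Hz) : G) * (w : G) := by simp [hw']
          rw [hw'G]; group
      _ = (f : G) ^ j := by rw [← hj', h1]
  have hmap : (zpowers (f : G)).map (MulAut.conj (w' : G)).toMonoidHom = zpowers (f : G) := by
    rw [MonoidHom.map_zpowers, MulEquiv.coe_toMonoidHom, MulAut.conj_apply, hconj]
    refine eq_of_le_of_card_ge (zpowers_le.2 (zpow_mem (mem_zpowers _) j)) (le_of_eq ?_)
    rw [Nat.card_zpowers, Nat.card_zpowers, ← hconj]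
    exact (orderOf_injective (MulAut.conj (w' : G)).toMonoidHom (MulAut.conj (w' : G)).injective (f : G)).symm
  rw [mem_normalizer_iff]
  intro x
  constructor
  · intro hx; rw [← hmap]; exact ⟨x, hx, by simp⟩
  · intro hx
    rw [← hmap] at hx
    obtain ⟨y, hy, e⟩ := hx
    rwa [← (MulAut.conj (w' : G)).injective (e.trans (MulAut.conj_apply _ _).symm)]

/-- An element of the centraliser normalising the group of order five, up to the image. -/
theorem mem_cX_of_image {w : Hz} (hw : (w : G) ∈ nX f)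
    (hk : (QuotientGroup.mk w : K) * QuotientGroup.mk f = QuotientGroup.mk f * QuotientGroup.mk w) :
    (w : G) ∈ cX f := by
  rw [mem_cX, ← mul_inv_eq_iff_eq_mul]
  obtain ⟨j, hj⟩ := mem_zpowers_iff.1 ((mem_normalizer_iff.1 hw _).1 (mem_zpowers (f : G)))
  have hjH : w * f * w⁻¹ = f ^ j := Subtype.ext (by simpa using hj.symm)
  have h2 : (QuotientGroup.mk f : K) ^ j = QuotientGroup.mk f := by
    rw [← QuotientGroup.mk_zpow, ← hjH, QuotientGroup.mk_mul, QuotientGroup.mk_mul, QuotientGroup.mk_inv, hk,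
      mul_inv_cancel_right]
  have h3 : (5 : ℤ) ∣ j - 1 := by
    have h := orderOf_dvd_iff_zpow_eq_one.2 (show (QuotientGroup.mk f : K) ^ (j - 1) = 1 by
      rw [zpow_sub_one, h2, mul_inv_cancel])
    rwa [c.ordK] at h
  have h4 : (f : G) ^ (j - 1) = 1 := orderOf_dvd_iff_zpow_eq_one.1 (by rw [c.ordG]; exact h3)
  rw [zpow_sub_one, mul_inv_eq_one] at h4
  rw [← hj, h4]

theorem exists_lift_cent {k : K} (hk : k * QuotientGroup.mk f = QuotientGroup.mk f * k) :
    ∃ w : Hz, (QuotientGroup.mk w : K) = k ∧ (w : G) ∈ cX f := by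
  obtain ⟨w, hw, hwN⟩ := c.exists_lift (k := k) (by
    rw [mem_normalizer_iff]
    intro x
    have key : ∀ i : ℤ, k * (QuotientGroup.mk f : K) ^ i * k⁻¹ = (QuotientGroup.mk f : K) ^ i := fun i => by
      rw [← conj_zpow, hk, mul_inv_cancel_right]
    constructor
    · intro hx
      obtain ⟨i, rfl⟩ := mem_zpowers_iff.1 hx
      rw [key]; exact zpow_mem (mem_zpowers _) i
    · intro hx
      obtain ⟨i, hi⟩ := mem_zpowers_iff.1 hx
      refine mem_zpowers_iff.2 ⟨i, ?_⟩
      rw [← key i] at hi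
      exact mul_left_cancel (mul_right_cancel hi))
  exact ⟨w, hw, c.mem_cX_of_image hwN (by rw [hw, hk])⟩

theorem cX_le_nX : cX f ≤ nX f := by
  intro g hg
  rw [mem_normalizer_iff]
  intro x
  have key : ∀ i : ℤ, g * (f : G) ^ i * g⁻¹ = (f : G) ^ i := fun i => by
    rw [← conj_zpow, mem_cX.1 hg, mul_inv_cancel_right]
  constructor
  · intro hx
    obtain ⟨i, rfl⟩ := mem_zpowers_iff.1 hx
    rw [key]; exact zpow_mem (mem_zpowers _) i
  · intro hx
    obtain ⟨i, hi⟩ := mem_zpowers_iff.1 hx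
    refine mem_zpowers_iff.2 ⟨i, ?_⟩
    rw [← key i] at hi
    exact mul_left_cancel (mul_right_cancel hi)

theorem card_inf_aux (S : Subgroup G) (R : Subgroup K) (h1 : ∀ w : Hz, (w : G) ∈ S → QuotientGroup.mk w ∈ R)
    (h2 : ∀ k ∈ R, ∃ w : Hz, (QuotientGroup.mk w : K) = k ∧ (w : G) ∈ S)
    (h3 : ∀ x : ↥Q, ((x : Hz) : G) ∈ S ↔ ((x : Hz) : G) ∈ cX f) :
    Nat.card ↥(Hz ⊓ S) = 32 * Nat.card ↥R := by
  let p : ↥(S.subgroupOf Hz) →* K := (QuotientGroup.mk' Q).comp (S.subgroupOf Hz).subtype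
  have hr : p.range = R := by
    ext k
    constructor
    · rintro ⟨w, rfl⟩; exact h1 _ w.2
    · intro hk
      obtain ⟨w, hw, hwS⟩ := h2 k hk
      exact ⟨⟨w, hwS⟩, hw⟩
  have hker : Nat.card ↥p.ker = Nat.card ↥c.qX := Nat.card_congr
    { toFun := fun w => ⟨⟨(w : ↥(S.subgroupOf Hz)), (QuotientGroup.eq_one_iff _).1 w.2⟩,
        (h3 ⟨_, (QuotientGroup.eq_one_iff _).1 w.2⟩).1 (w : ↥(S.subgroupOf Hz)).2⟩
      invFun := fun x => ⟨⟨((x : ↥Q) : Hz), (h3 x).2 x.2⟩, (QuotientGroup.eq_one_iff _).2 (x : ↥Q).2⟩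
      left_inv := fun _ => rfl
      right_inv := fun _ => rfl }
  have h := p.ker.card_mul_index
  rw [Subgroup.index_ker, hr, hker, c.card_qX] at h
  rw [h]
  refine (Nat.card_congr ((Equiv.subtypeEquiv (Equiv.refl _) fun _ => Iff.rfl).trans ?_)).symm
  exact
    { toFun := fun w => ⟨((w : Hz) : G), (w : Hz).2, w.2⟩
      invFun := fun g => ⟨⟨g, g.2.1⟩, g.2.2⟩
      left_inv := fun _ => rfl
      right_inv := fun _ => rfl }

theorem card_CH : Nat.card ↥(Hz ⊓ cX f) = 960 := by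
  rw [c.card_inf_aux (cX f) (centralizer ({(QuotientGroup.mk f : K)} : Set K)) (fun w hw => ?_) (fun k hk => ?_)
    (fun _ => Iff.rfl), c.facts.cent _ c.ordK]
  · refine mem_centralizer_singleton_iff.2 ?_
    rw [← QuotientGroup.mk_mul, ← QuotientGroup.mk_mul, show w * f = f * w from Subtype.ext (mem_cX.1 hw)]
  · exact c.exists_lift_cent (mem_centralizer_singleton_iff.1 hk)

theorem card_NH : Nat.card ↥(Hz ⊓ nX f) = 3840 := by
  have h3 : ∀ x : ↥Q, ((x : Hz) : G) ∈ nX f ↔ ((x : Hz) : G) ∈ cX f := by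
    intro x
    refine ⟨fun hx => ?_, fun hx => c.cX_le_nX hx⟩
    have h1 : (x : Hz) * f * (x : Hz)⁻¹ * f⁻¹ ∈ Q := by
      rw [mul_assoc, mul_assoc]
      exact mul_mem x.2 (by
        have := Subgroup.Normal.conj_mem (H := Q) inferInstance _ (inv_mem x.2) f
        simpa [mul_assoc] using this)
    have h2 : (((x : Hz) * f * (x : Hz)⁻¹ * f⁻¹ : Hz) : G) ∈ zpowers (f : G) := by
      simp only [Subgroup.coe_mul, Subgroup.coe_inv]
      exact mul_mem ((mem_normalizer_iff.1 hx _).1 (mem_zpowers _)) (inv_mem (mem_zpowers _))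
    have := congrArg Subtype.val (c.inf_trivial h1 h2)
    simp only [Subgroup.coe_mul, Subgroup.coe_inv, OneMemClass.coe_one] at this
    rw [mem_cX, ← mul_inv_eq_iff_eq_mul, ← mul_inv_eq_one]
    exact this
  rw [c.card_inf_aux (nX f) (normalizer (zpowers (QuotientGroup.mk f : K) : Set K)) (fun w hw => ?_) (fun k hk => ?_)
    h3, c.facts.norm _ c.ordK]
  · rw [mem_normalizer_iff]
    intro y
    have hz : ∀ y : Hz, (y : G) ∈ zpowers (f : G) → (QuotientGroup.mk y : K) ∈ zpowers (QuotientGroup.mk f : K) := by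
      intro y hy
      obtain ⟨i, hi⟩ := mem_zpowers_iff.1 hy
      rw [← show f ^ i = y from Subtype.ext (by simpa using hi), QuotientGroup.mk_zpow]
      exact zpow_mem (mem_zpowers _) i
    constructor
    · intro hy
      obtain ⟨i, rfl⟩ := mem_zpowers_iff.1 hy
      rw [← QuotientGroup.mk_zpow, ← QuotientGroup.mk_inv, ← QuotientGroup.mk_mul, ← QuotientGroup.mk_mul]
      exact hz _ ((mem_normalizer_iff.1 hw _).1 (by simpa using zpow_mem (mem_zpowers (f : G)) i))
    · intro hy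
      obtain ⟨i, hi⟩ := mem_zpowers_iff.1 hy
      have h2 : (QuotientGroup.mk (w⁻¹ * f ^ i * w) : K) = y := by
        rw [QuotientGroup.mk_mul, QuotientGroup.mk_mul, QuotientGroup.mk_inv, QuotientGroup.mk_zpow, hi]; group
      rw [← h2]
      refine hz _ ?_
      have := (mem_normalizer_iff.1 (inv_mem hw) _).1 (zpow_mem (mem_zpowers (f : G)) i)
      simpa using this
  · exact c.exists_lift hk

theorem pow_mem_of_mem {g : G} (hg : g ∈ zpowers (f : G)) : ∃ i : Fin 5, (f : G) ^ (i : ℕ) = g := by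
  classical
  rw [mem_zpowers_iff_mem_range_orderOf, c.ordG, Finset.mem_image] at hg
  obtain ⟨i, hi, rfl⟩ := hg
  exact ⟨⟨i, Finset.mem_range.1 hi⟩, rfl⟩

/-- The normaliser in the centraliser induces every automorphism. -/
theorem exists_conj_gen {g : G} (hg : g ∈ zpowers (f : G)) (hg1 : g ≠ 1) :
    ∃ w : Hz, (w : G) ∈ nX f ∧ (w : G) * (f : G) * (w : G)⁻¹ = g := by
  classical
  set N : Subgroup G := Hz ⊓ nX f
  let θ : ↥N → {x : G // x ∈ zpowers (f : G) ∧ x ≠ 1} := fun w => ⟨(w : G) * (f : G) * (w : G)⁻¹,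
    (mem_normalizer_iff.1 w.2.2 _).1 (mem_zpowers _), fun e => by
      have := c.ordG
      rw [conj_eq_one_iff.1 e, orderOf_one] at this
      omega⟩
  suffices Function.Surjective θ by
    obtain ⟨w, hw⟩ := this ⟨g, hg, hg1⟩
    exact ⟨⟨w, w.2.1⟩, w.2.2, congrArg Subtype.val hw⟩
  intro y
  by_contra hy
  simp only [not_exists] at hy
  have hfib : ∀ t, ∀ s : Finset ↥N, (∀ w ∈ s, θ w = t) → s.card ≤ 960 := by
    intro t s hs
    rcases s.eq_empty_or_nonempty with rfl | ⟨w0, hw0⟩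
    · simp
    let g : {w // w ∈ s} → ↥(Hz ⊓ cX f) := fun w => ⟨(w0 : G)⁻¹ * ((w : ↥N) : G), (centralizer ({z} : Set G)).mul_mem ((centralizer ({z} : Set G)).inv_mem w0.2.1) (w : ↥N).2.1,
      mem_cX.2 (by
        have e : ((w : ↥N) : G) * (f : G) * ((w : ↥N) : G)⁻¹ = (w0 : G) * (f : G) * (w0 : G)⁻¹ :=
          congrArg Subtype.val ((hs w w.2).trans (hs w0 hw0).symm)
        calc (w0 : G)⁻¹ * ((w : ↥N) : G) * (f : G)
            = (w0 : G)⁻¹ * (((w : ↥N) : G) * (f : G) * ((w : ↥N) : G)⁻¹) * ((w : ↥N) : G) := by group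
          _ = (f : G) * ((w0 : G)⁻¹ * ((w : ↥N) : G)) := by rw [e]; group)⟩
    have h := Nat.card_le_card_of_injective g fun a b e =>
      Subtype.ext (Subtype.ext (mul_left_cancel (congrArg Subtype.val e)))
    rw [c.card_CH, Nat.card_eq_fintype_card, Fintype.card_coe] at h
    exact h
  haveI := Fintype.ofFinite ↥N
  haveI := Fintype.ofFinite {x : G // x ∈ zpowers (f : G) ∧ x ≠ 1}
  have h4 : Fintype.card {x : G // x ∈ zpowers (f : G) ∧ x ≠ 1} ≤ 4 := by
    have hsub : {x : G | x ∈ zpowers (f : G) ∧ x ≠ 1} = (zpowers (f : G) : Set G) \ {1} := rfl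
    rw [← Nat.card_eq_fintype_card, show Nat.card {x : G // x ∈ zpowers (f : G) ∧ x ≠ 1} =
      ({x : G | x ∈ zpowers (f : G) ∧ x ≠ 1}).ncard from Nat.card_coe_set_eq _, hsub,
      Set.ncard_diff_singleton_of_mem (one_mem _)]
    have hc := c.cardF
    rw [← Nat.card_coe_set_eq]
    simp only [SetLike.coe_sort_coe, hc]
    norm_num
  have h1 : Fintype.card ↥N ≤ 960 * 3 := by
    rw [← Finset.card_univ]
    refine (Finset.card_le_mul_card_image (f := θ) _ 960 fun t _ => hfib t _ fun w hw => (Finset.mem_filter.1 hw).2).trans ?_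
    refine Nat.mul_le_mul_left _ ?_
    have : Finset.univ.image θ ⊆ Finset.univ.erase y := fun t ht => by
      obtain ⟨w, -, rfl⟩ := Finset.mem_image.1 ht
      exact Finset.mem_erase.2 ⟨hy w, Finset.mem_univ _⟩
    refine (Finset.card_le_card this).trans ?_
    rw [Finset.card_erase_of_mem (Finset.mem_univ _), Finset.card_univ]
    omega
  have h2 : Fintype.card ↥N = 3840 := by rw [← Nat.card_eq_fintype_card]; exact c.card_NH
  omega

/-- The subgroup of order eight. -/
def cE (c : Ctx Q q π n M φ f u) : Subgroup G where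
  carrier := {y | ∃ x : ↥Q, π x ∈ ln n u ∧ ((x : Hz) : G) = y}
  one_mem' := ⟨1, by rw [c.mdl.pi_one]; exact .inl rfl, rfl⟩
  mul_mem' := by
    rintro _ _ ⟨x, hx, rfl⟩ ⟨y, hy, rfl⟩
    exact ⟨x * y, by rw [c.mdl.pi_mul]; exact c.mdl.core.line_add hx hy, rfl⟩
  inv_mem' := by
    rintro _ ⟨x, hx, rfl⟩
    exact ⟨x⁻¹, by rw [c.mdl.pi_inv]; exact hx, rfl⟩

theorem mem_cE {y : G} : y ∈ c.cE ↔ ∃ x : ↥Q, π x ∈ ln n u ∧ ((x : Hz) : G) = y := Iff.rfl

theorem coe_mem_cE (x : ↥Q) : ((x : Hz) : G) ∈ c.cE ↔ π x ∈ ln n u := by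
  refine ⟨fun ⟨y, hy, e⟩ => ?_, fun h => ⟨x, h, rfl⟩⟩
  rwa [← show y = x from Subtype.ext (Subtype.ext e)]

theorem z_mem_cE : z ∈ c.cE := by
  obtain ⟨zQ, hzQ, hz0, -⟩ := c.mdl.exists_zQ
  exact ⟨zQ, by rw [hz0]; exact .inl rfl, hzQ⟩

theorem cE_le : c.cE ≤ QG ⊓ cX f := by
  rintro _ ⟨x, hx, rfl⟩
  exact ⟨⟨x, x.2, rfl⟩, (c.fix_iff x).1 (c.ln_fixed _ hx)⟩

theorem cE_le_H : c.cE ≤ Hz := fun _ hy => map_subtype_le Q (c.cE_le hy).1

theorem cE_le_cX : c.cE ≤ cX f := fun _ hy => (c.cE_le hy).2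

theorem card_cE : Nat.card ↥c.cE = 8 := by
  obtain ⟨zQ, hzQ, hz0, -⟩ := c.mdl.exists_zQ
  obtain ⟨W, hW, -, heq⟩ := c.mdl.card_fibre hzQ
    (c.cE.comap ((centralizer ({z} : Set G)).subtype.comp Q.subtype))
  have hz : zQ ∈ c.cE.comap ((centralizer ({z} : Set G)).subtype.comp Q.subtype) := by
    show ((zQ : Hz) : G) ∈ c.cE
    rw [hzQ]; exact c.z_mem_cE
  have hWe : (W : Set V) = ln n u := by
    ext v
    rw [SetLike.mem_coe, hW]
    constructor
    · rintro ⟨x, hx, rfl⟩; exact (c.coe_mem_cE x).1 hx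
    · intro hv
      obtain ⟨x, rfl⟩ := c.mdl.surj v
      exact ⟨x, (c.coe_mem_cE x).2 hv, rfl⟩
  have h := heq hz
  rw [show Nat.card ↥W = (W : Set V).ncard from Nat.card_coe_set_eq _, hWe, c.mdl.core.line_ncard c.u0] at h
  refine (Nat.card_congr ?_).trans h
  exact (Equiv.ofBijective (fun x : ↥(c.cE.comap ((centralizer ({z} : Set G)).subtype.comp Q.subtype)) =>
    (⟨((x : ↥Q) : Hz), x.2⟩ : ↥c.cE)) ⟨fun a b e =>
      Subtype.ext (Subtype.ext (Subtype.ext (congrArg (fun t : ↥c.cE => (t : G)) e))), fun y => by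
      obtain ⟨x, hx, e⟩ := y.2
      exact ⟨⟨x, ⟨x, hx, rfl⟩⟩, Subtype.ext e⟩⟩).symm

theorem line_q {v : V} (hv : v ∈ ln n u) : q v = 0 := c.mdl.core.q_line c.qu v hv

theorem line_orbit {v : V} (hv : v ∈ ln n u) (hv0 : v ≠ 0) : v ∈ MulAction.orbit K u := by
  rcases hv with rfl | rfl | rfl | rfl
  · exact absurd rfl hv0
  · exact MulAction.mem_orbit_self _
  · exact ⟨n, rfl⟩
  · exact ⟨n * n, mul_smul n n u⟩

theorem elementary : Cfsg.IsElementaryAbelian 2 c.cE := by
  refine ⟨⟨⟨?_⟩⟩, ?_⟩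
  · rintro ⟨_, x, hx, rfl⟩ ⟨_, y, hy, rfl⟩
    refine Subtype.ext ((c.mdl.polar_iff x y).1 ?_)
    have h := q_add q (π x) (π y)
    rwa [c.line_q (c.mdl.core.line_add hx hy), c.line_q hx, c.line_q hy, zero_add, zero_add, eq_comm] at h
  · rintro _ ⟨x, hx, rfl⟩
    have h := congrArg (fun a : ↥Q => ((a : Hz) : G)) ((c.mdl.sq x).1 (c.line_q hx))
    rw [pow_two]
    exact h

theorem cE_comm {a b : G} (ha : a ∈ c.cE) (hb : b ∈ c.cE) : a * b = b * a :=
  congrArg Subtype.val (c.elementary.1.is_comm.comm ⟨a, ha⟩ ⟨b, hb⟩)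

theorem cE_sq {a : G} (ha : a ∈ c.cE) : a * a = 1 := by rw [← pow_two]; exact c.elementary.2 a ha

/-- The nontrivial elements of the subgroup are conjugates of the involution. -/
theorem conj_of_mem {y : G} (hy : y ∈ c.cE) (h1 : y ≠ 1) : IsConj z y := by
  obtain ⟨x, hx, rfl⟩ := hy
  by_cases h0 : π x = 0
  · rcases (c.mdl.ker x).1 h0 with e | e
    · exact absurd e h1
    · rw [e]
  exact (c.mdl.isConj_iff_orbit ⟨c.u0, c.qu, c.orb⟩ h0).2 (c.line_orbit hx h0)

/-- The conjugates of the involution in the part of the core commuting with `f`. -/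
theorem mem_of_conj {y : G} (hyQ : y ∈ QG) (hyX : y ∈ cX f) (hy : IsConj z y) : y ∈ c.cE := by
  obtain ⟨x', hx', rfl⟩ := hyQ
  obtain ⟨x, rfl⟩ : ∃ x : ↥Q, (x : Hz) = x' := ⟨⟨x', hx'⟩, rfl⟩
  refine (c.coe_mem_cE x).2 ?_
  by_cases h0 : π x = 0
  · rw [h0]; exact .inl rfl
  have h := (c.mdl.isConj_iff_orbit ⟨c.u0, c.qu, c.orb⟩ h0).1 hy
  have hq : q (π x) = 0 := by
    obtain ⟨k, hk⟩ := h
    rw [← hk]
    exact (c.mdl.core.isom k u).trans c.qu
  exact c.uniq _ ((c.fix_iff x).2 hyX) h0 hq (by rw [MulAction.orbit_eq_iff.2 h]; exact c.orb)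

omit c in
theorem conj_cX {g y : G} (hg : g ∈ nX f) (hy : y ∈ cX f) : g * y * g⁻¹ ∈ cX f := by
  obtain ⟨i, hi⟩ := mem_zpowers_iff.1 ((mem_normalizer_iff.1 (inv_mem hg) (f : G)).1 (mem_zpowers (f : G)))
  rw [inv_inv] at hi
  have hc : Commute y ((f : G) ^ i) := (show Commute y (f : G) from mem_cX.1 hy).zpow_right i
  rw [hi] at hc
  refine mem_cX.2 ?_
  calc g * y * g⁻¹ * (f : G) = g * (y * (g⁻¹ * (f : G) * g)) * g⁻¹ := by group
    _ = g * (g⁻¹ * (f : G) * g * y) * g⁻¹ := by rw [hc.eq]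
    _ = (f : G) * (g * y * g⁻¹) := by group

theorem mem_normalizer_of {w : G} (h : ∀ y ∈ c.cE, w * y * w⁻¹ ∈ c.cE) : w ∈ normalizer (c.cE : Set G) := by
  have heq : c.cE.map (MulAut.conj w).toMonoidHom = c.cE := by
    refine eq_of_le_of_card_ge (map_le_iff_le_comap.2 fun y hy => h y hy) (le_of_eq ?_)
    rw [card_map_of_injective (MulEquiv.injective _)]
  rw [mem_normalizer_iff]
  intro y
  refine ⟨h y, fun hy => ?_⟩
  rw [← heq] at hy
  obtain ⟨y', hy', e⟩ := hy
  rwa [← (MulAut.conj w).injective (e.trans (MulAut.conj_apply _ _).symm)]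

theorem nH_normalizes : Hz ⊓ nX f ≤ normalizer (c.cE : Set G) := by
  intro w hw
  refine c.mem_normalizer_of fun y hy => ?_
  by_cases h1 : y = 1
  · simp [h1, one_mem]
  refine c.mem_of_conj ?_ (conj_cX hw.2 (c.cE_le_cX hy))
    ((c.conj_of_mem hy h1).trans (isConj_iff.2 ⟨w, rfl⟩))
  obtain ⟨x, -, rfl⟩ := hy
  exact ⟨⟨w, hw.1⟩ * (x : Hz) * (⟨w, hw.1⟩ : Hz)⁻¹, Subgroup.Normal.conj_mem inferInstance _ x.2 _, rfl⟩

theorem five_part : (Nat.card Hz).factorization 5 = 1 := by
  haveI : Fact (Nat.Prime 5) := ⟨by norm_num⟩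
  have hK : Nat.card ↥(centralizer ({(QuotientGroup.mk f : K)} : Set K)) = 30 := c.facts.cent _ c.ordK
  have h25 : ¬ 5 ^ 2 ∣ Nat.card K := by
    intro h25
    obtain ⟨P, hP, hle⟩ := Sylow.exists_subgroup_card_pow_succ (n := 1) h25
      (H := zpowers (QuotientGroup.mk f : K)) (by rw [Nat.card_zpowers, c.ordK, pow_one])
    haveI := IsPGroup.isMulCommutative_of_card_eq_prime_sq (G := ↥P) hP
    have hPle : P ≤ centralizer ({(QuotientGroup.mk f : K)} : Set K) := fun x hx =>
      mem_centralizer_singleton_iff.2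
        (congrArg Subtype.val (mul_comm' (⟨x, hx⟩ : ↥P) ⟨_, hle (mem_zpowers _)⟩))
    have := card_dvd_of_le hPle
    rw [hP, hK] at this
    norm_num at this
  have h5 : 5 ∣ Nat.card K := by
    have := orderOf_dvd_natCard (QuotientGroup.mk f : K)
    rwa [c.ordK] at this
  rw [Subgroup.card_eq_card_quotient_mul_card_subgroup Q, c.mdl.cardQ,
    Nat.factorization_mul Nat.card_pos.ne' (by norm_num), Finsupp.add_apply,
    Nat.factorization_eq_zero_of_not_dvd (n := 2 ^ (2 * 6 + 1)) (by norm_num), add_zero]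
  refine le_antisymm (not_lt.1 fun hlt => h25 ?_) ?_
  · exact (Nat.Prime.pow_dvd_iff_le_factorization (by norm_num) Nat.card_pos.ne').2 hlt
  · exact (Nat.Prime.pow_dvd_iff_le_factorization (by norm_num) Nat.card_pos.ne').1 (by rwa [pow_one])

/-- Sylow's trick in the centraliser. -/
theorem exists_conj_into {e : G} (he : IsConj z e) (heX : e ∈ cX f) : ∃ g ∈ nX f, g * z * g⁻¹ = e := by
  haveI : Fact (Nat.Prime 5) := ⟨by norm_num⟩
  obtain ⟨h, hh⟩ := isConj_iff.1 he
  have hf' : h⁻¹ * (f : G) * h ∈ Hz := by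
    refine mem_centralizer_singleton_iff.2 ?_
    have := mem_cX.1 heX
    rw [← hh] at this
    calc h⁻¹ * (f : G) * h * z = h⁻¹ * ((f : G) * (h * z * h⁻¹)) * h := by group
      _ = h⁻¹ * (h * z * h⁻¹ * (f : G)) * h := by rw [this]
      _ = z * (h⁻¹ * (f : G) * h) := by group
  have hfac := c.five_part
  let P : Sylow 5 Hz := Sylow.ofCard (zpowers f) (by rw [Nat.card_zpowers, c.ord, hfac, pow_one])
  let P' : Sylow 5 Hz := Sylow.ofCard (zpowers ⟨_, hf'⟩) (by
    rw [Nat.card_zpowers, Subgroup.orderOf_mk, hfac, pow_one]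
    have h1 := (orderOf_injective (MulAut.conj h⁻¹).toMonoidHom (MulAut.conj h⁻¹).injective (f : G)).trans c.ordG
    simpa using h1)
  obtain ⟨w, hw⟩ := MulAction.exists_smul_eq Hz P P'
  have hmap : (zpowers f).map (MulAut.conj w).toMonoidHom = zpowers (⟨_, hf'⟩ : Hz) := by
    have h1 : ((w • P : Sylow 5 Hz) : Subgroup Hz) = zpowers ⟨_, hf'⟩ := by rw [hw]; rfl
    rw [← h1, Sylow.coe_subgroup_smul]
    rfl
  rw [MonoidHom.map_zpowers, MulEquiv.coe_toMonoidHom, MulAut.conj_apply] at hmap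
  obtain ⟨i, hi⟩ := mem_zpowers_iff.1 (show w * f * w⁻¹ ∈ zpowers (⟨_, hf'⟩ : Hz) from hmap ▸ mem_zpowers _)
  have hi' : (h⁻¹ * (f : G) * h) ^ i = (w : G) * (f : G) * (w : G)⁻¹ := by simpa using congrArg Subtype.val hi
  refine ⟨h * w, ?_, ?_⟩
  · have hgf : h * (w : G) * (f : G) * (h * (w : G))⁻¹ = (f : G) ^ i := by
      calc h * (w : G) * (f : G) * (h * (w : G))⁻¹ = h * ((w : G) * (f : G) * (w : G)⁻¹) * h⁻¹ := by group
        _ = (f : G) ^ i := by
          rw [← hi', ← conj_zpow]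
          congr 1
          group
    have heq : (zpowers (f : G)).map (MulAut.conj (h * (w : G))).toMonoidHom = zpowers (f : G) := by
      rw [MonoidHom.map_zpowers, MulEquiv.coe_toMonoidHom, MulAut.conj_apply, hgf]
      refine eq_of_le_of_card_ge (zpowers_le.2 (zpow_mem (mem_zpowers _) i)) (le_of_eq ?_)
      rw [Nat.card_zpowers, Nat.card_zpowers, ← hgf]
      exact (orderOf_injective (MulAut.conj (h * (w : G))).toMonoidHom (MulAut.conj (h * (w : G))).injective (f : G)).symm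
    rw [mem_normalizer_iff]
    intro x
    constructor
    · intro hx; rw [← heq]; exact ⟨x, hx, rfl⟩
    · intro hx
      rw [← heq] at hx
      obtain ⟨y, hy, e'⟩ := hx
      rwa [← (MulAut.conj (h * (w : G))).injective (e'.trans (MulAut.conj_apply _ _).symm)]
  · have hwz : (w : G) * z * (w : G)⁻¹ = z := mul_inv_eq_iff_eq_mul.2 (mem_centralizer_singleton_iff.1 w.2)
    calc h * (w : G) * z * (h * (w : G))⁻¹ = h * ((w : G) * z * (w : G)⁻¹) * h⁻¹ := by group
      _ = e := by rw [hwz, hh]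

/-- An element of the centraliser of `f` normalising the subgroup and moving the involution to a given element. -/
theorem exists_move {e : G} (he : e ∈ c.cE) (h1 : e ≠ 1) :
    ∃ g ∈ cX f ⊓ normalizer (c.cE : Set G), g * z * g⁻¹ = e := by
  classical
  obtain ⟨g, hg, hge⟩ := c.exists_conj_into (c.conj_of_mem he h1) (c.cE_le_cX he)
  -- `g` normalises the subgroup
  have hnorm : g ∈ normalizer (c.cE : Set G) := by
    by_cases hez : e = z
    · refine c.nH_normalizes ⟨mem_centralizer_singleton_iff.2 ?_, hg⟩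
      rwa [hez, mul_inv_eq_iff_eq_mul] at hge
    refine c.mem_normalizer_of ?_
    have heQ := (c.cE_le he).1
    have hne : g * z * g⁻¹ ≠ z := by rw [hge]; exact hez
    have hp := c.mdl.pair g (by rw [hge]; exact heQ) hne
    obtain ⟨x, hx, hxe⟩ := he
    obtain ⟨hx0, D, hcd, -, hD⟩ := c.mdl.centData_full hp (by rw [c.mdl.cardQ]) (x := x) (by rw [hxe, hge])
    have hns := c.mdl.core.line_mem_D c.mdl.facts hx0 hcd (c.line_q hx)
    obtain ⟨a, haR, ha⟩ := (hD _).1 hns
    have haln : π a ∈ ln n u := by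
      rw [ha]
      rcases hx with h | h | h | h
      · exact absurd h hx0
      · rw [h]; exact .inr (.inr (.inl rfl))
      · rw [h]; exact .inr (.inr (.inr rfl))
      · rw [h, c.mdl.core.smul_n3]; exact .inr (.inl rfl)
    have hsub : ∀ y ∈ c.cE, y ∈ (Q.map (centralizer ({z} : Set G)).subtype).map (MulAut.conj g).toMonoidHom →
        g⁻¹ * y * g ∈ c.cE := by
      intro y hy hyR
      by_cases hy1 : y = 1
      · simp [hy1, one_mem]
      refine c.mem_of_conj (PairHyp.mem_map_iff.1 hyR) ?_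
        ((c.conj_of_mem hy hy1).trans (isConj_iff.2 ⟨g⁻¹, by simp⟩))
      have := conj_cX (inv_mem hg) (c.cE_le_cX hy)
      rwa [inv_inv] at this
    let S : Subgroup G := c.cE.map (MulAut.conj g).toMonoidHom
    have hmem : ∀ y, g⁻¹ * y * g ∈ c.cE → y ∈ S := fun y hy => ⟨_, hy, by simp [mul_assoc]⟩
    have hzS : z ∈ S := by
      obtain hzR := hp.automizer.2
      exact hmem z (hsub z c.z_mem_cE hzR)
    have hxS : e ∈ S := ⟨z, c.z_mem_cE, by simp [hge]⟩
    have haS : ((a : Hz) : G) ∈ S := hmem _ (hsub _ ⟨a, haln, rfl⟩ haR)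
    have hle : c.cE ≤ S := by
      rintro _ ⟨w, hw, rfl⟩
      have key : ∀ b : ↥Q, ((b : Hz) : G) ∈ S → π w = π b → ((w : Hz) : G) ∈ S := fun b hb e => by
        rcases c.mdl.pi_eq e.symm with h | h <;> rw [h]
        exacts [hb, mul_mem hb hzS]
      have hxS' : ((x : Hz) : G) ∈ S := hxe ▸ hxS
      rcases hx with h | h | h | h
      · exact absurd h hx0
      all_goals
        rw [h] at ha
      · rcases hw with e' | e' | e' | e'
        · exact key 1 (one_mem S) (e'.trans c.mdl.pi_one.symm)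
        · exact key x hxS' (e'.trans h.symm)
        · exact key a haS (e'.trans ha.symm)
        · exact key (x * a) (mul_mem hxS' haS) (e'.trans (by rw [c.mdl.pi_mul, h, ha, ← c.mdl.core.n_n_eq]))
      · rcases hw with e' | e' | e' | e'
        · exact key 1 (one_mem S) (e'.trans c.mdl.pi_one.symm)
        · exact key (x * a) (mul_mem hxS' haS) (e'.trans (by
            rw [c.mdl.pi_mul, h, ha, c.mdl.core.n_n_eq, add_comm u, ← add_assoc, vadd_self, zero_add]))
        · exact key x hxS' (e'.trans h.symm)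
        · exact key a haS (e'.trans ha.symm)
      · rw [c.mdl.core.smul_n3] at ha
        rcases hw with e' | e' | e' | e'
        · exact key 1 (one_mem S) (e'.trans c.mdl.pi_one.symm)
        · exact key a haS (e'.trans ha.symm)
        · exact key (x * a) (mul_mem hxS' haS) (e'.trans (by
            rw [c.mdl.pi_mul, h, ha, c.mdl.core.n_n_eq, add_comm u, add_assoc, vadd_self, add_zero]))
        · exact key x hxS' (e'.trans h.symm)
    have heq : c.cE = S := eq_of_le_of_card_ge hle (by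
      rw [card_map_of_injective (MulEquiv.injective _)])
    intro y hy
    rw [heq]
    exact ⟨y, hy, by simp⟩
  -- adjust inside the centraliser of the involution
  have hgf1 : g⁻¹ * (f : G) * g ≠ 1 := fun e' => by
    have h2 : (f : G) = 1 := by
      calc (f : G) = g * (g⁻¹ * (f : G) * g) * g⁻¹ := by group
        _ = 1 := by rw [e']; group
    have := c.ordG
    rw [h2, orderOf_one] at this
    omega
  obtain ⟨w, hw, hwf⟩ := c.exists_conj_gen (g := g⁻¹ * (f : G) * g) (by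
    have := (mem_normalizer_iff.1 (inv_mem hg) (f : G)).1 (mem_zpowers _)
    rwa [inv_inv] at this) hgf1
  refine ⟨g * w, ⟨mem_cX.2 ?_, mul_mem hnorm (c.nH_normalizes ⟨w.2, hw⟩)⟩, ?_⟩
  · calc g * (w : G) * (f : G) = g * ((w : G) * (f : G) * (w : G)⁻¹) * (w : G) := by group
      _ = (f : G) * (g * w) := by rw [hwf]; group
  · have hwz : (w : G) * z * (w : G)⁻¹ = z := mul_inv_eq_iff_eq_mul.2 (mem_centralizer_singleton_iff.1 w.2)
    calc g * (w : G) * z * (g * (w : G))⁻¹ = g * ((w : G) * z * (w : G)⁻¹) * g⁻¹ := by group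
      _ = e := by rw [hwz, hge]

end Ctx

end CfsgLib.JankoFour.Five
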