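import Cfsg.Prelude.Def_MonsterType
import Cfsg.Agent.Lib.JankoFour.Recog.Type
import Cfsg.Agent.Lib.JankoFour.Basic
import Cfsg.Agent.Lib.Cores.Components

/-!
# Janko-four type from the extraspecial setting with a non-complemented extension

If `C` modulo `Q` is an extension of a group of order three by the automorphism group of M22 and
the group of order three has no complement, the socle gives the subgroup of index two needed for
the recognition, with perfect quotient modulo `Q`.
-/

set_option autoImplicit false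
set_option linter.unusedSectionVars false

namespace CfsgLib.JankoFour

open Subgroup Cfsg
open scoped commutatorElement

theorem commutator_M22 : ⁅(⊤ : Subgroup ↥Spor.M22), (⊤ : Subgroup ↥Spor.M22)⁆ = ⊤ := by
  haveI := CfsgLib.Golay.sporM22_simple
  rcases (inferInstance : (⁅(⊤ : Subgroup ↥Spor.M22), (⊤ : Subgroup ↥Spor.M22)⁆).Normal).eq_bot_or_eq_top
    with h | h
  · exfalso
    have h1 : (⊤ : Subgroup ↥Spor.M22) ≤ center ↥Spor.M22 := by
      have h2 := commutator_eq_bot_iff_le_centralizer.1 h
      rwa [coe_top, centralizer_univ] at h2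
    rw [center_M22] at h1
    exact one_ne_zero (α := ℕ) (by
      have := congrArg (fun H : Subgroup ↥Spor.M22 => Nat.card H) (le_bot_iff.1 h1)
      simp [CfsgLib.Golay.card_sporM22] at this)
  · exact h

/-- An automorphism fixing every inner one under conjugation is trivial. -/
theorem eq_one_of_comm_inn {φ : MulAut ↥Spor.M22} (h : ∀ a, φ * MulAut.conj a * φ⁻¹ = MulAut.conj a) : φ = 1 := by
  refine MulEquiv.ext fun a => conj_injective_M22 ?_
  rw [show (1 : MulAut ↥Spor.M22) a = a from rfl]
  refine Eq.trans (MulEquiv.ext fun b => ?_) (h a)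
  rw [MulAut.mul_apply, MulAut.mul_apply, MulAut.conj_apply, MulAut.conj_apply, map_mul, map_mul, map_inv,
    MulAut.apply_inv_self]

section

variable {C : Type*} [Group C] [Finite C]

/-- The socle extension: perfect modulo `Q`, centralising the group of order three. -/
theorem socle_facts {Q N : Subgroup C} [Q.Normal] [N.Normal] (f : C →* MulAut ↥Spor.M22)
    (hf : Function.Surjective f) (hker : f.ker = N) (hQN : Q ≤ N) (hN3 : Nat.card ↥N = 3 * Nat.card ↥Q)
    (hns : ∀ K : Subgroup C, K ⊓ N = Q → K ⊔ N = ⊤ → False) (M : Subgroup C)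
    (hMdef : M = (MulAut.conj : ↥Spor.M22 →* MulAut ↥Spor.M22).range.comap f) :
    M.Normal ∧ N ≤ M ∧ M.index = 2 ∧ ⁅M, N⁆ ≤ Q ∧ M ≤ ⁅M, M⁆ ⊔ Q ∧
      (∀ c : C, (∀ m ∈ M, c * m * c⁻¹ * m⁻¹ ∈ N) → c ∈ M) ∧ Spor.IsoM22 (↥M ⧸ N.subgroupOf M) := by
  haveI : Fact (Nat.Prime 3) := ⟨Nat.prime_three⟩
  set I := (MulAut.conj : ↥Spor.M22 →* MulAut ↥Spor.M22).range with hI
  haveI hIn : I.Normal := normal_of_index_eq_two index_conj_range_M22
  have hidx : M.index = 2 := by rw [hMdef, index_comap_of_surjective _ hf, index_conj_range_M22]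
  have hNM : N ≤ M := by
    rw [hMdef, ← hker]
    exact fun x hx => mem_comap.2 (by rw [MonoidHom.mem_ker.1 hx]; exact one_mem _)
  haveI hMn : M.Normal := normal_of_index_eq_two hidx
  have hmap : M.map f = I := by rw [hMdef, map_comap_eq_self_of_surjective hf]
  -- order of N modulo Q
  have hidxQN : (Q.subgroupOf N).index = 3 := by
    have h1 := (Q.subgroupOf N).card_mul_index
    rw [Nat.card_congr (subgroupOfEquivOfLe hQN).toEquiv, hN3, mul_comm] at h1
    exact mul_right_cancel₀ Nat.card_pos.ne' h1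
  -- the centraliser of N modulo Q
  let q := QuotientGroup.mk' Q
  have hNb : Nat.card ↥(N.map q) = 3 := by
    have h1 := Subgroup.relIndex_ker (K := N) (f := q)
    rw [QuotientGroup.ker_mk'] at h1
    rw [← h1]
    exact hidxQN
  haveI : (N.map q).Normal := Subgroup.Normal.map inferInstance q (QuotientGroup.mk'_surjective Q)
  let θ : C →* MulAut ↥(N.map q) := MulAut.conjNormal.comp q
  have hcentN : ⁅M, N⁆ ≤ Q := by
    haveI : IsCyclic ↥(N.map q) := isCyclic_of_prime_card hNb
    have hK2 : θ.ker.index ∣ 2 := by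
      rw [index_ker]
      refine (card_subgroup_dvd_card _).trans ?_
      rw [IsCyclic.card_mulAut, hNb]
      decide
    have hNK : N ≤ θ.ker := by
      intro n hn
      refine MonoidHom.mem_ker.2 (MulEquiv.ext fun a => Subtype.ext ?_)
      haveI : IsMulCommutative ↥(N.map q) := ⟨⟨fun a b => IsCyclic.commGroup.mul_comm a b⟩⟩
      have hc : (⟨q n, mem_map_of_mem q hn⟩ : ↥(N.map q)) * a = a * ⟨q n, mem_map_of_mem q hn⟩ :=
        IsMulCommutative.is_comm.comm _ _
      have hc' : q n * (a : C ⧸ Q) = (a : C ⧸ Q) * q n := congrArg Subtype.val hc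
      simp only [θ, MonoidHom.comp_apply, MulAut.conjNormal_apply, MulAut.one_apply]
      rw [hc', mul_inv_cancel_right]
    have hMK : M ≤ θ.ker := by
      have hK : θ.ker = (θ.ker.map f).comap f := by
        rw [comap_map_eq, hker, sup_eq_left.2 hNK]
      have h2 : (θ.ker.map f).index ∣ 2 := by
        rw [← index_comap_of_surjective _ hf, ← hK]; exact hK2
      rcases (Nat.dvd_prime Nat.prime_two).1 h2 with h | h
      · rw [hK, index_eq_one.1 h, comap_top]; exact le_top
      · rw [hK, eq_inn_of_index_two h, hMdef]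
    refine commutator_le.2 fun m hm n hn => (QuotientGroup.eq_one_iff _).1 ?_
    have h1 := congrArg Subtype.val
      (DFunLike.congr_fun (MonoidHom.mem_ker.1 (hMK hm)) ⟨q n, mem_map_of_mem q hn⟩)
    simp only [θ, MonoidHom.comp_apply, MulAut.conjNormal_apply, MulAut.one_apply] at h1
    show q ⁅m, n⁆ = 1
    rw [commutatorElement_def, map_mul, map_mul, map_mul, map_inv, map_inv, h1, mul_inv_cancel]
  -- perfectness
  let L := ⁅M, M⁆ ⊔ Q
  haveI : L.Normal := inferInstanceAs ((⁅M, M⁆ ⊔ Q).Normal)
  have hLM : L ≤ M := sup_le (commutator_le_left M M) (hQN.trans hNM)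
  have hLN : M ≤ L ⊔ N := by
    have h1 : I ≤ L.map f := by
      have h2 : I = ⁅I, I⁆ := by rw [hI, MonoidHom.range_eq_map, ← map_commutator, commutator_M22]
      rw [h2, ← hmap, ← map_commutator]
      exact map_mono le_sup_left
    rw [← hker, ← comap_map_eq, hMdef]
    exact comap_mono h1
  have hperf : M ≤ L := by
    by_contra hML
    have hNL : ¬N ≤ L := fun h => hML (hLN.trans (sup_le le_rfl h))
    have hLNQ : L ⊓ N = Q := by
      refine le_antisymm ?_ (le_inf le_sup_right hQN)
      have h1 := relIndex_mul_relIndex Q (L ⊓ N) N (le_inf le_sup_right hQN) inf_le_right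
      rw [show Q.relIndex N = 3 from hidxQN] at h1
      rcases (Nat.dvd_prime Nat.prime_three).1 (Dvd.intro_left _ h1) with h | h
      · exact absurd ((relIndex_eq_one.1 h).trans inf_le_left) hNL
      · rw [h] at h1
        exact relIndex_eq_one.1 (by omega)
    obtain ⟨c, hc⟩ : ∃ c, c ∉ M := by
      by_contra h; push Not at h
      rw [index_eq_one.2 (eq_top_iff.2 fun x _ => h x)] at hidx
      omega
    have hsq : ∀ x : C, x * x ∈ M := fun x => mul_self_mem_of_index_two hidx x
    have hd : c * c * c ∉ M := fun h => hc ((mul_mem_cancel_left (hsq c)).1 h)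
    -- the image of the square of c has order dividing three
    have hcard : Nat.card ↥(N.map (QuotientGroup.mk' L)) = 3 := by
      have h1 := Subgroup.relIndex_ker (K := N) (f := QuotientGroup.mk' L)
      rw [QuotientGroup.ker_mk', ← inf_relIndex_right, hLNQ] at h1
      rw [← h1]
      exact hidxQN
    have hc6 : (c * c) ^ 3 ∈ L := by
      obtain ⟨l, hl, n, hn, hln⟩ := mem_sup_of_normal_left.1 (hLN (hsq c))
      have hm : QuotientGroup.mk' L (c * c) ∈ N.map (QuotientGroup.mk' L) := by
        rw [← hln, map_mul, (QuotientGroup.eq_one_iff l).2 hl |> fun e => (show QuotientGroup.mk' L l = 1 from e),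
          one_mul]
        exact mem_map_of_mem _ hn
      have h3 : (⟨_, hm⟩ : ↥(N.map (QuotientGroup.mk' L))) ^ 3 = 1 := by
        rw [← hcard]; exact pow_card_eq_one'
      refine (QuotientGroup.eq_one_iff _).1 ?_
      show QuotientGroup.mk' L ((c * c) ^ 3) = 1
      rw [map_pow]
      exact congrArg Subtype.val h3
    obtain ⟨d, hd', hdd⟩ : ∃ d, d ∉ M ∧ d * d ∈ L :=
      ⟨_, hd, by
        have e : (c * c) ^ 3 = c * c * c * (c * c * c) := by simp [pow_succ, mul_assoc]
        rwa [← e]⟩
    refine hns (L ⊔ zpowers d) (le_antisymm (fun x hx => ?_) ?_) ?_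
    · obtain ⟨hxK, hxN⟩ := mem_inf.1 hx
      obtain ⟨l, hl, y, hy, rfl⟩ := mem_sup_of_normal_left.1 hxK
      obtain ⟨i, rfl⟩ := mem_zpowers_iff.1 hy
      have hiM : d ^ i ∈ M := (mul_mem_cancel_left (hLM hl)).1 (hNM hxN)
      have hiL : d ^ i ∈ L := by
        rcases Int.even_or_odd i with ⟨k, rfl⟩ | ⟨k, rfl⟩
        · rw [← two_mul, zpow_mul, zpow_two]
          exact zpow_mem hdd k
        · exfalso
          rw [zpow_add, zpow_mul, zpow_two, zpow_one] at hiM
          exact hd' ((mul_mem_cancel_left (zpow_mem (hLM hdd) k)).1 hiM)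
      rw [← hLNQ]
      exact mem_inf.2 ⟨mul_mem hl hiL, hxN⟩
    · exact le_inf ((le_sup_right : Q ≤ L).trans le_sup_left) hQN
    · rw [eq_top_iff]
      intro x _
      have hM' : M ≤ L ⊔ zpowers d ⊔ N := hLN.trans (sup_le (le_sup_left.trans le_sup_left) le_sup_right)
      have hdK : d ∈ L ⊔ zpowers d ⊔ N := mem_sup_left (mem_sup_right (mem_zpowers d))
      by_cases hxM : x ∈ M
      · exact hM' hxM
      · have h1 : x * d ∈ M := (mul_mem_iff_of_index_two hidx).2 (iff_of_false hxM hd')
        exact (mul_mem_cancel_right hdK).1 (hM' h1)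
  refine ⟨hMn, hNM, hidx, hcentN, hperf, fun c hc => hNM ?_, ?_⟩
  · rw [← hker]
    refine MonoidHom.mem_ker.2 (eq_one_of_comm_inn fun a => ?_)
    obtain ⟨m, hm⟩ := hf (MulAut.conj a)
    have hmM : m ∈ M := by rw [hMdef]; exact mem_comap.2 ⟨a, hm.symm⟩
    have h1 : f (c * m * c⁻¹ * m⁻¹) = 1 := MonoidHom.mem_ker.1 (hker.symm ▸ hc m hmM)
    rw [map_mul, map_mul, map_mul, map_inv, map_inv, hm, mul_inv_eq_one] at h1
    exact h1
  · let g : ↥M →* ↥I := (f.comp M.subtype).codRestrict I fun m => by
      exact mem_comap.1 ((le_of_eq hMdef : M ≤ I.comap f) m.2)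
    have hg : Function.Surjective g := by
      rintro ⟨y, hy⟩
      obtain ⟨x, rfl⟩ := hf y
      exact ⟨⟨x, hMdef ▸ mem_comap.2 hy⟩, rfl⟩
    have hgk : N.subgroupOf M = g.ker := by
      ext m
      rw [mem_subgroupOf, MonoidHom.mem_ker, ← hker, MonoidHom.mem_ker, Subtype.ext_iff]
      rfl
    exact ⟨(QuotientGroup.quotientMulEquivOfEq hgk).trans
      ((QuotientGroup.quotientKerEquivOfSurjective g hg).trans
        (MonoidHom.ofInjective conj_injective_M22).symm)⟩

end

universe u

/-- The extraspecial setting with non-complemented group of order three gives Janko-four type. -/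
theorem isOfJankoFourType_of_setting {G : Type u} [Group G] [Finite G] (τ : G)
    (Q N : Subgroup ↥(centralizer ({τ} : Set G))) [Q.Normal] [N.Normal]
    (hS : IsExtraspecialCentralizerSetting τ Q 6) (hQN : Q ≤ N) (hN3 : Nat.card ↥N = 3 * Nat.card ↥Q)
    (hns : ∀ K : Subgroup ↥(centralizer ({τ} : Set G)), K ⊓ N = Q → K ⊔ N = ⊤ → False)
    (hAut : Nonempty (↥(centralizer ({τ} : Set G)) ⧸ N ≃* MulAut ↥Spor.M22)) :
    IsOfJankoFourType G := by
  obtain ⟨h2, hF, hX, hcard, _⟩ := hS
  obtain ⟨e⟩ := hAut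
  have hker : (e.toMonoidHom.comp (QuotientGroup.mk' N)).ker = N := by
    rw [MonoidHom.ker_comp_of_injective _ _ e.injective]; exact QuotientGroup.ker_mk' N
  obtain ⟨hMn, hNM, hidx, hcent, hperf, hout, h22⟩ :=
    socle_facts (e.toMonoidHom.comp (QuotientGroup.mk' N)) (e.surjective.comp (QuotientGroup.mk'_surjective _))
      hker hQN hN3 hns _ rfl
  haveI := hMn
  have hself : centralizer (Q : Set ↥(centralizer ({τ} : Set G))) ≤ Q := by
    rw [← hF]; exact CfsgLib.Cores.centralizer_generalizedFittingSubgroup_le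
  exact ⟨τ, Recog.isOfJankoFourTypeAt τ h2 Q N _ hQN hNM hidx hX hcard hN3 hcent hperf hself hout h22⟩

end CfsgLib.JankoFour
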