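import Cfsg.Agent.Lib.JankoFour.InvolM24Data
import Cfsg.Agent.Lib.M24Cert.SextetStab
import Cfsg.Agent.Lib.M24Cert.ClassFacts
import Cfsg.Agent.Lib.Golay.CodeDual

/-!
# The involutions of the Mathieu group on the even cocode

An element of square one fixes at most 63 others in a sextet kernel; a class of the even cocode fixed by such an
element has a representative meeting evenly every tetrad of some sextet whose tetrads the element fixes.
-/

set_option autoImplicit false

namespace CfsgLib.JankoFour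

open Cfsg CfsgLib.Golay CfsgLib.M24Cert

open scoped Pointwise symmDiff

theorem sextet_kernel_le : ∀ S ∈ sextets,
    ({σ : Equiv.Perm GolayPt | σ ∈ M24 ∧ σ * σ = 1 ∧ ∀ t ∈ S, σ • t = t}).ncard ≤ 64 := by
  intro S hS
  obtain ⟨g, hg, rfl⟩ := sextets_transitive hS
  calc ({σ : Equiv.Perm GolayPt | σ ∈ M24 ∧ σ * σ = 1 ∧ ∀ t ∈ g • sexTbl.el 776, σ • t = t}).ncard
      ≤ ((fun x => g * x * g⁻¹) '' (sqGroup sexSquares : Set (Equiv.Perm GolayPt))).ncard := by
        refine Set.ncard_le_ncard ?_ (Set.toFinite _)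
        rintro σ ⟨hσ, h2, hfix⟩
        refine ⟨g⁻¹ * σ * g, tet_square (mem_fixMasks_tet.2 ⟨mul_mem (mul_mem (inv_mem hg) hσ) hg, fun t ht => ?_⟩) ?_, by group⟩
        · rw [mul_smul, mul_smul, hfix _ (Finset.smul_mem_smul_finset ht), inv_smul_smul]
        · calc g⁻¹ * σ * g * (g⁻¹ * σ * g) = g⁻¹ * (σ * σ) * g := by group
            _ = 1 := by rw [h2]; group
    _ ≤ (sqGroup sexSquares : Set (Equiv.Perm GolayPt)).ncard := Set.ncard_image_le (Set.toFinite _)
    _ = 64 := by rw [← Nat.card_coe_set_eq]; exact (sqGroup_spec tet_checks.2.1).2.1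

/-- All tetrads meet the mask evenly. -/
noncomputable def evenB (n : ℕ) (ts : List ℕ) : Bool := allB (fun t => Nat.beq (bc (Nat.land n t) % 2) 0) ts

/-- The data of a certificate are right. -/
noncomputable def certOk (app : ℕ → ℕ) (c : SexCert) : Bool :=
  Nat.ble (c.idx + 1) 1771 && eqB c.tets (sexTbl.obj c.idx) && inCodeT c.word &&
    allB (fun t => Nat.beq (app t) t) c.tets

/-- Every fixed class has a representative of the shape wanted. -/
noncomputable def coverB (app : ℕ → ℕ) (cs : List SexCert) : Bool :=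
  allLt (fun m => let n := 4096 * m
    !(Nat.beq (bc n % 2) 0 && inCodeT (Nat.xor n (app n))) ||
      anyB (fun c => evenB n c.tets || evenB (Nat.xor n c.word) c.tets) cs) 4096

theorem cover_checks :
    (allB (certOk id) covOne = true ∧ coverB id covOne = true) ∧
    (allB (certOk elT.app) covT = true ∧ coverB elT.app covT = true) ∧
    (allB (certOk elU.app) covU = true ∧ coverB elU.app covU = true) := by
  refine ⟨⟨?_, ?_⟩, ⟨?_, ?_⟩, ?_, ?_⟩ <;> decide +kernel

theorem evenB_spec {n i : ℕ} (h : evenB n (sexTbl.obj i) = true) :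
    ∀ u ∈ sexTbl.el i, 2 ∣ (toSet n ∩ u).card := by
  intro u hu
  obtain ⟨t, ht, rfl⟩ := mem_oset.1 hu
  rw [← toSet_and, card_toSet_bc]
  exact Nat.dvd_of_mod_eq_zero (Nat.eq_of_beq_eq_true (allB_iff.1 h t ht))

theorem mem_supports_of_inCodeT {n : ℕ} (h : inCodeT n = true) :
    toSet n ∈ supports (golayCode : Set (GolayPt → ZMod 2)) :=
  mem_supports.2 ⟨n, mem_golayList_of_inCodeT h, rfl⟩

theorem supports_card_even {c : Finset GolayPt} (h : c ∈ supports (golayCode : Set (GolayPt → ZMod 2))) :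
    2 ∣ c.card := by
  obtain ⟨n, hn, rfl⟩ := mem_supports.1 h
  rw [card_toSet]
  rcases golay_weights n hn with e | e | e | e | e <;> omega

theorem card_symmDiff_mod (a b : Finset GolayPt) : (a ∆ b).card + 2 * (a ∩ b).card = a.card + b.card := by
  have h : a ∆ b = (a ∪ b) \ (a ∩ b) := by ext; simp [Finset.mem_symmDiff]; tauto
  have hsub : a ∩ b ⊆ a ∪ b := Finset.inter_subset_left.trans Finset.subset_union_left
  have := Finset.card_union_add_card_inter a b
  have := Finset.card_sdiff_add_card_eq_card hsub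
  rw [h]; omega

theorem inCodeT_of_mem : allSpan inCodeT golayBasis 0 = true := by decide +kernel

/-- The statement for one representative given by its action on masks. -/
theorem cocode_rep {σ : Equiv.Perm GolayPt} (hσ : σ ∈ M24) (app : ℕ → ℕ)
    (happ : ∀ n < 2 ^ 24, σ • toSet n = toSet (app n) ∧ app n < 2 ^ 24) {cs : List SexCert}
    (hc : allB (certOk app) cs = true ∧ coverB app cs = true) (s : Finset GolayPt) (hs : 2 ∣ s.card)
    (hfix : s ∆ (σ • s) ∈ supports (golayCode : Set (GolayPt → ZMod 2))) :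
    ∃ S ∈ sextets, (∀ t ∈ S, σ • t = t) ∧ ∃ r : Finset GolayPt, (∀ u ∈ S, 2 ∣ (r ∩ u).card) ∧
      s ∆ r ∈ supports (golayCode : Set (GolayPt → ZMod 2)) := by
  obtain ⟨k, hk, rfl⟩ := exists_mask s
  set n := k ^^^ proj k with hn
  have hlt : n < 2 ^ 24 := Nat.xor_lt_two_pow hk (golayList_lt _ (proj_mem k))
  have hkn : toSet k ∆ toSet n ∈ supports (golayCode : Set (GolayPt → ZMod 2)) :=
    mem_supports.2 ⟨proj k, proj_mem k, by rw [← toSet_xor, hn, ← Nat.xor_assoc, Nat.xor_self, Nat.zero_xor]⟩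
  have hev : bc n % 2 = 0 := by
    have := supports_card_even hkn
    have := card_symmDiff_mod (toSet k) (toSet n)
    rw [← card_toSet_bc]
    omega
  have hlow : ∀ i < 12, n.testBit i = false := fun i hi => by
    rw [hn, Nat.testBit_xor, proj_testBit k hi]; simp
  obtain ⟨m, hm, hnm⟩ : ∃ m < 4096, n = 4096 * m := by
    refine ⟨n / 4096, by omega, ?_⟩
    have : n % 2 ^ 12 = 0 := Nat.eq_of_testBit_eq fun i => by
      rw [Nat.testBit_mod_two_pow, Nat.zero_testBit]
      by_cases hi : i < 12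
      · simp [hlow i hi]
      · simp [hi]
    omega
  obtain ⟨han, hlt'⟩ := happ n hlt
  have hfixn : inCodeT (Nat.xor n (app n)) = true := by
    have h1 : toSet n ∆ (σ • toSet n) ∈ supports (golayCode : Set (GolayPt → ZMod 2)) := by
      have h2 := symmDiff_mem_supports (symmDiff_mem_supports hkn hfix) (supports_smul hσ hkn)
      rwa [Finset.smul_finset_symmDiff, symmDiff_comm (toSet k) (toSet n), symmDiff_assoc (toSet n) (toSet k),
        symmDiff_symmDiff_cancel_left, symmDiff_assoc (toSet n), symmDiff_symmDiff_cancel_left] at h2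
    rw [han, ← toSet_xor] at h1
    obtain ⟨c, hc', e⟩ := mem_supports.1 h1
    have := toSet_inj (golayList_lt c hc') (Nat.xor_lt_two_pow hlt hlt') e
    subst this
    exact forall_golayList inCodeT_of_mem _ hc'
  have h := allLt_spec hc.2 m hm
  simp only [← hnm, hfixn, hev, Nat.beq_refl, Bool.and_self, Bool.not_true, Bool.false_or, anyB_iff,
    Bool.or_eq_true] at h
  obtain ⟨c, hcc, hev'⟩ := h
  have hok := allB_iff.1 hc.1 c hcc
  simp only [certOk, Bool.and_eq_true, Nat.ble_eq, allB_iff] at hok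
  obtain ⟨⟨⟨hi, he⟩, hw⟩, ht⟩ := hok
  have hi' : c.idx < sexTbl.N := hi
  rw [eqB_eq he] at hev' ht
  refine ⟨sexTbl.el c.idx, sexTbl_mem _ hi', fun t htm => ?_, ?_⟩
  · obtain ⟨a, ha, rfl⟩ := mem_oset.1 htm
    rw [(happ a (sexTbl.small _ a ha)).1, Nat.eq_of_beq_eq_true (ht a ha)]
  rcases hev' with h | h
  · exact ⟨toSet n, evenB_spec h, hkn⟩
  · refine ⟨toSet (n ^^^ c.word), evenB_spec h, ?_⟩
    rw [toSet_xor, ← symmDiff_assoc]
    exact symmDiff_mem_supports hkn (mem_supports_of_inCodeT hw)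

theorem involution_cocode : ∀ σ ∈ M24, σ * σ = 1 → ∀ s : Finset GolayPt, 2 ∣ s.card →
    (s ∆ (σ • s)) ∈ supports (golayCode : Set (GolayPt → ZMod 2)) →
    ∃ S ∈ sextets, (∀ t ∈ S, σ • t = t) ∧ ∃ t r : Finset GolayPt, 2 ∣ t.card ∧ (∀ u ∈ S, 2 ∣ (r ∩ u).card) ∧
      (s ∆ (t ∆ (σ • t)) ∆ r) ∈ supports (golayCode : Set (GolayPt → ZMod 2)) := by
  intro σ hσ h2 s hs hfix
  suffices ∃ S ∈ sextets, (∀ t ∈ S, σ • t = t) ∧ ∃ r : Finset GolayPt, (∀ u ∈ S, 2 ∣ (r ∩ u).card) ∧
      s ∆ r ∈ supports (golayCode : Set (GolayPt → ZMod 2)) by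
    obtain ⟨S, hS, hfS, r, hr, hsr⟩ := this
    refine ⟨S, hS, hfS, ∅, r, dvd_zero _, hr, ?_⟩
    rw [Finset.smul_finset_empty, symmDiff_self, Finset.bot_eq_empty]
    rwa [show s ∆ (∅ : Finset GolayPt) = s from symmDiff_bot s]
  obtain ⟨-, -, -, hT, hU, -⟩ := certs_ok
  have happ : ∀ {G : GenT}, G.m24 = true → ∀ n < 2 ^ 24, pL G.L • toSet n = toSet (G.app n) ∧ G.app n < 2 ^ 24 :=
    fun hG n _ => by
      obtain ⟨hok, hv⟩ := GenT.valid' hG
      rw [GenT.app_eq hok, smul_toSet_imgF hv]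
      exact ⟨rfl, imgF_lt hv n⟩
  have moved : ∀ (u g : Equiv.Perm GolayPt), u ∈ M24 → σ = u * g * u⁻¹ →
      (∀ s : Finset GolayPt, 2 ∣ s.card → s ∆ (g • s) ∈ supports (golayCode : Set (GolayPt → ZMod 2)) →
        ∃ S ∈ sextets, (∀ t ∈ S, g • t = t) ∧ ∃ r : Finset GolayPt, (∀ w ∈ S, 2 ∣ (r ∩ w).card) ∧
          s ∆ r ∈ supports (golayCode : Set (GolayPt → ZMod 2))) →
      ∃ S ∈ sextets, (∀ t ∈ S, σ • t = t) ∧ ∃ r : Finset GolayPt, (∀ w ∈ S, 2 ∣ (r ∩ w).card) ∧
        s ∆ r ∈ supports (golayCode : Set (GolayPt → ZMod 2)) := by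
    rintro u g hu rfl H
    obtain ⟨S, hS, hfS, r, hr, hsr⟩ := H (u⁻¹ • s) (by rwa [Finset.card_smul_finset]) (by
      have := supports_smul (inv_mem hu) hfix
      rwa [Finset.smul_finset_symmDiff, mul_smul, mul_smul, inv_smul_smul] at this)
    refine ⟨u • S, sextets_smul hu hS, fun t ht => ?_, u • r, fun w hw => ?_, ?_⟩
    · obtain ⟨t', ht', rfl⟩ := Finset.mem_smul_finset.1 ht
      rw [mul_smul, inv_smul_smul, mul_smul, hfS t' ht']
    · obtain ⟨w', hw', rfl⟩ := Finset.mem_smul_finset.1 hw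
      rw [← Finset.smul_finset_inter, Finset.card_smul_finset]
      exact hr w' hw'
    · have := supports_smul hu hsr
      rwa [Finset.smul_finset_symmDiff, smul_inv_smul] at this
  by_cases h1 : σ = 1
  · subst h1
    exact cocode_rep hσ id (fun n hn => ⟨one_smul _ _, hn⟩) cover_checks.1 s hs hfix
  obtain ⟨u, hu, h⟩ := inv_cases hσ (orderOf_eq_prime (by rw [pow_two, h2]) h1)
  rcases h with ⟨e, -⟩ | ⟨e, -⟩
  · exact moved u _ hu e (cocode_rep (GenT.mem_M24 hT) _ (happ hT) cover_checks.2.1)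
  · exact moved u _ hu e (cocode_rep (GenT.mem_M24 hU) _ (happ hU) cover_checks.2.2)

end CfsgLib.JankoFour
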