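import Cfsg.Agent.Lib.JankoFour.Thompson.Normaliser
import Cfsg.Agent.Lib.JankoFour.InvolM24
import Cfsg.Agent.Lib.Golay.Uniq23
import Cfsg.Agent.Lib.Golay.Uniq24
import Cfsg.Agent.Lib.Golay.Cosets

/-!
# The big elementary subgroup as the even cocode, and the action of the two-core on the sextet of the involution
-/

set_option autoImplicit false
set_option linter.unusedSectionVars false
set_option linter.style.haveILetI false
set_option maxHeartbeats 1000000

namespace CfsgLib.JankoFour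

open Subgroup QuadraticMap
open Cfsg (GolayPt octads supports golayCode sextets)
open CfsgLib.JankoFour.Thompson (Ctx Ns Zs nb inner)
open CfsgLib.LargeFischer (vadd_self)
open CfsgLib.LargeFischer.Thompson (val Pairing)
open scoped Pointwise symmDiff

theorem symmDiff_card (s t : Finset GolayPt) : (s ∆ t).card + 2 * (s ∩ t).card = s.card + t.card := by
  have h1 := Finset.card_sdiff_add_card_inter s t
  have h2 := Finset.card_sdiff_add_card_inter t s
  rw [Finset.inter_comm t s] at h2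
  rw [show s ∆ t = (s \ t) ∪ (t \ s) from rfl, Finset.card_union_of_disjoint disjoint_sdiff_sdiff]
  omega

variable {G : Type*} [Group G] [Finite G]

/-- The elementary group as the even cocode with the action of its normaliser. -/
structure Lab (z : G) (A : Subgroup G) (ψ : ↥(Subgroup.normalizer (A : Set G)) →* Equiv.Perm GolayPt)
    (Φ : Finset GolayPt → G) : Prop where
  mem : ∀ t, Φ t ∈ A
  mul : ∀ s t, Φ (s ∆ t) = Φ s * Φ t
  code : ∀ t, 2 ∣ t.card → (Φ t = 1 ↔ t ∈ supports (golayCode : Set (GolayPt → ZMod 2)))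
  surj : ∀ a ∈ A, ∃ t, 2 ∣ t.card ∧ t.card ≤ 4 ∧ Φ t = a
  duad : ∀ t, t.card = 2 → Φ t ∈ Ns z A
  conj : ∀ (m : ↥(Subgroup.normalizer (A : Set G))) (t : Finset GolayPt), 2 ∣ t.card →
    (m : G) * Φ t * (m : G)⁻¹ = Φ (ψ m • t)
  ker : ∀ m, ψ m = 1 ↔ (m : G) ∈ A
  range : ψ.range = Cfsg.M24

section Exists

variable {z : G} {Q : Subgroup (centralizer ({z} : Set G))} [Q.Normal] {V : Type*} [AddCommGroup V] [Module (ZMod 2) V]
  [DistribMulAction ((centralizer ({z} : Set G)) ⧸ Q) V] [Finite V] {q : QuadraticForm (ZMod 2) V} {π : ↥Q → V}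
  {n : (centralizer ({z} : Set G)) ⧸ Q} {M : Subgroup ((centralizer ({z} : Set G)) ⧸ Q)} {φ : ↥M →* ↥Cfsg.Spor.M22}
  {s : V} {A : Subgroup G} {Ab : Subgroup ((centralizer ({z} : Set G)) ⧸ Q)}

theorem exists_lab (c : Ctx Q q π n M φ s A Ab) : ∃ ψ Φ, Lab z A ψ Φ := by
  classical
  letI : CommGroup ↥A := { (inferInstance : Group ↥A) with
    mul_comm := fun a b => Subtype.ext (c.comm a.2 b.2) }
  obtain ⟨f₀, hmem, hpair, hcover⟩ := c.exists_labelling
  let N₀ : Set ↥A := {x | (x : G) ∈ Ns z A}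
  have himg : ∀ S : Set G, S ⊆ (A : Set G) → ((Subtype.val : ↥A → G) ⁻¹' S).ncard = S.ncard := fun S hS =>
    Set.ncard_preimage_of_injective_subset_range Subtype.val_injective fun x hx => ⟨⟨x, hS hx⟩, rfl⟩
  have hP₀ : Pairing N₀ (fun a => (⟨f₀ a, hmem a⟩ : ↥A)) := by
    refine ⟨fun x => Subtype.ext (c.sq x.2), c.card, by simp, ?_, fun d hd => ?_, fun h => h.2.1 rfl,
      fun a b hab => hpair a b hab, fun x hx => ?_⟩
    · rw [show N₀ = (Subtype.val : ↥A → G) ⁻¹' Ns z A from rfl, himg _ fun x hx => hx.1, c.Ns_counts.1]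
    · rw [show {e | e ∈ N₀ ∧ d * e ∈ N₀} = (Subtype.val : ↥A → G) ⁻¹' nb z A (d : G) from rfl,
        himg _ fun x hx => hx.1.1, c.degree hd]
    · obtain ⟨a, b, hab, e⟩ := hcover _ hx
      exact ⟨a, b, hab, Subtype.ext e⟩
  obtain ⟨e, he⟩ := CfsgLib.Golay.iso_octads hP₀.cardPts hP₀.steiner
  let f : GolayPt → ↥A := fun p => ⟨f₀ (e.symm p), hmem _⟩
  have hP : Pairing N₀ f := by
    refine ⟨hP₀.sq, hP₀.cardB, by rw [← Fintype.card_congr e]; exact hP₀.cardPts, hP₀.count, hP₀.degree,
      hP₀.one_notMem, fun a b hab => hP₀.pair _ _ (fun h => hab (e.symm.injective h)), fun x hx => ?_⟩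
    obtain ⟨a, b, hab, ex⟩ := hP₀.cover x hx
    exact ⟨e a, e b, fun h => hab (e.injective h), by simp only [f, Equiv.symm_apply_apply]; exact ex⟩
  have hblk : {b : Finset GolayPt | b.card = 8 ∧ b.prod f = 1} = octads := by
    rw [← he]
    ext b
    constructor
    · rintro ⟨h8, h1⟩
      refine ⟨b.image e.symm, ⟨?_, ?_⟩, ?_⟩
      · rw [Finset.card_image_of_injective _ e.symm.injective, h8]
      · rw [Finset.prod_image fun x _ y _ h => e.symm.injective h]; exact h1
      · show (b.image e.symm).image e = b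
        rw [Finset.image_image]
        simp
    · rintro ⟨c, ⟨h8, h1⟩, rfl⟩
      refine ⟨by rw [Finset.card_image_of_injective _ e.injective, h8], ?_⟩
      rw [Finset.prod_image fun x _ y _ h => e.injective h]
      simpa only [f, Equiv.symm_apply_apply] using h1
  set N := Subgroup.normalizer (A : Set G)
  let ρ : ↥N → (↥A ≃* ↥A) := fun m =>
    { toFun := fun x => ⟨(m : G) * x * (m : G)⁻¹, c.conj_mem m.2 x.2⟩
      invFun := fun x => ⟨(m⁻¹ : ↥N) * x * ((m⁻¹ : ↥N) : G)⁻¹, c.conj_mem (m⁻¹ : ↥N).2 x.2⟩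
      left_inv := fun x => Subtype.ext (by simp [mul_assoc])
      right_inv := fun x => Subtype.ext (by simp [mul_assoc])
      map_mul' := fun x y => Subtype.ext (by simp [mul_assoc]) }
  have hρN : ∀ m x, ρ m x ∈ N₀ ↔ x ∈ N₀ := fun m x => by
    constructor
    · intro hx
      have := c.Ns_conj (m⁻¹ : ↥N).2 (show (m : G) * x * (m : G)⁻¹ ∈ Ns z A from hx)
      simpa [N₀, mul_assoc] using this
    · intro hx
      exact c.Ns_conj m.2 hx
  choose g hg using fun m => hP.exists_perm (ρ m) (hρN m)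
  let ψ : ↥N →* Equiv.Perm GolayPt := MonoidHom.mk' g fun m m' => hP.perm_unique fun a b => by
    show f (g (m * m') a) * f (g (m * m') b) = f (g m (g m' a)) * f (g m (g m' b))
    rw [← hg (m * m'), ← hg m, ← hg m']
    exact Subtype.ext (by simp [ρ, mul_assoc])
  -- even products: one exactly on the code
  have hcode : ∀ t : Finset GolayPt, 2 ∣ t.card →
      (t.prod f = 1 ↔ t ∈ supports (golayCode : Set (GolayPt → ZMod 2))) := by
    intro t
    induction hk : t.card using Nat.strong_induction_on generalizing t with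
    | _ k ih =>
      intro h2
      by_cases h4 : k ≤ 4
      · constructor
        · intro h1
          rw [hP.small (by rwa [hk]) (by omega) h1]
          exact CfsgLib.Golay.empty_mem_supports
        · intro hs
          rcases CfsgLib.Golay.supports_weight hs with h | h | h | h | h
          · rw [Finset.card_eq_zero.1 h, Finset.prod_empty]
          all_goals omega
      · obtain ⟨u, hu, hu5⟩ := Finset.exists_subset_card_eq (show 5 ≤ t.card by omega)
        obtain ⟨o, ⟨ho, huo⟩, -⟩ := CfsgLib.Golay.octads_steiner.2 u hu5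
        have ho' := hblk.symm ▸ ho
        have h5 : 5 ≤ (t ∩ o).card := hu5 ▸ Finset.card_le_card (Finset.subset_inter hu huo)
        have hc := symmDiff_card t o
        rw [ho'.1, hk] at hc
        have := ih (t ∆ o).card (by omega) (t ∆ o) rfl (by omega)
        rw [hP.prod_symmDiff, ho'.2, mul_one] at this
        rw [this]
        constructor
        · intro h
          have := CfsgLib.Golay.symmDiff_mem_supports h ho.1
          rwa [symmDiff_symmDiff_cancel_right] at this
        · exact fun h => CfsgLib.Golay.symmDiff_mem_supports h ho.1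
  have hker : ∀ m, ψ m = 1 ↔ (m : G) ∈ A := by
    intro m
    constructor
    · intro hm
      refine c.cent fun a ha => ?_
      obtain ⟨t, ht, -, htx⟩ := hP.exhaust.1 ⟨a, ha⟩
      have h1 : (t.image (g m)).prod f = ρ m (t.prod f) := hP.prod_image_perm (hg m) ht
      rw [show g m = 1 from hm, htx] at h1
      have h2 : ρ m ⟨a, ha⟩ = ⟨a, ha⟩ := by rw [← h1]; simpa using htx
      exact mul_inv_eq_iff_eq_mul.1 (congrArg Subtype.val h2)
    · intro hm
      refine hP.perm_unique fun a b => ?_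
      show f (g m a) * f (g m b) = _
      rw [← hg m a b]
      exact Subtype.ext (mul_inv_eq_iff_eq_mul.2 (c.comm hm (f a * f b).2))
  have hrange : ψ.range ≤ Cfsg.M24 := by
    rintro _ ⟨m, rfl⟩
    refine CfsgLib.Golay.smul_octads_mem_M24 _ fun o ho _ => ?_
    rw [← hblk] at ho ⊢
    obtain ⟨h8, h1⟩ := ho
    rw [Finset.smul_finset_def]
    refine ⟨?_, ?_⟩
    · rw [Finset.card_image_of_injective _ (MulAction.injective (ψ m)), h8]
    · show (o.image (g m)).prod f = 1
      rw [hP.prod_image_perm (hg m) (by rw [h8]; norm_num), h1, map_one]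
  refine ⟨ψ, fun t => ((t.prod f : ↥A) : G), ⟨fun t => SetLike.coe_mem _, fun a b => ?_, fun t ht => ?_,
    fun a ha => ?_, fun t ht => hP.pair_mem ht, fun m t ht => ?_, hker, eq_of_le_of_card_ge hrange ?_⟩⟩
  · show ((((a ∆ b).prod f : ↥A)) : G) = _
    rw [hP.prod_symmDiff]; rfl
  · rw [← hcode t ht]
    exact ⟨fun h => Subtype.ext h, fun h => congrArg Subtype.val h⟩
  · obtain ⟨t, ht, h4, e⟩ := hP.exhaust.1 ⟨a, ha⟩
    exact ⟨t, ht, h4, congrArg Subtype.val e⟩
  · show (ρ m (t.prod f) : G) = _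
    rw [← hP.prod_image_perm (hg m) ht, Finset.smul_finset_def]
    rfl
  · have hk : ψ.ker = A.subgroupOf N := by
      ext m
      exact hker m
    have h := ψ.ker.card_mul_index
    rw [Subgroup.index_ker, hk, Nat.card_congr (subgroupOfEquivOfLe (Subgroup.le_normalizer)).toEquiv, c.card,
      show Nat.card ↥N = _ from c.orbit_stab.symm, c.Zs_facts.1] at h
    rw [CfsgLib.Golay.card_M24]
    omega

variable {ψ : ↥(Subgroup.normalizer (A : Set G)) →* Equiv.Perm GolayPt} {Φ : Finset GolayPt → G}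

theorem Lab.smul_card (m : ↥(Subgroup.normalizer (A : Set G))) (t : Finset GolayPt) : (ψ m • t).card = t.card :=
  Finset.card_smul_finset _ _

/-- Two small sets of the same value are equal or disjoint. -/
theorem Lab.eq_or_disjoint (l : Lab z A ψ Φ) (c : Ctx Q q π n M φ s A Ab) {t u : Finset GolayPt}
    (ht : t.card = 4) (hu : u.card = 4) (e : Φ t = Φ u) : t = u ∨ Disjoint t u := by
  rw [Finset.disjoint_iff_inter_eq_empty]
  by_cases h : t ∩ u = ∅
  · exact Or.inr h
  · left
    have hc := symmDiff_card t u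
    have hpos := Finset.card_pos.2 (Finset.nonempty_iff_ne_empty.2 h)
    have hs := (l.code (t ∆ u) (by omega)).1 (by rw [l.mul, e, c.sq (l.mem u)])
    rcases CfsgLib.Golay.supports_weight hs with h' | h' | h' | h' | h'
    · exact symmDiff_eq_bot.1 (Finset.card_eq_zero.1 h')
    all_goals omega

/-- The sextet of the central involution, and the action of the two-core on it. -/
theorem Lab.exists_sextet (l : Lab z A ψ Φ) (c : Ctx Q q π n M φ s A Ab) :
    ∃ S ∈ sextets, (∀ t ∈ S, Φ t = z) ∧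
      (∀ t ∈ S, ∀ r : Finset GolayPt, r ⊆ t → r.card = 2 → ∃ u : ↥Q, val u = Φ r) ∧
      (∀ u : ↥Q, ψ ⟨val u, c.q_mem_N u⟩ * ψ ⟨val u, c.q_mem_N u⟩ = 1 ∧
        ∀ t ∈ S, ψ ⟨val u, c.q_mem_N u⟩ • t = t) ∧
      ∀ σ ∈ Cfsg.M24, σ * σ = 1 → (∀ t ∈ S, σ • t = t) → ∃ u : ↥Q, ψ ⟨val u, c.q_mem_N u⟩ = σ := by
  classical
  set S : Finset (Finset GolayPt) := ((Finset.univ : Finset GolayPt).powersetCard 4).filter fun t => Φ t = z with hS
  have hmS : ∀ {t}, t ∈ S ↔ t.card = 4 ∧ Φ t = z := fun {t} => by simp [hS]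
  have hunion : ∀ t ∈ S, ∀ u ∈ S, t ≠ u → t ∪ u ∈ octads := by
    intro t ht u hu hne
    obtain ⟨ht4, htz⟩ := hmS.1 ht
    obtain ⟨hu4, huz⟩ := hmS.1 hu
    have hd := (l.eq_or_disjoint c ht4 hu4 (htz.trans huz.symm)).resolve_left hne
    have e : t ∆ u = t ∪ u := hd.symmDiff_eq_sup
    have hc : (t ∪ u).card = 8 := by rw [Finset.card_union_of_disjoint hd, ht4, hu4]
    exact ⟨(l.code _ (by rw [hc]; norm_num)).1 (by rw [← e, l.mul, htz, huz, c.zz]), hc⟩
  obtain ⟨t₀, ht₀⟩ : ∃ t, t ∈ S := by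
    obtain ⟨t, h2, h4, e⟩ := l.surj z c.z_mem
    refine ⟨t, hmS.2 ⟨?_, e⟩⟩
    rcases (show t.card = 0 ∨ t.card = 2 ∨ t.card = 4 by omega) with h | h | h
    · exact absurd (e.symm.trans ((l.code t h2).2 (Finset.card_eq_zero.1 h ▸ CfsgLib.Golay.empty_mem_supports))) c.z_ne
    · exact absurd (IsConj.refl z) (e ▸ (l.duad t h).2.2)
    · exact h
  have hcov : ∀ p : GolayPt, ∃ t ∈ S, p ∈ t := by
    intro p
    obtain ⟨h4, hz⟩ := hmS.1 ht₀
    by_cases hp : p ∈ t₀
    · exact ⟨t₀, ht₀, hp⟩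
    · obtain ⟨o, ⟨ho, hto⟩, -⟩ := CfsgLib.Golay.octads_steiner.2 (insert p t₀)
        (by rw [Finset.card_insert_of_notMem hp, h4])
      refine ⟨o \ t₀, hmS.2 ⟨?_, ?_⟩, Finset.mem_sdiff.2 ⟨hto (Finset.mem_insert_self _ _), hp⟩⟩
      · rw [Finset.card_sdiff_of_subset ((Finset.subset_insert _ _).trans hto), ho.2, h4]
      · rw [show o \ t₀ = o ∆ t₀ from (symmDiff_of_ge ((Finset.subset_insert p t₀).trans hto)).symm, l.mul,
          (l.code o (by rw [ho.2]; norm_num)).2 ho.1, one_mul, hz]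
  have hsix : S.card = 6 := by
    have h1 : (S.biUnion fun a => a) = Finset.univ := Finset.eq_univ_iff_forall.2 fun p => by
      obtain ⟨t, ht, hp⟩ := hcov p
      exact Finset.mem_biUnion.2 ⟨t, ht, hp⟩
    have h2 := congrArg Finset.card h1
    rw [Finset.card_biUnion (fun a ha b hb hne => (l.eq_or_disjoint c (hmS.1 ha).1 (hmS.1 hb).1
      ((hmS.1 ha).2.trans (hmS.1 hb).2.symm)).resolve_left hne),
      Finset.sum_const_nat (m := 4) (fun x hx => (hmS.1 hx).1), Finset.card_univ, show Fintype.card GolayPt = 24 by simp] at h2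
    omega
  have hS6 : S ∈ sextets := ⟨hsix, fun t ht => (hmS.1 ht).1, hunion⟩
  -- duads in a tetrad lie in the two-core
  have hduadQ : ∀ t ∈ S, ∀ r : Finset GolayPt, r ⊆ t → r.card = 2 → ∃ u : ↥Q, val u = Φ r := by
    intro t ht r hr h2
    by_contra hc
    obtain ⟨h4, hz⟩ := hmS.1 ht
    refine c.no_z_pair (l.duad r h2) hc ?_
    have hr2 : (t \ r).card = 2 := by rw [Finset.card_sdiff_of_subset hr, h4, h2]
    have e : z * Φ r = Φ (t \ r) := by
      rw [← hz, ← l.mul, show t ∆ r = t \ r from symmDiff_of_ge hr]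
    exact e ▸ l.duad _ hr2
  have hQfix : ∀ u : ↥Q, ψ ⟨val u, c.q_mem_N u⟩ * ψ ⟨val u, c.q_mem_N u⟩ = 1 ∧
      ∀ t ∈ S, ψ ⟨val u, c.q_mem_N u⟩ • t = t := by
    intro u
    set m : ↥(Subgroup.normalizer (A : Set G)) := ⟨val u, c.q_mem_N u⟩
    refine ⟨?_, fun t ht => ?_⟩
    · rw [← map_mul, l.ker]
      show val u * val u ∈ A
      rcases (c.mdl.ker (u * u)).1 (by rw [c.mdl.pi_mul, vadd_self]) with h | h
      · rw [show val u * val u = 1 from h]; exact one_mem A
      · rw [show val u * val u = z from h]; exact c.z_mem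
    · obtain ⟨h4, hz⟩ := hmS.1 ht
      have hin : ∀ r : Finset GolayPt, r ⊆ t → r.card = 2 → ψ m • r ⊆ t := by
        intro r hr h2
        obtain ⟨w, hw⟩ := hduadQ t ht r hr h2
        have hconj : val u * Φ r * (val u)⁻¹ = Φ r ∨ val u * Φ r * (val u)⁻¹ = Φ r * z := by
          rw [← hw]
          have h := (c.mdl.ker (u * w * u⁻¹ * w⁻¹)).1 (by
            rw [c.mdl.pi_mul, c.mdl.pi_mul, c.mdl.pi_mul, c.mdl.pi_inv, c.mdl.pi_inv]
            rw [add_right_comm (π u) (π w) (π u), vadd_self, zero_add, vadd_self])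
          rcases h with e | e
          · left
            exact mul_inv_eq_one.1 (show val u * val w * (val u)⁻¹ * (val w)⁻¹ = 1 from e)
          · right
            rw [mul_inv_eq_iff_eq_mul.1 (show val u * val w * (val u)⁻¹ * (val w)⁻¹ = z from e), c.comm_z (w : centralizer ({z} : Set G))]
        have hm2 : (ψ m • r).card = 2 := (Finset.card_smul_finset _ _).trans h2
        have e := l.conj m r (by rw [h2])
        have hrt : (t \ r).card = 2 := by rw [Finset.card_sdiff_of_subset hr, h4, h2]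
        have key : ∀ P : Finset GolayPt, P.card = 2 → Φ P = Φ (ψ m • r) → ψ m • r = P := by
          intro P hP eP
          have hc := symmDiff_card (ψ m • r) P
          have hs := (l.code ((ψ m • r) ∆ P) (by omega)).1 (by rw [l.mul, eP, c.sq (l.mem _)])
          rcases CfsgLib.Golay.supports_weight hs with h' | h' | h' | h' | h'
          · exact symmDiff_eq_bot.1 (Finset.card_eq_zero.1 h')
          all_goals omega
        rcases hconj with h | h
        · rw [key r h2 (h.symm.trans e)]; exact hr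
        · rw [key (t \ r) hrt ?_]
          · exact Finset.sdiff_subset
          · rw [← e, show (m : G) = val u from rfl, h, show t \ r = r ∆ t from (symmDiff_of_le hr).symm, l.mul, hz]
      refine Finset.eq_of_subset_of_card_le (fun p hp => ?_) (Finset.card_smul_finset _ _).ge
      obtain ⟨p', hp', rfl⟩ := Finset.mem_smul_finset.1 hp
      obtain ⟨r, hr, hr2⟩ := Finset.exists_subsuperset_card_eq (Finset.singleton_subset_iff.2 hp')
        (show ({p'} : Finset GolayPt).card ≤ 2 by simp) (show 2 ≤ t.card by omega)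
      exact hin r hr2.1 hr2.2 (Finset.smul_mem_smul_finset (hr (Finset.mem_singleton_self p')))
  refine ⟨S, hS6, fun t ht => (hmS.1 ht).2, hduadQ, hQfix, fun σ hσ h2 hfix => ?_⟩
  set X : Set (Equiv.Perm GolayPt) := Set.range fun u : ↥Q => ψ ⟨val u, c.q_mem_N u⟩
  suffices hX : X = {σ : Equiv.Perm GolayPt | σ ∈ Cfsg.M24 ∧ σ * σ = 1 ∧ ∀ t ∈ S, σ • t = t} by
    have : σ ∈ X := hX.symm ▸ ⟨hσ, h2, hfix⟩
    exact this
  refine Set.eq_of_subset_of_ncard_le ?_ ((sextet_kernel_le S hS6).trans ?_) (Set.toFinite _)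
  · rintro _ ⟨u, rfl⟩
    exact ⟨l.range ▸ ⟨_, rfl⟩, hQfix u⟩
  · let inc : ↥Q →* ↥(Subgroup.normalizer (A : Set G)) :=
      MonoidHom.mk' (fun u => ⟨val u, c.q_mem_N u⟩) fun u v => rfl
    let χ := ψ.comp inc
    have hX : X = (χ.range : Set (Equiv.Perm GolayPt)) := rfl
    rw [hX, ← Nat.card_coe_set_eq, SetLike.coe_sort_coe]
    have h := χ.ker.card_mul_index
    rw [Subgroup.index_ker, c.mdl.cardQ] at h
    have hk : Nat.card ↥χ.ker = 128 := by
      rw [← c.inner_ncard]
      show Nat.card ↥χ.ker = (inner Q A).ncard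
      rw [show inner Q A = (fun u : ↥Q => val u) '' (χ.ker : Set ↥Q) from Set.ext fun a => ?_,
        Set.ncard_image_of_injective _ (fun u v e => Subtype.ext (Subtype.ext e)), ← Nat.card_coe_set_eq,
        SetLike.coe_sort_coe]
      constructor
      · rintro ⟨ha, u, rfl⟩
        exact ⟨u, (l.ker _).2 ha, rfl⟩
      · rintro ⟨u, hu, rfl⟩
        exact ⟨(l.ker _).1 hu, u, rfl⟩
    rw [hk] at h
    omega

end Exists

end CfsgLib.JankoFour
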