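import Cfsg.Agent.Lib.MTwentyTwoUnique.Three
import Cfsg.Agent.Lib.MTwentyTwoUnique.Concrete
import Mathlib

/-!
The normalizer of an elementary Sylow 3-subgroup of a group with the local data of the Mathieu group of
degree 22: it is transitive on the eight nontrivial elements and has order 72.
-/

set_option autoImplicit false
set_option linter.style.haveILetI false
set_option linter.unusedSectionVars false

noncomputable section

namespace CfsgLib.JankoFour

open Subgroup CfsgLib.MTwentyTwoUnique Cfsg
attribute [local instance] Classical.propDecidable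

variable {G : Type*} [Group G] [Fintype G] (hL : Local G)
include hL

theorem card_sylow3 (S : Sylow 3 G) : Nat.card ↥(S : Subgroup G) = 9 := by
  haveI : Fact (Nat.Prime 3) := ⟨by norm_num⟩
  exact CfsgLib.SmallGroups.card_sylow_eq (show Nat.card G = 3 ^ 2 * 49280 by rw [hL.card]; norm_num)
    (by norm_num) S

theorem comm_sylow3 (S : Sylow 3 G) : IsMulCommutative ↥(S : Subgroup G) := by
  haveI : Fact (Nat.Prime 3) := ⟨by norm_num⟩
  exact IsPGroup.isMulCommutative_of_card_eq_prime_sq (p := 3) (by rw [card_sylow3 hL S]; norm_num)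

theorem cent36 {x : G} (hx : orderOf x = 3) : Nat.card (centralizer ({x} : Set G)) = 36 := by
  obtain ⟨T⟩ := exists_table hL
  exact (three_vals hL T hx).cent

theorem cent384 {t : G} (ht : orderOf t = 2) : Nat.card (centralizer ({t} : Set G)) = 384 := by
  obtain ⟨T⟩ := exists_table hL
  refine (invol_vals hL T ?_ ?_).cent
  · rw [← pow_two, ← ht, pow_orderOf_eq_one]
  · intro h; rw [h, orderOf_one] at ht; norm_num at ht

/-- Two elements of order three of a Sylow 3-subgroup are conjugate in its normalizer. -/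
theorem conj_in_normalizer (S : Sylow 3 G) {x y : G} (hx : x ∈ (S : Subgroup G))
    (hy : y ∈ (S : Subgroup G)) (hox : orderOf x = 3) (hoy : orderOf y = 3) :
    ∃ n ∈ normalizer ((S : Subgroup G) : Set G), n * x * n⁻¹ = y := by
  haveI : Fact (Nat.Prime 3) := ⟨by norm_num⟩
  haveI := comm_sylow3 hL S
  obtain ⟨g, hg⟩ := isConj_iff.mp (three_conj hL hox hoy)
  obtain ⟨n, hn, he⟩ := S.conj_eq_normalizer_conj_of_mem x g⁻¹ hx (by rw [inv_inv, hg]; exact hy)
  refine ⟨n⁻¹, inv_mem hn, ?_⟩
  rw [inv_inv, hg] at he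
  rw [inv_inv]
  exact he.symm

theorem no_big_pointwise (S : Sylow 3 G) :
    ¬ 2 ∣ Nat.card ↥(centralizer ((S : Subgroup G) : Set G)) := by
  intro h
  haveI : Fact (Nat.Prime 2) := ⟨by norm_num⟩
  obtain ⟨⟨t, ht⟩, hot⟩ := exists_prime_orderOf_dvd_card' (G := ↥(centralizer ((S : Subgroup G) : Set G))) 2 h
  rw [Subgroup.orderOf_mk] at hot
  have hle : (S : Subgroup G) ≤ centralizer ({t} : Set G) := fun s hs =>
    mem_centralizer_singleton_iff.mpr (ht s hs)
  have := card_dvd_of_le hle
  rw [card_sylow3 hL S, cent384 hL hot] at this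
  norm_num at this

/-- The normalizer of an elementary Sylow 3-subgroup has order 72. -/
theorem card_normalizer_sylow3 (S : Sylow 3 G) (hexp : ∀ s ∈ (S : Subgroup G), s ^ 3 = 1) :
    Nat.card ↥(normalizer ((S : Subgroup G) : Set G)) = 72 := by
  classical
  haveI : Fact (Nat.Prime 3) := ⟨by norm_num⟩
  set N := normalizer ((S : Subgroup G) : Set G) with hN
  have h9 := card_sylow3 hL S
  have hord : ∀ s ∈ (S : Subgroup G), s ≠ 1 → orderOf s = 3 := fun s hs h1 =>
    orderOf_eq_prime (hexp s hs) h1
  obtain ⟨⟨x, hx⟩, hox⟩ := exists_prime_orderOf_dvd_card' (G := ↥(S : Subgroup G)) 3 (by rw [h9]; norm_num)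
  rw [Subgroup.orderOf_mk] at hox
  have hx1 : x ≠ 1 := fun h => by rw [h, orderOf_one] at hox; norm_num at hox
  letI : MulAction ↥N G := MulAction.compHom G (MulAut.conj.comp N.subtype)
  have hsmul : ∀ (n : ↥N) (w : G), n • w = (n : G) * w * (n : G)⁻¹ := fun n w => rfl
  have horb : MulAction.orbit ↥N x = ((S : Subgroup G) : Set G) \ {1} := by
    ext w
    constructor
    · rintro ⟨n, rfl⟩
      refine ⟨(mem_normalizer_iff.mp n.2 x).mp hx, fun h => hx1 ?_⟩
      exact conj_eq_one_iff.mp ((hsmul n x).symm.trans h)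
    · rintro ⟨hw, hw1⟩
      obtain ⟨n, hn, he⟩ := conj_in_normalizer hL S hx hw hox (hord w hw hw1)
      exact ⟨⟨n, hn⟩, he⟩
  have h8 : (MulAction.orbit ↥N x).ncard = 8 := by
    rw [horb, Set.ncard_sdiff_singleton_of_mem (one_mem (S : Subgroup G)), ← Nat.card_coe_set_eq]
    have : Nat.card ↥((S : Subgroup G) : Set G) = 9 := h9
    omega
  have hst : MulAction.stabilizer ↥N x = (N ⊓ centralizer ({x} : Set G)).subgroupOf N := by
    ext n
    rw [MulAction.mem_stabilizer_iff, hsmul, mem_subgroupOf, mem_inf, mem_centralizer_singleton_iff,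
      mul_inv_eq_iff_eq_mul]
    exact ⟨fun h => ⟨n.2, h⟩, fun h => h.2⟩
  set L := N ⊓ centralizer ({x} : Set G) with hLdef
  have hcard : Nat.card ↥N = Nat.card ↥L * 8 := by
    have h := (MulAction.stabilizer ↥N x).card_mul_index
    rw [MulAction.index_stabilizer, h8, hst,
      Nat.card_congr (subgroupOfEquivOfLe (inf_le_left : L ≤ N)).toEquiv] at h
    exact h.symm
  have hSC : (S : Subgroup G) ≤ centralizer ({x} : Set G) := fun s hs =>
    mem_centralizer_singleton_iff.mpr (congrArg Subtype.val
      ((comm_sylow3 hL S).is_comm.comm (⟨s, hs⟩ : ↥(S : Subgroup G)) ⟨x, hx⟩))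
  set C := centralizer ({x} : Set G) with hC
  have h36 : Nat.card ↥C = 36 := cent36 hL hox
  have hn3 := (card_sylow_modEq_one 3 ↥C)
  have hindex : Nat.card (Sylow 3 ↥C) = (normalizer (((S.subtype hSC) : Subgroup ↥C) : Set ↥C)).index :=
    Sylow.card_eq_index_normalizer _
  have hnorm : normalizer (((S.subtype hSC) : Subgroup ↥C) : Set ↥C) = L.subgroupOf C := by
    ext c
    simp only [mem_normalizer_iff, Sylow.coe_subtype, mem_subgroupOf, hLdef, mem_inf, hN]
    refine ⟨fun h => ⟨fun w => ?_, c.2⟩, fun h w => ?_⟩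
    · constructor
      · intro hw
        exact (h ⟨w, hSC hw⟩).mp hw
      · intro hw
        have hwC : w ∈ C := by
          have := mul_mem (mul_mem (inv_mem c.2) (hSC hw)) c.2
          rwa [show (c : G)⁻¹ * ((c : G) * w * (c : G)⁻¹) * (c : G) = w by group] at this
        exact (h ⟨w, hwC⟩).mpr hw
    · exact h.1 w
  have hLC : Nat.card ↥L * Nat.card (Sylow 3 ↥C) = 36 := by
    rw [hindex, hnorm, ← Nat.card_congr (subgroupOfEquivOfLe (inf_le_right : L ≤ C)).toEquiv,
      card_mul_index, h36]
  have hdvd : Nat.card (Sylow 3 ↥C) ∣ 4 := by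
    have h := (S.subtype hSC).card_dvd_index
    have hi : ((S.subtype hSC : Sylow 3 ↥C) : Subgroup ↥C).index = 4 := by
      have := ((S.subtype hSC : Sylow 3 ↥C) : Subgroup ↥C).card_mul_index
      rw [Sylow.coe_subtype, Nat.card_congr (subgroupOfEquivOfLe hSC).toEquiv, h9, h36] at this
      rw [Sylow.coe_subtype]
      omega
    rwa [hi] at h
  have hcases : Nat.card (Sylow 3 ↥C) = 1 ∨ Nat.card (Sylow 3 ↥C) = 4 := by
    have h4 := Nat.le_of_dvd (by norm_num) hdvd
    rw [Nat.ModEq] at hn3
    interval_cases h : Nat.card (Sylow 3 ↥C) <;> omega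
  rcases hcases with h1 | h4
  · exfalso
    rw [h1, mul_one] at hLC
    have hLeq : L = C := eq_of_le_of_card_ge inf_le_right (le_of_eq (by rw [hLC, h36]))
    letI : MulAction ↥C G := MulAction.compHom G (MulAut.conj.comp C.subtype)
    let Ω : Set G := ((S : Subgroup G) : Set G) \ ((zpowers x : Subgroup G) : Set G)
    have hinv : ∀ c : ↥C, ∀ w ∈ Ω, c • w ∈ Ω := by
      rintro c w ⟨hw, hwx⟩
      have hcN : (c : G) ∈ L := by rw [hLeq]; exact c.2
      refine ⟨(mem_normalizer_iff.mp (mem_inf.mp hcN).1 w).mp hw, fun hm => hwx ?_⟩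
      obtain ⟨k, hk⟩ := hm
      have hkc : Commute (c : G) (x ^ k) :=
        Commute.zpow_right (mem_centralizer_singleton_iff.mp c.2) k
      refine ⟨k, mul_left_cancel (a := (c : G)) (mul_right_cancel (b := (c : G)⁻¹) ?_)⟩
      change (c : G) * x ^ k * (c : G)⁻¹ = c * w * (c : G)⁻¹
      rw [hkc.eq, mul_inv_cancel_right]
      exact hk
    have h6 : Ω.ncard = 6 := by
      rw [Set.ncard_sdiff (SetLike.coe_subset_coe.mpr (zpowers_le.mpr hx)), ← Nat.card_coe_set_eq,
        ← Nat.card_coe_set_eq]
      have e1 : Nat.card ↥((S : Subgroup G) : Set G) = 9 := h9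
      have e2 : Nat.card ↥((zpowers x : Subgroup G) : Set G) = 3 := (Nat.card_zpowers x).trans hox
      omega
    letI act : MulAction ↥C ↥Ω :=
      { smul := fun c w => ⟨c • (w : G), hinv c w w.2⟩
        one_smul := fun w => Subtype.ext (one_smul ↥C (w : G))
        mul_smul := fun c d w => Subtype.ext (mul_smul c d (w : G)) }
    have hfour : ∀ w : ↥Ω, Nat.card (MulAction.orbit ↥C w) = 4 := by
      intro w
      set A := MulAction.stabilizer ↥C w with hA
      have hAmem : ∀ a : ↥C, a ∈ A ↔ (a : G) * (w : G) = (w : G) * a := fun a => by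
        rw [hA, MulAction.mem_stabilizer_iff, Subtype.ext_iff]
        exact mul_inv_eq_iff_eq_mul
      have hSA : (S : Subgroup G).subgroupOf C ≤ A := fun a ha => (hAmem a).mpr (congrArg Subtype.val
        ((comm_sylow3 hL S).is_comm.comm (⟨a, ha⟩ : ↥(S : Subgroup G)) ⟨w, w.2.1⟩))
      have h9A := card_dvd_of_le hSA
      rw [Nat.card_congr (subgroupOfEquivOfLe hSC).toEquiv, h9] at h9A
      have hprod := A.card_mul_index
      rw [h36, hA, MulAction.index_stabilizer, ← hA] at hprod
      rw [Nat.card_coe_set_eq]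
      have hodd : ¬ 2 ∣ Nat.card ↥A := by
        intro h2
        refine no_big_pointwise hL S (h2.trans ?_)
        rw [Nat.card_congr (A.equivMapOfInjective _ C.subtype_injective).toEquiv]
        refine card_dvd_of_le ?_
        rintro _ ⟨a, ha, rfl⟩
        -- the centralizer of the element and of `x` centralizes the subgroup they generate
        have hgen : (S : Subgroup G) ≤ centralizer ({(a : G)} : Set G) := by
          have hle : zpowers x ⊔ zpowers (w : G) ≤ (S : Subgroup G) :=
            sup_le (zpowers_le.mpr hx) (zpowers_le.mpr w.2.1)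
          have heq : zpowers x ⊔ zpowers (w : G) = (S : Subgroup G) := by
            refine eq_of_le_of_card_ge hle ?_
            have hd := card_dvd_of_le hle
            have hlt : 3 < Nat.card ↥(zpowers x ⊔ zpowers (w : G) : Subgroup G) := by
              by_contra hge
              have e := eq_of_le_of_card_ge (le_sup_left : zpowers x ≤ zpowers x ⊔ zpowers (w : G))
                (by rw [Nat.card_zpowers, hox]; omega)
              exact w.2.2 (e ▸ mem_sup_right (mem_zpowers (w : G)))
            rw [h9] at hd ⊢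
            have h9' := Nat.le_of_dvd (by norm_num) hd
            interval_cases h : Nat.card ↥(zpowers x ⊔ zpowers (w : G) : Subgroup G) <;> simp_all
          rw [← heq]
          refine sup_le (zpowers_le.mpr ?_) (zpowers_le.mpr ?_)
          · exact mem_centralizer_singleton_iff.mpr (mem_centralizer_singleton_iff.mp a.2).symm
          · exact mem_centralizer_singleton_iff.mpr ((hAmem a).mp ha).symm
        intro s hs
        exact mem_centralizer_singleton_iff.mp (hgen hs)
      obtain ⟨k, hk⟩ := h9A
      have : k ∣ 4 := ⟨(MulAction.orbit ↥C w).ncard, by rw [hk] at hprod; linarith⟩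
      have hk4 := Nat.le_of_dvd (by norm_num) this
      rw [hk] at hprod hodd
      interval_cases k
      · omega
      · omega
      · exact absurd (show 2 ∣ 9 * 2 by norm_num) hodd
      · norm_num at this
      · exact absurd (show 2 ∣ 9 * 4 by norm_num) hodd
    have hsum := Nat.card_congr (MulAction.selfEquivSigmaOrbits ↥C ↥Ω)
    letI : Fintype (MulAction.orbitRel.Quotient ↥C ↥Ω) := Fintype.ofFinite _
    rw [Nat.card_sigma, show Nat.card ↥Ω = 6 from (Nat.card_coe_set_eq Ω).trans h6] at hsum
    have hs4 : ∑ q : MulAction.orbitRel.Quotient ↥C ↥Ω, Nat.card ↥(MulAction.orbit ↥C q.out) =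
        Fintype.card (MulAction.orbitRel.Quotient ↥C ↥Ω) * 4 := by
      rw [Finset.sum_congr rfl (fun q _ => hfour q.out), Finset.sum_const, Finset.card_univ, smul_eq_mul]
    rw [hs4] at hsum
    omega
  · rw [h4] at hLC
    omega

end CfsgLib.JankoFour
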