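import Mathlib

/-!
# One class of elements of order three in a group of Janko-four type: the group-theoretic part

If `R` is a Sylow 3-subgroup inside `H = C(z)`, the normaliser of its centre `P` lies in `H`, the elements of
`R` outside `P` form one class of `H`, and `P` centralises a conjugate of `z` other than `z`, then all elements
of order 3 are conjugate.
-/

set_option autoImplicit false
set_option linter.style.haveILetI false
set_option linter.unusedSectionVars false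

namespace CfsgLib.JankoFour

open Subgroup

/-- A 2-group meets a 3-group trivially. -/
theorem eq_one_of_two_three {C : Type*} [Group C] {A B : Subgroup C} (hA : IsPGroup 2 ↥A) (hB : IsPGroup 3 ↥B)
    {u : C} (hu : u ∈ A) (hu' : u ∈ B) : u = 1 := by
  haveI := Fact.mk Nat.prime_two
  haveI := Fact.mk Nat.prime_three
  exact (disjoint_def.1 (IsPGroup.disjoint_of_ne 2 3 (by norm_num) A B hA hB)) hu hu'

section Off

variable {H K L : Type*} [Group H] [Finite H] [Group K] [Group L]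

/-- A homomorphism with a 2-group as kernel is injective on a 3-group. -/
theorem inj_on_three (f : H →* K) (hker : IsPGroup 2 ↥f.ker) {S : Subgroup H} (hS : IsPGroup 3 ↥S)
    {a b : H} (ha : a ∈ S) (hb : b ∈ S) (e : f a = f b) : a = b :=
  mul_inv_eq_one.1 (eq_one_of_two_three hker hS (u := a * b⁻¹)
    (MonoidHom.mem_ker.2 (by rw [map_mul, map_inv, e, mul_inv_cancel])) (mul_mem ha (inv_mem hb)))

/-- The elements of order three outside the centre of the Sylow subgroup form one class. -/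
theorem off_conj (f : H →* K) (hf : Function.Surjective f) (hker : IsPGroup 2 ↥f.ker) {n : K} (M : Subgroup K)
    (φ : ↥M →* L) (hφ : Function.Surjective φ) (hker' : ∀ m : ↥M, φ m = 1 ↔ (m : K) ∈ zpowers n)
    (hL : ∀ a b : L, orderOf a = 3 → orderOf b = 3 → IsConj a b)
    (R : Subgroup H) (hR : IsPGroup 3 ↥R) (hexp : ∀ r ∈ R, f (r ^ 3) ∈ zpowers n) (hRM : ∀ r ∈ R, f r ∈ M)
    (p : H) (hp : p ∈ R) (hp3 : p ^ 3 = 1) (hfp : f p = n)
    (hpc : ∀ r ∈ R, r * p = p * r)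
    (hcomm : ∀ r ∈ R, ∀ s ∈ R, r * s * r⁻¹ * s⁻¹ ∈ zpowers p)
    (hcent : ∀ s ∈ R, (∀ r ∈ R, r * s = s * r) → s ∈ zpowers p)
    {x y : H} (hx : x ∈ R) (hxP : x ∉ zpowers p) (hy : y ∈ R) (hyP : y ∉ zpowers p) : IsConj x y := by
  classical
  haveI := Fact.mk Nat.prime_three
  have himg : ∀ r ∈ R, f r ∈ zpowers n → r ∈ zpowers p := by
    intro r hr hn
    obtain ⟨i, hi⟩ := mem_zpowers_iff.1 hn
    exact ⟨i, (inj_on_three f hker hR (zpow_mem hp i) hr (by rw [map_zpow, hfp, hi])).symm ▸ rfl⟩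
  have hord : ∀ r (hr : r ∈ R), r ∉ zpowers p → orderOf (φ ⟨f r, hRM r hr⟩) = 3 := fun r hr hrP =>
    orderOf_eq_prime (by rw [← map_pow, hker', SubmonoidClass.coe_pow, ← map_pow]; exact hexp r hr)
      fun e => hrP (himg r hr ((hker' _).1 e))
  obtain ⟨l, hl⟩ := isConj_iff.1 (hL _ _ (hord x hx hxP) (hord y hy hyP))
  obtain ⟨m, rfl⟩ := hφ l
  obtain ⟨w, hw⟩ := hf (m : K)
  -- the conjugate of `x` lies over the subgroup generated by `n` and the image of `y`
  set S : Subgroup H := closure {p, y} with hS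
  have hSR : S ≤ R := (closure_le _).2 (Set.insert_subset hp (Set.singleton_subset_iff.2 hy))
  have hyS : y ∈ S := subset_closure (Set.mem_insert_of_mem _ rfl)
  have hpS : zpowers p ≤ S := zpowers_le.2 (subset_closure (Set.mem_insert _ _))
  have hScomm : ∀ a ∈ S, ∀ b ∈ S, a * b = b * a := by
    haveI : IsMulCommutative ↥S := isMulCommutative_closure (by
      rintro a (rfl | rfl) b (rfl | rfl)
      · rfl
      · exact (hpc _ hy).symm
      · exact hpc _ hy
      · rfl)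
    exact fun a ha b hb => congrArg Subtype.val (IsMulCommutative.is_comm.comm (⟨a, ha⟩ : ↥S) ⟨b, hb⟩)
  obtain ⟨i, hi⟩ := mem_zpowers_iff.1 ((hker' (m * ⟨f x, hRM x hx⟩ * m⁻¹ * (⟨f y, hRM y hy⟩ : ↥M)⁻¹)).1 (by
    rw [map_mul, map_mul, map_mul, map_inv, map_inv, hl, mul_inv_cancel]))
  have hfx : f (w * x * w⁻¹) = f (p ^ i * y) := by
    rw [map_mul, map_mul, map_inv, hw, map_mul, map_zpow, hfp, hi]
    simp only [Subgroup.coe_mul, Subgroup.coe_inv, mul_assoc, inv_mul_cancel, mul_one]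
  set T : Subgroup H := (S.map f).comap f with hT
  have hST : S ≤ T := le_comap_map f S
  have hxT : w * x * w⁻¹ ∈ T := ⟨p ^ i * y, mul_mem (hpS (zpow_mem (mem_zpowers p) i)) hyS, hfx.symm⟩
  obtain ⟨P₁, hP₁⟩ := ((hR.to_le hSR).comap_subtype (K := T)).exists_le_sylow
  have hP₁S : ∀ t : ↥T, t ∈ (P₁ : Subgroup ↥T) → (t : H) ∈ S := by
    intro t ht
    obtain ⟨s, hs, e⟩ := t.2
    have h3 : IsPGroup 3 ↥((P₁ : Subgroup ↥T).map T.subtype) := P₁.2.map _
    have hsP : s ∈ (P₁ : Subgroup ↥T).map T.subtype := ⟨⟨s, hST hs⟩, hP₁ (show (⟨s, hST hs⟩ : ↥T) ∈ S.comap T.subtype from hs), rfl⟩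
    rwa [inj_on_three f hker h3 (a := (t : H)) (b := s) ⟨t, ht, rfl⟩ hsP e.symm]
  have hx3 : IsPGroup 3 ↥(zpowers (⟨w * x * w⁻¹, hxT⟩ : ↥T)) := by
    obtain ⟨k, hk⟩ := hR ⟨x, hx⟩
    obtain ⟨j, -, hj⟩ := (Nat.dvd_prime_pow Nat.prime_three).1 (orderOf_dvd_of_pow_eq_one hk)
    refine IsPGroup.of_card (n := j) ?_
    rw [Nat.card_zpowers, ← hj, ← Subgroup.orderOf_coe, ← Subgroup.orderOf_coe (⟨x, hx⟩ : ↥R)]
    exact MulEquiv.orderOf_eq (MulAut.conj w) x
  obtain ⟨P₂, hP₂⟩ := hx3.exists_le_sylow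
  obtain ⟨t, ht⟩ := MulAction.exists_smul_eq ↥T P₂ P₁
  have hmem : t * ⟨w * x * w⁻¹, hxT⟩ * t⁻¹ ∈ (P₁ : Subgroup ↥T) := by
    rw [← ht]
    exact Subgroup.smul_mem_pointwise_smul _ (MulAut.conj t) (P₂ : Subgroup ↥T) (hP₂ (mem_zpowers _))
  set x' : H := (t : H) * (w * x * w⁻¹) * (t : H)⁻¹ with hx'
  have hx'S : x' ∈ S := hP₁S _ hmem
  have hx'f : f x' = f (p ^ i * y) := by
    obtain ⟨s, hs, e⟩ := t.2
    rw [hx', map_mul, map_mul, map_inv, hfx, ← e, ← map_inv, ← map_mul, ← map_mul,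
      hScomm s hs _ (mul_mem (hpS (zpow_mem (mem_zpowers p) i)) hyS), mul_inv_cancel_right]
  have hx'y : x' * y⁻¹ ∈ zpowers p := by
    rw [inj_on_three f hker hR (hSR hx'S) (mul_mem (zpow_mem hp i) hy) hx'f, mul_inv_cancel_right]
    exact zpow_mem (mem_zpowers p) i
  have hxx' : IsConj x x' := isConj_iff.2 ⟨(t : H) * w, by rw [hx']; group⟩
  refine hxx'.trans ?_
  -- the coset of `P` through `y` is one class of the Sylow subgroup
  obtain ⟨r, hr, hne⟩ : ∃ r ∈ R, r * y ≠ y * r := by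
    by_contra h
    push Not at h
    exact hyP (hcent y hy h)
  set c := r * y * r⁻¹ * y⁻¹ with hc
  have hc1 : c ≠ 1 := fun e => hne (mul_inv_eq_iff_eq_mul.1 (mul_inv_eq_one.1 e))
  have hcP : c ∈ zpowers p := hcomm r hr y hy
  have hgen : zpowers c = zpowers p := by
    have hpo : orderOf p = 3 := orderOf_eq_prime hp3 fun e => hc1 (by
      rw [e, zpowers_one_eq_bot, mem_bot] at hcP; exact hcP)
    have hco : orderOf c = 3 := orderOf_eq_prime (by
      obtain ⟨i, hi⟩ := mem_zpowers_iff.1 hcP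
      rw [← hi, ← zpow_natCast, ← zpow_mul, mul_comm, zpow_mul, zpow_natCast, hp3, one_zpow]) hc1
    exact eq_of_le_of_card_ge (zpowers_le.2 hcP) (by rw [Nat.card_zpowers, Nat.card_zpowers, hpo, hco])
  have hstep : MulAut.conj r y = c * y := by simp [hc]
  have hfix : MulAut.conj r c = c := by
    obtain ⟨a, ha⟩ := mem_zpowers_iff.1 hcP
    rw [← ha, map_zpow, MulAut.conj_apply, hpc r hr, mul_inv_cancel_right]
  have hall : ∀ k : ℕ, MulAut.conj (r ^ k) y = c ^ k * y := by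
    intro k
    induction k with
    | zero => simp
    | succ k ih =>
      rw [pow_succ', map_mul, MulAut.mul_apply, ih, map_mul (MulAut.conj r), map_pow (MulAut.conj r), hfix, hstep,
        pow_succ]
      exact (mul_assoc _ _ _).symm
  obtain ⟨k, hk⟩ : ∃ k : ℕ, c ^ k = x' * y⁻¹ := by
    have hh : x' * y⁻¹ ∈ zpowers c := hgen.symm ▸ hx'y
    rw [← mem_powers_iff_mem_zpowers] at hh
    exact hh
  exact (isConj_iff.2 ⟨r ^ k, by rw [← MulAut.conj_apply, hall k, hk, inv_mul_cancel_right]⟩).symm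

end Off

/-- The fusion argument. -/
theorem one_class {G : Type*} [Group G] [Finite G] {z : G} (R : Sylow 3 G) (P : Subgroup G)
    (hRH : (R : Subgroup G) ≤ centralizer ({z} : Set G)) (_hPR : P ≤ (R : Subgroup G))
    (hPc : Nat.card ↥P = 3) (hN : normalizer (P : Set G) ≤ centralizer ({z} : Set G))
    (hinv : ∃ p ∈ P, p ≠ 1 ∧ IsConj p p⁻¹)
    (hoff : ∀ x ∈ (R : Subgroup G), x ∉ P → ∀ y ∈ (R : Subgroup G), y ∉ P → IsConj x y)
    (hz : ∃ g : G, g * z * g⁻¹ ≠ z ∧ ∀ p ∈ P, p * (g * z * g⁻¹) = g * z * g⁻¹ * p) :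
    ∀ x y : G, orderOf x = 3 → orderOf y = 3 → IsConj x y := by
  classical
  haveI := Fact.mk Nat.prime_three
  obtain ⟨p, hp, hp1, hpinv⟩ := hinv
  have hpo : orderOf p = 3 := by
    have h := Subgroup.orderOf_dvd_natCard (s := P) hp
    rw [hPc, Nat.dvd_prime Nat.prime_three] at h
    exact h.resolve_left fun e => hp1 (orderOf_eq_one_iff.1 e)
  have hgen : zpowers p = P := eq_of_le_of_card_ge (zpowers_le.2 hp) (by rw [Nat.card_zpowers, hpo, hPc])
  have hPconj : ∀ u ∈ P, u ≠ 1 → IsConj p u := by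
    intro u hu hu1
    obtain ⟨k, hk, rfl⟩ : ∃ k, k < orderOf p ∧ p ^ k = u := by
      rw [← hgen, ← mem_powers_iff_mem_zpowers] at hu
      obtain ⟨k, hk⟩ := hu
      exact ⟨k % orderOf p, Nat.mod_lt _ (by omega), by rw [pow_mod_orderOf]; exact hk⟩
    rw [hpo] at hk
    interval_cases k
    · exact absurd (pow_zero p) hu1
    · rw [pow_one]
    · rwa [show p ^ 2 = p⁻¹ from eq_inv_of_mul_eq_one_left (by rw [← pow_succ, show 2 + 1 = orderOf p from hpo.symm, pow_orderOf_eq_one])]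
  -- every element of order three of the centraliser is conjugate inside it to one of `R`
  have hsyl : ∀ q ∈ centralizer ({z} : Set G), orderOf q = 3 →
      ∃ h ∈ centralizer ({z} : Set G), h * q * h⁻¹ ∈ (R : Subgroup G) := by
    intro q hq hqo
    set C := centralizer ({z} : Set G)
    have h3 : IsPGroup 3 ↥(zpowers (⟨q, hq⟩ : ↥C)) := IsPGroup.of_card (n := 1) (by
      rw [Nat.card_zpowers, ← Subgroup.orderOf_coe, pow_one]; exact hqo)
    obtain ⟨P₁, hP₁⟩ := h3.exists_le_sylow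
    obtain ⟨h, hh⟩ := MulAction.exists_smul_eq ↥C P₁ (R.subtype hRH)
    refine ⟨h, h.2, ?_⟩
    have hm := Subgroup.smul_mem_pointwise_smul _ (MulAut.conj h) (P₁ : Subgroup ↥C) (hP₁ (mem_zpowers _))
    have hm' : MulAut.conj h ⟨q, hq⟩ ∈ ((R.subtype hRH : Sylow 3 ↥C) : Subgroup ↥C) := by
      rw [← hh]; exact hm
    exact hm'
  obtain ⟨g, hgne, hgc⟩ := hz
  -- the centre of the Sylow subgroup fuses with the rest
  obtain ⟨x₀, hx₀, hx₀P, hpx₀⟩ : ∃ x₀ ∈ (R : Subgroup G), x₀ ∉ P ∧ IsConj p x₀ := by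
    have hq : g⁻¹ * p * g ∈ centralizer ({z} : Set G) := mem_centralizer_singleton_iff.2 (by
      calc g⁻¹ * p * g * z = g⁻¹ * (p * (g * z * g⁻¹)) * g := by group
        _ = z * (g⁻¹ * p * g) := by rw [hgc p hp]; group)
    have hqo : orderOf (g⁻¹ * p * g) = 3 := by
      rw [← hpo]
      exact (orderOf_eq_orderOf_iff.2 fun k => by rw [show g⁻¹ * p * g = g⁻¹ * p * g⁻¹⁻¹ by rw [inv_inv], conj_pow,
        conj_eq_one_iff])
    obtain ⟨h, hh, hmem⟩ := hsyl _ hq hqo
    have hconj : IsConj p (h * (g⁻¹ * p * g) * h⁻¹) := isConj_iff.2 ⟨h * g⁻¹, by group⟩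
    refine ⟨_, hmem, fun hP => hgne ?_, hconj⟩
    have hk : h * g⁻¹ ∈ normalizer (P : Set G) := by
      rw [mem_normalizer_iff_map_conj_eq]
      refine eq_of_le_of_card_ge ?_ (le_of_eq (card_map_of_injective (MulEquiv.injective _)).symm)
      rw [Subgroup.map_le_iff_le_comap, ← hgen, zpowers_le, hgen]
      show h * g⁻¹ * p * (h * g⁻¹)⁻¹ ∈ P
      rwa [show h * g⁻¹ * p * (h * g⁻¹)⁻¹ = h * (g⁻¹ * p * g) * h⁻¹ by group]
    have hg : g ∈ centralizer ({z} : Set G) := by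
      have := mul_mem (inv_mem (hN hk)) hh
      rwa [show (h * g⁻¹)⁻¹ * h = g by group] at this
    rw [mem_centralizer_singleton_iff.1 hg, mul_inv_cancel_right]
  -- every element of order three is conjugate to `p`
  have hall : ∀ x : G, orderOf x = 3 → IsConj p x := by
    intro x hx
    have h3 : IsPGroup 3 ↥(zpowers x) := IsPGroup.of_card (n := 1) (by rw [Nat.card_zpowers, hx, pow_one])
    obtain ⟨P₁, hP₁⟩ := h3.exists_le_sylow
    obtain ⟨h, hh⟩ := MulAction.exists_smul_eq G P₁ R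
    have hmem : h * x * h⁻¹ ∈ (R : Subgroup G) := by
      rw [← hh]
      exact Subgroup.smul_mem_pointwise_smul _ (MulAut.conj h) (P₁ : Subgroup G) (hP₁ (mem_zpowers _))
    have hne : h * x * h⁻¹ ≠ 1 := fun e => by
      rw [conj_eq_one_iff] at e
      rw [e, orderOf_one] at hx
      omega
    refine IsConj.trans ?_ (isConj_iff.2 ⟨h, rfl⟩).symm
    by_cases hP : h * x * h⁻¹ ∈ P
    · exact hPconj _ hP hne
    · exact hpx₀.trans (hoff _ hx₀ hx₀P _ hmem hP)
  exact fun x y hx hy => (hall x hx).symm.trans (hall y hy)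

end CfsgLib.JankoFour

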