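import Cfsg.Agent.Lib.JankoFour.Thompson.Cosets

/-!
# An element of order three over `n` centralises a conjugate of the involution other than it
-/

set_option autoImplicit false
set_option linter.unusedSectionVars false
set_option linter.style.haveILetI false

namespace CfsgLib.JankoFour.Thompson

open Subgroup QuadraticMap
open CfsgLib.LargeFischer.Thompson (val three_dvd)

variable {G : Type*} [Group G] [Finite G] {z : G}
  {Q : Subgroup (centralizer ({z} : Set G))} [Q.Normal] {V : Type*} [AddCommGroup V] [Module (ZMod 2) V]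
  [DistribMulAction ((centralizer ({z} : Set G)) ⧸ Q) V] [Finite V] {q : QuadraticForm (ZMod 2) V} {π : ↥Q → V}
  {n : (centralizer ({z} : Set G)) ⧸ Q} {M : Subgroup ((centralizer ({z} : Set G)) ⧸ Q)} {φ : ↥M →* ↥Cfsg.Spor.M22}
  {s : V}
  {A : Subgroup G} {Ab : Subgroup ((centralizer ({z} : Set G)) ⧸ Q)}

theorem Ctx.exists_fixed_conj (c : Ctx Q q π n M φ s A Ab) {w : centralizer ({z} : Set G)}
    (hw : QuotientGroup.mk' Q w = n) (h3 : w * w * w = 1) :
    ∃ g : G, g * z * g⁻¹ ≠ z ∧ (w : G) * (g * z * g⁻¹) = g * z * g⁻¹ * (w : G) := by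
  classical
  obtain ⟨k, hk, hk1⟩ : ∃ k ∈ Ab, k ≠ 1 := by
    by_contra h
    push Not at h
    have h1 := c.oth.card
    rw [show Ab = ⊥ from (eq_bot_iff_forall _).2 h, card_bot] at h1
    omega
  obtain ⟨a₀, ha₀, hka⟩ := c.lift hk
  have hwN : (w : G) ∈ Subgroup.normalizer (A : Set G) := c.mem_N_iff.2 (hw.symm ▸ c.n_normalizes)
  set X : Set G := {a | a ∈ A ∧ imK Q a = k ∧ IsConj z a} with hX
  have hfib : {a : G | a ∈ A ∧ imK Q a = k} = (fun u => (a₀ : G) * u) '' inner Q A := by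
    ext a
    constructor
    · rintro ⟨ha, he⟩
      refine ⟨(a₀ : G)⁻¹ * a, ⟨mul_mem (inv_mem ha₀) ha, (c.imK_eq_one (mul_mem (inv_mem ha₀) ha)).1 ?_⟩,
        mul_inv_cancel_left _ _⟩
      rw [imK_mul (inv_mem a₀.2) (c.le ha), he, show (a₀ : G)⁻¹ = ((a₀⁻¹ : centralizer ({z} : Set G)) : G) from rfl,
        imK_coe, map_inv, hka, inv_mul_cancel]
    · rintro ⟨u, ⟨huA, u', rfl⟩, rfl⟩
      exact ⟨mul_mem ha₀ huA, by rw [imK_mul a₀.2 (c.le huA), imK_coe, imK_val, mul_one, hka]⟩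
  have hsum : {a : G | a ∈ A ∧ imK Q a = k}.ncard = X.ncard + (cosetN Q A k).ncard := by
    rw [← Set.ncard_union_eq ?_ (Set.toFinite _) (Set.toFinite _)]
    · congr 1
      ext a
      constructor
      · rintro ⟨ha, he⟩
        by_cases h : IsConj z a
        · exact .inl ⟨ha, he, h⟩
        · refine .inr ⟨⟨ha, fun e => hk1 ?_, h⟩, he⟩
          rw [← he, e, (c.imK_eq_one (one_mem A)).2 ⟨1, rfl⟩]
      · rintro (⟨ha, he, -⟩ | ⟨ha, he⟩)
        exacts [⟨ha, he⟩, ⟨ha.1, he⟩]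
    · exact Set.disjoint_left.2 fun a ha hb => hb.1.2.2 ha.2.2
  rw [hfib, Set.ncard_image_of_injective _ (mul_right_injective (a₀ : G)), c.inner_ncard, c.cosetN_card hk hk1] at hsum
  obtain ⟨a, ha, hfa⟩ : ∃ a ∈ X, (w : G) * a * (w : G)⁻¹ = a := by
    by_contra hc
    push Not at hc
    have hconj : ∀ a ∈ X, (w : G) * a * (w : G)⁻¹ ∈ X := fun a ha =>
      ⟨c.conj_mem hwN ha.1, by
        rw [c.imK_conj ha.1, hw, ha.2.1, ← c.oth.core.commute _ (c.oth.le hk), mul_inv_cancel_right],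
        ha.2.2.trans (isConj_iff.2 ⟨_, rfl⟩)⟩
    let σ : Equiv.Perm ↥X := Equiv.ofBijective (fun a => ⟨_, hconj a.1 a.2⟩)
      (Finite.injective_iff_bijective.1 fun a a' e =>
        Subtype.ext (mul_left_cancel (mul_right_cancel (congrArg Subtype.val e))))
    have hw3 : (w : G) * w * w = 1 := congrArg Subtype.val h3
    have hσ : σ ^ 3 = 1 := Equiv.ext fun a => Subtype.ext (by
      show (w : G) * ((w : G) * ((w : G) * a * (w : G)⁻¹) * (w : G)⁻¹) * (w : G)⁻¹ = a
      calc _ = ((w : G) * w * w) * a * ((w : G) * w * w)⁻¹ := by group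
        _ = a := by rw [hw3]; group)
    have h := three_dvd σ hσ fun e he => hc e.1 e.2 (congrArg Subtype.val he)
    rw [Nat.card_coe_set_eq] at h
    omega
  obtain ⟨g, hg⟩ := isConj_iff.1 ha.2.2
  refine ⟨g, fun e => hk1 ?_, ?_⟩
  · obtain ⟨z₀, hz₀, -⟩ := c.z_val
    rw [← ha.2.1, ← hg, e]
    exact (congrArg (imK Q) hz₀).symm.trans (imK_val z₀)
  · rw [hg]
    exact mul_inv_eq_iff_eq_mul.1 hfa

end CfsgLib.JankoFour.Thompson
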