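import Cfsg.Agent.Lib.JankoFour.OneThree
import Cfsg.Agent.Lib.JankoFour.OneThreeFixed
import Cfsg.Agent.Lib.MTwentyTwoUnique.Three
import Cfsg.Agent.Lib.MTwentyTwoUnique.Concrete

/-!
# One class of elements of order three, from the model
-/

set_option autoImplicit false
set_option linter.unusedSectionVars false
set_option linter.style.haveILetI false

namespace CfsgLib.JankoFour

open Subgroup

/-- A group of order `27` with a commutative image of order `9` and kernel `⟨p⟩`, not commutative. -/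
theorem three_facts {R L : Type*} [Group R] [Finite R] [Group L] (hc : Nat.card R = 27) (ψ : R →* L) (p : R)
    (hker : ψ.ker = zpowers p) (hpc : ∀ r, r * p = p * r) (hp : orderOf p = 3)
    (hnc : ¬ ∀ a b : R, a * b = b * a) :
    (∀ r, r ^ 3 ∈ zpowers p) ∧ (∀ r s, r * s * r⁻¹ * s⁻¹ ∈ zpowers p) ∧
      ∀ s, (∀ r, r * s = s * r) → s ∈ zpowers p := by
  classical
  haveI := Fact.mk Nat.prime_three
  have h9 : Nat.card ↥ψ.range = 9 := by
    have h := Subgroup.card_mul_index ψ.ker
    rw [Subgroup.index_ker, hker, Nat.card_zpowers, hp, hc] at h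
    omega
  haveI := IsPGroup.isMulCommutative_of_card_eq_prime_sq (p := 3) (G := ↥ψ.range) (by rw [h9]; norm_num)
  have hcomm : ∀ r s, r * s * r⁻¹ * s⁻¹ ∈ zpowers p := fun r s => by
    rw [← hker, MonoidHom.mem_ker, map_mul, map_mul, map_mul, map_inv, map_inv]
    have e : ψ r * ψ s = ψ s * ψ r :=
      congrArg Subtype.val (IsMulCommutative.is_comm.comm (⟨ψ r, r, rfl⟩ : ↥ψ.range) ⟨ψ s, s, rfl⟩)
    rw [e, mul_inv_cancel_right, mul_inv_cancel]
  have hpZ : zpowers p ≤ center R := zpowers_le.2 (mem_center_iff.2 hpc)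
  refine ⟨fun r => ?_, hcomm, fun s hs => ?_⟩
  · rw [← hker, MonoidHom.mem_ker, map_pow]
    by_contra hne
    have hd : orderOf (ψ r) ∣ 9 := by
      have h := orderOf_dvd_natCard (⟨ψ r, r, rfl⟩ : ↥ψ.range)
      rwa [h9, ← Subgroup.orderOf_coe] at h
    have ho : orderOf (ψ r) = 9 := by
      have h3 : ¬ orderOf (ψ r) ∣ 3 := fun h => hne (orderOf_dvd_iff_pow_eq_one.1 h)
      have hm : orderOf (ψ r) ∈ Nat.divisors 9 := Nat.mem_divisors.2 ⟨hd, by norm_num⟩
      rw [show Nat.divisors 9 = {1, 3, 9} by decide] at hm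
      simp only [Finset.mem_insert, Finset.mem_singleton] at hm
      rcases hm with h | h | h
      · exact absurd (by rw [h]; exact one_dvd 3) h3
      · exact absurd (by rw [h]) h3
      · exact h
    refine hnc fun a b => ?_
    have htop : zpowers (ψ r) = ψ.range :=
      haveI : Finite ↥ψ.range := Nat.finite_of_card_ne_zero (by rw [h9]; norm_num)
      eq_of_le_of_card_ge (zpowers_le.2 ⟨r, rfl⟩) (by rw [h9, Nat.card_zpowers, ho])
    have key : ∀ x : R, ∃ i : ℤ, ∃ c ∈ center R, x = r ^ i * c := fun x => by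
      obtain ⟨i, hi⟩ := mem_zpowers_iff.1 (show ψ x ∈ zpowers (ψ r) from htop.symm ▸ ⟨x, rfl⟩)
      refine ⟨i, (r ^ i)⁻¹ * x, hpZ ?_, (mul_inv_cancel_left _ _).symm⟩
      rw [← hker, MonoidHom.mem_ker, map_mul, map_inv, map_zpow, hi, inv_mul_cancel]
    obtain ⟨i, c, hc', rfl⟩ := key a
    obtain ⟨j, d, hd', rfl⟩ := key b
    have hcc := mem_center_iff.1 hc'
    have hdd := mem_center_iff.1 hd'
    exact ((Commute.zpow_zpow_self r i j).mul_right (hdd (r ^ i))).mul_left
      ((show Commute c (r ^ j) from (hcc (r ^ j)).symm).mul_right (hcc d).symm)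
  · by_contra hsP
    have h3 : 3 < Nat.card ↥(center R) := by
      have hlt : zpowers p < center R :=
        lt_of_le_of_ne hpZ fun e => hsP (e ▸ mem_center_iff.2 hs)
      by_contra h
      exact hlt.ne (eq_of_le_of_card_ge hlt.le (by rw [Nat.card_zpowers, hp]; omega))
    have hne : Nat.card ↥(center R) ≠ 27 := fun e => hnc fun a b => by
      have htop : center R = ⊤ := eq_top_of_card_eq _ (by rw [e, hc])
      exact mem_center_iff.1 (htop ▸ mem_top b) a
    have hm : Nat.card ↥(center R) ∈ Nat.divisors 27 := Nat.mem_divisors.2 ⟨hc ▸ card_subgroup_dvd_card _, by norm_num⟩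
    rw [show Nat.divisors 27 = {1, 3, 9, 27} by decide] at hm
    simp only [Finset.mem_insert, Finset.mem_singleton] at hm
    have hq : Nat.card (R ⧸ center R) = 3 := by
      have h := Subgroup.card_eq_card_quotient_mul_card_subgroup (center R)
      rw [hc, show Nat.card ↥(center R) = 9 by omega] at h
      omega
    haveI := isCyclic_of_prime_card hq
    exact hnc fun a b => commutative_of_cyclic_center_quotient (QuotientGroup.mk' (center R)) (by simp) a b

namespace Model

open QuadraticMap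

variable {G : Type*} [Group G] [Finite G] {z : G} {Q : Subgroup (centralizer ({z} : Set G))} [Q.Normal]
  {V : Type*} [AddCommGroup V] [Module (ZMod 2) V] [DistribMulAction ((centralizer ({z} : Set G)) ⧸ Q) V] [Finite V]
  {q : QuadraticForm (ZMod 2) V} {π : ↥Q → V} {n : (centralizer ({z} : Set G)) ⧸ Q}
  {M : Subgroup ((centralizer ({z} : Set G)) ⧸ Q)} {φ : ↥M →* ↥Cfsg.Spor.M22} (m : Model z Q q π n M φ)

include m

theorem card_M : Nat.card ↥M = 3 * 443520 := by
  have h := Subgroup.card_mul_index φ.ker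
  rw [Subgroup.index_ker, MonoidHom.range_eq_top.2 m.core.surj, card_top, CfsgLib.Golay.card_sporM22] at h
  have hk : Nat.card ↥φ.ker = 3 := by
    rw [← m.core.ordn, ← Nat.card_zpowers]
    refine Nat.card_congr ⟨fun a => ⟨_, (m.core.ker a.1).1 a.2⟩,
      fun a => ⟨⟨_, (zpowers_le.2 m.core.nM) a.2⟩, (m.core.ker _).2 a.2⟩, fun a => rfl, fun a => rfl⟩
  rw [hk] at h
  exact h.symm

theorem factorization_three : (Nat.card ↥(centralizer ({z} : Set G))).factorization 3 = 3 := by
  have h : Nat.card ↥(centralizer ({z} : Set G)) = 3 ^ 3 * (49280 * 2 ^ 14) := by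
    rw [Subgroup.card_eq_card_quotient_mul_card_subgroup Q, m.cardQ, ← Subgroup.card_mul_index M, m.core.indexM,
      m.card_M]
    norm_num
  rw [h, Nat.factorization_mul (by norm_num) (by norm_num), Finsupp.add_apply,
    Nat.Prime.factorization_pow Nat.prime_three, Finsupp.single_eq_same,
    Nat.factorization_eq_zero_of_not_dvd (by norm_num)]

theorem one_class_three {p : centralizer ({z} : Set G)} (hp : QuotientGroup.mk' Q p = n) (hp3 : p ^ 3 = 1)
    (hinv : IsConj (p : G) (p : G)⁻¹)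
    (hN : normalizer ((zpowers (p : G) : Subgroup G) : Set G) ≤ centralizer ({z} : Set G)) :
    ∀ x y : G, orderOf x = 3 → orderOf y = 3 → IsConj x y := by
  classical
  haveI := Fact.mk Nat.prime_three
  haveI := Fact.mk Nat.prime_two
  set f := QuotientGroup.mk' Q with hf
  have hker : IsPGroup 2 ↥f.ker := by
    rw [hf, QuotientGroup.ker_mk']
    exact IsPGroup.of_card m.cardQ
  have hp1 : p ≠ 1 := fun e => by
    have h := m.core.ordn
    rw [← hp, e, map_one, orderOf_one] at h
    omega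
  have hpo : orderOf p = 3 := orderOf_eq_prime hp3 hp1
  obtain ⟨S, hS⟩ := (IsPGroup.of_card (p := 3) (n := 1) (by rw [Nat.card_zpowers, hpo, pow_one]) :
    IsPGroup 3 ↥(zpowers p)).exists_le_sylow
  set R : Subgroup (centralizer ({z} : Set G)) := (S : Subgroup (centralizer ({z} : Set G))) with hR
  have hR3 : IsPGroup 3 ↥R := S.2
  have hR27 : Nat.card ↥R = 27 := by
    rw [hR, S.card_eq_multiplicity, m.factorization_three]; norm_num
  have hpR : p ∈ R := hS (mem_zpowers p)
  have hRM : ∀ r ∈ R, f r ∈ M := fun r hr => by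
    have h27 : r ^ 27 = 1 := by
      have h := pow_card_eq_one' (x := (⟨r, hr⟩ : ↥R))
      rw [hR27] at h
      exact congrArg Subtype.val h
    rw [show f r = (f r * f r) ^ 14 by
      rw [← map_mul, ← map_pow, ← pow_two, ← pow_mul, show 2 * 14 = 27 + 1 from rfl, pow_succ, h27, one_mul]]
    exact pow_mem (Subgroup.mul_self_mem_of_index_two m.core.indexM _) _
  have hpc : ∀ r ∈ R, r * p = p * r := fun r hr => inj_on_three f hker hR3 (mul_mem hr hpR) (mul_mem hpR hr)
    (by rw [map_mul, map_mul, hp, m.core.commute _ (hRM r hr)])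
  let fR : ↥R →* ↥M := (f.comp R.subtype).codRestrict M fun r => hRM r r.2
  have hfR : Function.Injective fR := fun a b e =>
    Subtype.ext (inj_on_three f hker hR3 a.2 b.2 (congrArg Subtype.val e))
  let p' : ↥R := ⟨p, hpR⟩
  let n' : ↥M := ⟨n, m.core.nM⟩
  have hfp' : fR p' = n' := Subtype.ext hp
  have hkerψ : (φ.comp fR).ker = zpowers p' := by
    refine le_antisymm (fun r hr => ?_) (zpowers_le.2 ((m.core.ker _).2 ?_))
    · obtain ⟨i, hi⟩ := mem_zpowers_iff.1 ((m.core.ker _).1 hr)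
      refine ⟨i, hfR ?_⟩
      rw [map_zpow, hfp']
      exact Subtype.ext (by rw [SubgroupClass.coe_zpow]; exact hi)
    · rw [hfp']; exact mem_zpowers n
  have hnc : ¬ ∀ a b : ↥R, a * b = b * a := by
    intro hab
    letI : CommGroup ↥R := { (inferInstance : Group ↥R) with mul_comm := hab }
    let e : ↥fR.range ≃* ↥R := (MonoidHom.ofInjective hfR).symm
    let t := MonoidHom.transfer e.toMonoidHom
    have hcen : ∀ g₀ : ↥M, ∀ k : ℕ, g₀⁻¹ * n' ^ k * g₀ ∈ fR.range → g₀⁻¹ * n' ^ k * g₀ = n' ^ k := by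
      intro g₀ k _
      have hc : Commute n' g₀ := Subtype.ext (m.core.commute _ g₀.2).symm
      rw [mul_assoc, ((hc.pow_left k).eq), inv_mul_cancel_left]
    have ht : t n' = e ⟨n' ^ fR.range.index, _⟩ := MonoidHom.transfer_eq_pow e.toMonoidHom n' (fun k g₀ => hcen g₀ k)
    have hd : n' ∈ commutator ↥M := by
      have h := m.core.derived
      rw [← map_subtype_commutator] at h
      obtain ⟨w, hw, hwn⟩ := h
      rwa [← show w = n' from Subtype.ext hwn]
    rw [MonoidHom.mem_ker.1 (Abelianization.commutator_subset_ker t hd), eq_comm, MulEquiv.map_eq_one_iff] at ht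
    have hk := congrArg Subtype.val ht
    have hidx : fR.range.index = 49280 := by
      have h := Subgroup.card_mul_index fR.range
      rw [Nat.card_congr e.toEquiv, hR27, m.card_M] at h
      omega
    have h3 : n ^ fR.range.index = 1 := congrArg Subtype.val hk
    rw [hidx] at h3
    rw [← orderOf_dvd_iff_pow_eq_one, m.core.ordn] at h3
    omega
  obtain ⟨h3, hcomm, hcent⟩ := three_facts hR27 (φ.comp fR) p' hkerψ (fun r => Subtype.ext (hpc r r.2))
    (by rw [← Subgroup.orderOf_coe]; exact hpo) hnc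
  have hzp : ∀ r : ↥R, r ∈ zpowers p' → (r : centralizer ({z} : Set G)) ∈ zpowers p := by
    rintro r ⟨i, rfl⟩; exact ⟨i, by simp [p']⟩
  have hoffC : ∀ x ∈ R, x ∉ zpowers p → ∀ y ∈ R, y ∉ zpowers p → IsConj x y := fun x hx hxP y hy hyP =>
    off_conj f (QuotientGroup.mk'_surjective Q) hker M φ m.core.surj m.core.ker
      (fun a b ha hb => by
        letI := Fintype.ofFinite ↥Cfsg.Spor.M22
        exact CfsgLib.MTwentyTwoUnique.three_conj CfsgLib.MTwentyTwoUnique.local_M22 ha hb)
      R hR3 (fun r hr => by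
        obtain ⟨i, hi⟩ := mem_zpowers_iff.1 (hzp _ (h3 ⟨r, hr⟩))
        exact ⟨i, by show n ^ i = f (r ^ 3); rw [← hp, ← map_zpow, hi]; rfl⟩) hRM p hpR hp3 hp hpc
      (fun r hr s hs => hzp _ (hcomm ⟨r, hr⟩ ⟨s, hs⟩))
      (fun s hs h => hzp _ (hcent ⟨s, hs⟩ fun r => Subtype.ext (h r r.2))) hx hxP hy hyP
  -- the Sylow subgroup of the centraliser is one of the whole group
  set R' := R.map (centralizer ({z} : Set G)).subtype with hR'
  have hR'3 : IsPGroup 3 ↥R' := hR3.map _
  obtain ⟨P, hP⟩ := hR'3.exists_le_sylow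
  have hPR : (P : Subgroup G) = R' := by
    by_contra hne
    haveI : Group.IsNilpotent ↥(P : Subgroup G) := P.2.isNilpotent
    have hlt : R'.subgroupOf (P : Subgroup G) < ⊤ := lt_top_iff_ne_top.2 fun e =>
      hne (le_antisymm (subgroupOf_eq_top.1 e) hP)
    obtain ⟨k, hk, hkn⟩ := SetLike.exists_of_lt (Group.normalizerCondition_of_isNilpotent _ hlt)
    have hkN : ∀ y ∈ R', (k : G) * y * (k : G)⁻¹ ∈ R' ∧ (k : G)⁻¹ * y * k ∈ R' := fun y hy =>
      ⟨(mem_normalizer_iff.1 hk ⟨y, hP hy⟩).1 hy,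
        by
          have h := (mem_normalizer_iff.1 (inv_mem hk) ⟨y, hP hy⟩).1 hy
          rw [inv_inv, mem_subgroupOf] at h
          exact h⟩
    obtain ⟨u, hu, hue⟩ := (hkN (p : G) ⟨p, hpR, rfl⟩).1
    have huc : ∀ r ∈ R, r * u = u * r := by
      intro r hr
      obtain ⟨r', hr', hre⟩ := (hkN (r : G) ⟨r, hr, rfl⟩).2
      refine Subtype.ext ?_
      show (r : G) * u = u * r
      rw [show (u : G) = (k : G) * p * (k : G)⁻¹ from hue]
      have e := congrArg Subtype.val (hpc r' hr')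
      rw [Subgroup.coe_mul, Subgroup.coe_mul, show (r' : G) = (k : G)⁻¹ * r * k from hre] at e
      calc (r : G) * ((k : G) * p * (k : G)⁻¹) = k * ((k : G)⁻¹ * r * k * p) * (k : G)⁻¹ := by group
        _ = _ := by rw [e]; group
    obtain ⟨i, hi⟩ := mem_zpowers_iff.1 (hzp _ (hcent ⟨u, hu⟩ fun r => Subtype.ext (huc r r.2)))
    have hkz : (k : G) ∈ centralizer ({z} : Set G) := by
      refine hN ?_
      rw [mem_normalizer_iff_map_conj_eq]
      refine eq_of_le_of_card_ge ?_ (le_of_eq (card_map_of_injective (MulEquiv.injective _)).symm)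
      rw [Subgroup.map_le_iff_le_comap, zpowers_le, mem_comap]
      show (k : G) * p * (k : G)⁻¹ ∈ _
      exact ⟨i, (congrArg Subtype.val hi).trans hue⟩
    have hSP : R = (P : Subgroup G).subgroupOf (centralizer ({z} : Set G)) :=
      (S.3 P.2.comap_subtype fun y hy => hP ⟨y, hy, rfl⟩).symm
    refine hkn ?_
    show (k : G) ∈ R'
    exact ⟨⟨k, hkz⟩, hSP.symm ▸ k.2, rfl⟩
  obtain ⟨s, A, Ab, T₀, hc, -⟩ := Thompson.exists_ctx m
  obtain ⟨g, hgne, hgc⟩ := hc.exists_fixed_conj (w := p) hp (by rw [← hp3, pow_succ, pow_two])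
  refine one_class P (zpowers (p : G)) (hPR ▸ map_subtype_le _) (hPR ▸ zpowers_le.2 ⟨p, hpR, rfl⟩)
    (by rw [Nat.card_zpowers, Subgroup.orderOf_coe, hpo]) hN
    ⟨p, mem_zpowers _, fun e => hp1 (Subtype.ext e), hinv⟩ ?_ ⟨g, hgne, fun u hu => ?_⟩
  · intro x hx hxP y hy hyP
    rw [hPR] at hx hy
    obtain ⟨x', hx', rfl⟩ := hx
    obtain ⟨y', hy', rfl⟩ := hy
    exact MonoidHom.map_isConj (centralizer ({z} : Set G)).subtype
      (hoffC x' hx' (fun ⟨i, hi⟩ => hxP ⟨i, by simp [← hi]⟩) y' hy' (fun ⟨i, hi⟩ => hyP ⟨i, by simp [← hi]⟩))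
  · obtain ⟨i, rfl⟩ := mem_zpowers_iff.1 hu
    exact (Commute.zpow_left (show Commute (p : G) _ from hgc) i).eq

end Model

end CfsgLib.JankoFour
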