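import Cfsg.Agent.Lib.JankoFour.Core

/-!
# The facts about the elements of order five and seven of the group 3.M22.2 on the twelve-dimensional space
-/

set_option autoImplicit false
set_option linter.unusedSectionVars false

namespace CfsgLib.JankoFour

open QuadraticMap

variable {V : Type*} [AddCommGroup V] [Module (ZMod 2) V] [Finite V]
  {K : Type*} [Group K] [Finite K] [DistribMulAction K V]

/-- The facts about the elements of order five wanted from the identification of the group and the module. -/
structure FiveFacts (q : QuadraticForm (ZMod 2) V) (n : K) (M : Subgroup K) : Prop where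
  cent : ∀ f : K, orderOf f = 5 → Nat.card ↥(Subgroup.centralizer ({f} : Set K)) = 30
  norm : ∀ f : K, orderOf f = 5 → Nat.card ↥(Subgroup.normalizer (Subgroup.zpowers f : Set K)) = 120
  fixed : ∀ f : K, orderOf f = 5 → ({v : V | f • v = v}).ncard = 16
  line : ∀ f : K, orderOf f = 5 → ∃ u : V, f • u = u ∧ u ≠ 0 ∧ q u = 0 ∧ (MulAction.orbit K u).ncard = 693 ∧
    ∀ v : V, f • v = v → v ≠ 0 → q v = 0 → (MulAction.orbit K v).ncard = 693 → v ∈ ln n u
  outer : ∀ f : K, orderOf f = 5 → ∃ k : K, k * f = f * k ∧ k ∉ M ∧ k * k = 1 ∧
    ∃ v : V, f • v = v ∧ k • v = v ∧ q v ≠ 0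

/-- The facts about the elements of order seven wanted from the identification of the group and the module. -/
structure SevenFacts (q : QuadraticForm (ZMod 2) V) (n : K) (M : Subgroup K) : Prop where
  cent : ∀ f : K, orderOf f = 7 → Nat.card ↥(Subgroup.centralizer ({f} : Set K)) = 42
  norm : ∀ f : K, orderOf f = 7 → Nat.card ↥(Subgroup.normalizer (Subgroup.zpowers f : Set K)) = 126
  fixed : ∀ f : K, orderOf f = 7 → ∀ v : V, f • v = v → v = 0

end CfsgLib.JankoFour
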