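import Cfsg.Agent.Lib.JankoFour.Basic
import Cfsg.Agent.Lib.JankoFour.M22Three
import Cfsg.Agent.Lib.HJType.Cube
import Cfsg.Agent.Lib.Transfer.Abelian
import Mathlib

/-!
Groups of Janko-four type: the Sylow 3-subgroup of the centralizer of the involution is extraspecial of
order 27 and exponent 3, and its normalizer there has order 864.
-/

set_option autoImplicit false
set_option linter.style.haveILetI false
set_option linter.unusedSectionVars false

namespace CfsgLib.JankoFour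

open Subgroup Cfsg
open scoped commutatorElement

variable {G : Type*} [Group G] [Finite G] {z : G} {P : Subgroup G} (S : Setting z P)
variable (R : Sylow 3 G) (hR : (R : Subgroup G) ≤ cz z)
include S hR

theorem card_R : Nat.card ↥(R : Subgroup G) = 27 := by
  haveI : Fact (Nat.Prime 3) := ⟨by norm_num⟩
  rw [← Nat.card_congr (subgroupOfEquivOfLe hR).toEquiv]
  exact CfsgLib.SmallGroups.card_sylow_eq (p := 3)
    (show Nat.card ↥(cz z) = 3 ^ 3 * (98560 * 2 ^ 13) by rw [card_cz S]; norm_num) (by norm_num)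
    (R.subtype hR)

variable (hP : P ≤ (R : Subgroup G))
include hP

theorem inf_N : (R : Subgroup G) ⊓ S.N = P := by
  refine (eq_of_le_of_card_ge (le_inf hP S.P_le) ?_).symm
  have h := Nat.dvd_gcd (card_dvd_of_le (inf_le_left : (R : Subgroup G) ⊓ S.N ≤ _))
    (card_dvd_of_le (inf_le_right : (R : Subgroup G) ⊓ S.N ≤ _))
  rw [card_R S R hR, S.card_N] at h
  rw [S.card_P]
  exact Nat.le_of_dvd (by norm_num) (by norm_num at h ⊢; exact h)

theorem R_le_np : (R : Subgroup G) ≤ np z P := fun x hx => by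
  refine mem_inf.mpr ⟨hR hx, mem_normalizer_fintype fun a ha => ?_⟩
  have h : x * a * x⁻¹ ∈ (R : Subgroup G) ⊓ S.N :=
    mem_inf.mpr ⟨mul_mem (mul_mem hx (hP ha)) (inv_mem hx),
      (mem_normalizer_iff.mp (S.H_norm (hR hx)) a).mp (S.P_le ha)⟩
  rwa [inf_N S R hR hP] at h

theorem R_le_cp : (R : Subgroup G) ≤ cp z P := fun x hx => by
  have h2 : (⟨x, R_le_np S R hR hP hx⟩ : ↥(np z P)) * ⟨x, R_le_np S R hR hP hx⟩ ∈
      (cp z P).subgroupOf (np z P) := mul_self_mem_of_index_two (cp_relIndex S) _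
  rw [mem_subgroupOf] at h2
  have h27 : x ^ 27 = 1 := by
    have := pow_card_eq_one' (G := ↥(R : Subgroup G)) (x := ⟨x, hx⟩)
    rw [card_R S R hR] at this
    exact congrArg Subtype.val this
  have : x = (x * x) ^ 14 := by
    rw [← pow_two, ← pow_mul, show 2 * 14 = 27 + 1 by norm_num, pow_succ, h27, one_mul]
  rw [this]
  exact pow_mem h2 _

theorem mem_zP_iff {x : G} (hx : x ∈ (R : Subgroup G)) : x ∈ zpowers z ⊔ P ↔ x ∈ P := by
  refine ⟨fun h => ?_, fun h => mem_sup_right h⟩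
  rw [← N_inf_norm S] at h
  have := mem_inf.mpr ⟨hx, (mem_inf.mp h).1⟩
  rwa [inf_N S R hR hP] at this

theorem not_comm : ∃ a b : ↥(R : Subgroup G), a * b ≠ b * a := by
  by_contra hc
  push Not at hc
  haveI : Fact (Nat.Prime 3) := ⟨by norm_num⟩
  let RC : Sylow 3 ↥(cp z P) := R.subtype (R_le_cp S R hR hP)
  haveI : IsMulCommutative ↥(RC : Subgroup ↥(cp z P)) := ⟨⟨fun a b =>
    Subtype.ext (Subtype.ext (by simpa using congrArg Subtype.val (hc ⟨_, a.2⟩ ⟨_, b.2⟩)))⟩⟩
  have hbot := CfsgLib.Transfer.inf_commutator_inf_center (RC : Subgroup ↥(cp z P)) inferInstance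
    RC.card_coprime_index
  obtain ⟨⟨a, ha⟩, hoa⟩ := exists_prime_orderOf_dvd_card' (G := ↥P) 3 (S.card_P ▸ dvd_rfl)
  rw [Subgroup.orderOf_mk] at hoa
  have haC : a ∈ cp z P := R_le_cp S R hR hP (hP ha)
  have hmem : (⟨a, haC⟩ : ↥(cp z P)) ∈
      (RC : Subgroup ↥(cp z P)) ⊓ _root_.commutator ↥(cp z P) ⊓ center ↥(cp z P) := by
    refine mem_inf.mpr ⟨mem_inf.mpr ⟨hP ha, ?_⟩, ?_⟩
    · have hm : a ∈ (_root_.commutator ↥(cp z P)).map (cp z P).subtype := by
        rw [_root_.commutator_def, map_commutator, ← MonoidHom.range_eq_map, range_subtype]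
        exact S.der ha
      obtain ⟨w, hw, he⟩ := hm
      rwa [show (⟨a, haC⟩ : ↥(cp z P)) = w from Subtype.ext he.symm]
    · rw [center_cp S]
      exact mem_subgroupOf.mpr (mem_sup_right ha)
  rw [hbot, mem_bot] at hmem
  rw [show a = 1 from congrArg Subtype.val hmem, orderOf_one] at hoa
  norm_num at hoa

theorem extraspecial : IsExtraspecial 3 ↥(R : Subgroup G) := by
  haveI : Fact (Nat.Prime 3) := ⟨by norm_num⟩
  exact CfsgLib.HJType.isExtraspecial_of_nonabelian_cube (by rw [card_R S R hR]; norm_num)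
    (not_comm S R hR hP)

theorem center_R : center ↥(R : Subgroup G) = P.subgroupOf (R : Subgroup G) := by
  refine (eq_of_le_of_card_ge (fun a ha => mem_center_iff.mpr fun b => Subtype.ext ?_) ?_).symm
  · exact ((R_le_cp S R hR hP b.2).2 a (mem_subgroupOf.mp ha)).symm
  · rw [(extraspecial S R hR hP).2, Nat.card_congr (subgroupOfEquivOfLe hP).toEquiv, S.card_P]

theorem cube_mem {x : G} (hx : x ∈ (R : Subgroup G)) : x ^ 3 ∈ P := by
  haveI : Fact (Nat.Prime 3) := ⟨by norm_num⟩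
  set Z := center ↥(R : Subgroup G)
  have hZ : Nat.card ↥Z = 3 := (extraspecial S R hR hP).2
  have hQ : Nat.card (↥(R : Subgroup G) ⧸ Z) = 9 := by
    have h := Z.card_mul_index
    rw [hZ, card_R S R hR] at h
    rw [← index_eq_card]; omega
  have hq : ((⟨x, hx⟩ : ↥(R : Subgroup G)) : ↥(R : Subgroup G) ⧸ Z) ^ 3 = 1 := by
    have hd := orderOf_dvd_natCard ((⟨x, hx⟩ : ↥(R : Subgroup G)) : ↥(R : Subgroup G) ⧸ Z)
    rw [hQ] at hd
    have hne : orderOf ((⟨x, hx⟩ : ↥(R : Subgroup G)) : ↥(R : Subgroup G) ⧸ Z) ≠ 9 := fun h => by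
      haveI : IsCyclic (↥(R : Subgroup G) ⧸ Z) := isCyclic_of_orderOf_eq_card _ (h.trans hQ.symm)
      obtain ⟨a, b, hab⟩ := not_comm S R hR hP
      exact hab (commutative_of_cyclic_center_quotient (QuotientGroup.mk' Z)
        (by rw [QuotientGroup.ker_mk']) a b)
    refine orderOf_dvd_iff_pow_eq_one.mp ?_
    obtain ⟨k, hk, he⟩ := (Nat.dvd_prime_pow (show Nat.Prime 3 by norm_num) (m := 2)).mp (by norm_num; exact hd)
    interval_cases k <;> simp_all
  rw [← QuotientGroup.mk_pow, QuotientGroup.eq_one_iff] at hq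
  have hm : (⟨x, hx⟩ : ↥(R : Subgroup G)) ^ 3 ∈ P.subgroupOf (R : Subgroup G) := by
    rw [← center_R S R hR hP]; exact hq
  exact mem_subgroupOf.mp hm

/-- The image of the Sylow subgroup in the Mathieu group. -/
noncomputable def imgR : Sylow 3 ↥Spor.M22 :=
  haveI : Fact (Nat.Prime 3) := ⟨by norm_num⟩
  (R.subtype (R_le_cp S R hR hP)).mapSurjective (toM22_surj S)

theorem mem_imgR {y : ↥Spor.M22} : y ∈ (imgR S R hR hP : Subgroup ↥Spor.M22) ↔
    ∃ x : ↥(cp z P), (x : G) ∈ (R : Subgroup G) ∧ toM22 S x = y :=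
  mem_map

theorem imgR_cube {y : ↥Spor.M22} (hy : y ∈ (imgR S R hR hP : Subgroup ↥Spor.M22)) : y ^ 3 = 1 := by
  obtain ⟨x, hx, rfl⟩ := (mem_imgR S R hR hP).mp hy
  rw [← map_pow, ← MonoidHom.mem_ker, toM22_ker S, mem_subgroupOf]
  exact mem_sup_right (cube_mem S R hR hP hx)

omit hP in
theorem pow_nine_z {i : ℤ} (h : (z ^ i) ^ 9 = 1) : z ^ i = 1 := by
  have h2 : (z ^ i) ^ 2 = 1 := by
    rw [← zpow_natCast, ← zpow_mul, mul_comm, zpow_mul, zpow_natCast, ← S.ord_z, pow_orderOf_eq_one, one_zpow]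
  have : z ^ i = (z ^ i) ^ 9 := by
    rw [show 9 = 2 * 4 + 1 by norm_num, pow_succ, pow_mul, h2, one_pow, one_mul]
  rw [this, h]

/-- An element of `cp` whose image normalizes the image of `R` normalizes `R`. -/
theorem norm_of_img {c : ↥(cp z P)}
    (hc : toM22 S c ∈ normalizer ((imgR S R hR hP : Subgroup ↥Spor.M22) : Set ↥Spor.M22)) :
    (c : G) ∈ normalizer ((R : Subgroup G) : Set G) := by
  refine mem_normalizer_fintype fun r hr => ?_
  have him : toM22 S (c * ⟨r, R_le_cp S R hR hP hr⟩ * c⁻¹) ∈ (imgR S R hR hP : Subgroup ↥Spor.M22) := by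
    rw [map_mul, map_mul, map_inv]
    exact (mem_normalizer_iff.mp hc _).mp ((mem_imgR S R hR hP).mpr ⟨_, hr, rfl⟩)
  obtain ⟨x, hx, hxe⟩ := (mem_imgR S R hR hP).mp him
  have hk : x⁻¹ * (c * ⟨r, R_le_cp S R hR hP hr⟩ * c⁻¹) ∈ (toM22 S).ker := by
    rw [MonoidHom.mem_ker, map_mul, map_inv, hxe, inv_mul_cancel]
  rw [toM22_ker S, mem_subgroupOf] at hk
  have hle : zpowers z ≤ normalizer (P : Set G) := (zpowers_z_le S).trans (cp_le_np.trans inf_le_right)
  have hk' : (x : G)⁻¹ * ((c : G) * r * (c : G)⁻¹) ∈ ((zpowers z ⊔ P : Subgroup G) : Set G) := hk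
  rw [coe_mul_of_left_le_normalizer_right _ _ hle] at hk'
  obtain ⟨_, ⟨i, rfl⟩, a, ha, he⟩ := hk'
  set w := (c : G) * r * (c : G)⁻¹ with hw
  have hw' : w = z ^ i * ((x : G) * a) := by
    have hxz : Commute (z ^ i) (x : G) :=
      Commute.zpow_left (mem_centralizer_singleton_iff.mp x.2.1).symm i
    calc w = (x : G) * ((x : G)⁻¹ * w) := by group
      _ = (x : G) * (z ^ i * a) := by rw [← he]
      _ = z ^ i * ((x : G) * a) := by rw [← mul_assoc, ← hxz.eq, mul_assoc]
  have hxa : (x : G) * a ∈ (R : Subgroup G) := mul_mem hx (hP ha)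
  have h9 : ∀ y ∈ (R : Subgroup G), y ^ 9 = 1 := fun y hy => by
    obtain ⟨k, hk⟩ : 3 ∣ 9 := by norm_num
    have h3 := cube_mem S R hR hP hy
    have := pow_card_eq_one' (G := ↥P) (x := ⟨y ^ 3, h3⟩)
    rw [S.card_P] at this
    have := congrArg Subtype.val this
    simp only [SubmonoidClass.coe_pow, OneMemClass.coe_one, ← pow_mul] at this
    exact this
  have hcz : Commute (z ^ i) ((x : G) * a) :=
    Commute.zpow_left (mem_centralizer_singleton_iff.mp (hR hxa)).symm i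
  have h1 : w ^ 9 = 1 := by rw [hw, conj_pow, h9 r hr, mul_one, mul_inv_cancel]
  rw [hw', hcz.mul_pow, h9 _ hxa, mul_one] at h1
  rw [hw', pow_nine_z S R hR h1, one_mul]
  exact hxa

theorem exponent_three : Monoid.exponent ↥(R : Subgroup G) = 3 := by
  classical
  haveI : Fact (Nat.Prime 3) := ⟨by norm_num⟩
  letI := Fintype.ofFinite ↥Spor.M22
  have hR27 := card_R S R hR
  have hcen : ∀ {u : G}, u ∈ (R : Subgroup G) → ∀ {a : G}, a ∈ P → Commute u a := fun hu a ha =>
    ((R_le_cp S R hR hP hu).2 a ha).symm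
  have hP3 : ∀ {a : G}, a ∈ P → a ^ 3 = 1 := fun {a} ha => by
    have := pow_card_eq_one' (G := ↥P) (x := ⟨a, ha⟩)
    rw [S.card_P] at this
    exact congrArg Subtype.val this
  have hcomm : ∀ {u v : G}, u ∈ (R : Subgroup G) → v ∈ (R : Subgroup G) → ⁅u, v⁆ ∈ P := fun {u v} hu hv => by
    have hm : (⁅(⟨u, hu⟩ : ↥(R : Subgroup G)), ⟨v, hv⟩⁆) ∈ _root_.commutator ↥(R : Subgroup G) := by
      rw [_root_.commutator_def]; exact commutator_mem_commutator (mem_top _) (mem_top _)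
    rw [(extraspecial S R hR hP).1.2.2, center_R S R hR hP, mem_subgroupOf] at hm
    exact hm
  have hmulcube : ∀ {u v : G}, u ∈ (R : Subgroup G) → v ∈ (R : Subgroup G) →
      (u * v) ^ 3 = u ^ 3 * v ^ 3 := fun {u v} hu hv => by
    set d := ⁅v, u⁆ with hd
    have hdP : d ∈ P := hcomm hv hu
    have hvu : v * u = d * (u * v) := by rw [hd, commutatorElement_def]; group
    have du : u * d = d * u := (hcen hu hdP).eq
    have dv : v * d = d * v := (hcen hv hdP).eq
    calc (u * v) ^ 3 = u * (v * u) * (v * u) * v := by simp [pow_succ, mul_assoc]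
      _ = u * (d * (u * v)) * (d * (u * v)) * v := by rw [hvu]
      _ = d * u * (u * (v * d) * u) * v * v := by simp only [← mul_assoc, du]
      _ = d * u * (u * (d * v) * u) * v * v := by rw [dv]
      _ = d * (u * (u * d)) * (v * u) * v * v := by simp only [mul_assoc]
      _ = d * (u * (d * u)) * (d * (u * v)) * v * v := by rw [du, hvu]
      _ = d * ((u * d) * (u * d)) * u * v * v * v := by simp only [mul_assoc]
      _ = d * ((d * u) * (d * u)) * u * v * v * v := by rw [du]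
      _ = d * d * (u * d) * u * u * v * v * v := by simp only [mul_assoc]
      _ = d * d * (d * u) * u * u * v * v * v := by rw [du]
      _ = d ^ 3 * (u ^ 3 * v ^ 3) := by simp [pow_succ, mul_assoc]
      _ = u ^ 3 * v ^ 3 := by rw [hP3 hdP, one_mul]
  -- an element of order three outside the centre
  obtain ⟨⟨a, ha⟩, ⟨b, hb⟩, hab⟩ := not_comm S R hR hP
  have hab' : a * b ≠ b * a := fun h => hab (Subtype.ext h)
  have haP : a ∉ P := fun h => hab' (hcen hb h).eq.symm
  obtain ⟨k, hk, hkP, hk3⟩ : ∃ k ∈ (R : Subgroup G), k ∉ P ∧ k ^ 3 = 1 := by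
    by_cases ha3 : a ^ 3 = 1
    · exact ⟨a, ha, haP, ha3⟩
    have haz : a ^ 3 ∈ P := cube_mem S R hR hP ha
    have hgen : zpowers (a ^ 3) = P := eq_of_le_of_card_ge (zpowers_le.mpr haz)
      (by rw [S.card_P, Nat.card_zpowers, orderOf_eq_prime (hP3 haz) ha3])
    obtain ⟨i, hi⟩ := (mem_zpowers_iff.mp (hgen ▸ cube_mem S R hR hP hb : b ^ 3 ∈ zpowers (a ^ 3)))
    refine ⟨b * a ^ (-i), mul_mem hb (zpow_mem ha _), fun h => hab' ?_, ?_⟩
    · have hb' : b = (b * a ^ (-i)) * a ^ i := by rw [mul_assoc, ← zpow_add, neg_add_cancel, zpow_zero, mul_one]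
      have hc : Commute a b := by
        rw [hb']
        exact (hcen ha h).mul_right (Commute.self_zpow a i)
      exact hc.eq
    · rw [hmulcube hb (zpow_mem ha _), ← hi, ← zpow_natCast (a ^ (-i)) 3, ← zpow_mul, mul_comm (-i),
        zpow_mul, zpow_natCast, ← zpow_add, add_neg_cancel, zpow_zero]
  have hL := CfsgLib.MTwentyTwoUnique.local_M22
  have hone : ∀ {u : G} (hu : u ∈ (R : Subgroup G)),
      toM22 S ⟨u, R_le_cp S R hR hP hu⟩ = 1 → u ∈ P := fun {u} hu h => by
    rw [← MonoidHom.mem_ker, toM22_ker S, mem_subgroupOf] at h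
    exact (mem_zP_iff S R hR hP hu).mp h
  have hall : ∀ y ∈ (R : Subgroup G), y ^ 3 = 1 := fun y hy => by
    by_cases hyP : y ∈ P
    · exact hP3 hyP
    set ky := toM22 S ⟨k, R_le_cp S R hR hP hk⟩
    set yy := toM22 S ⟨y, R_le_cp S R hR hP hy⟩
    have hkm : ky ∈ (imgR S R hR hP : Subgroup ↥Spor.M22) := (mem_imgR S R hR hP).mpr ⟨_, hk, rfl⟩
    have hym : yy ∈ (imgR S R hR hP : Subgroup ↥Spor.M22) := (mem_imgR S R hR hP).mpr ⟨_, hy, rfl⟩
    obtain ⟨n, hn, hne⟩ := conj_in_normalizer hL (imgR S R hR hP) hkm hym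
      (orderOf_eq_prime (imgR_cube S R hR hP hkm) fun h => hkP (hone hk h))
      (orderOf_eq_prime (imgR_cube S R hR hP hym) fun h => hyP (hone hy h))
    obtain ⟨c, rfl⟩ := toM22_surj S n
    have hcN := norm_of_img S R hR hP hn
    have hq : (c : G) * k * (c : G)⁻¹ ∈ (R : Subgroup G) := (mem_normalizer_iff.mp hcN k).mp hk
    have hu : ((c : G) * k * (c : G)⁻¹)⁻¹ * y ∈ (R : Subgroup G) := mul_mem (inv_mem hq) hy
    have huP : ((c : G) * k * (c : G)⁻¹)⁻¹ * y ∈ P := hone hu (by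
      rw [show (⟨((c : G) * k * (c : G)⁻¹)⁻¹ * y, R_le_cp S R hR hP hu⟩ : ↥(cp z P)) =
          (c * ⟨k, R_le_cp S R hR hP hk⟩ * c⁻¹)⁻¹ * ⟨y, R_le_cp S R hR hP hy⟩ from rfl,
        map_mul, map_inv, map_mul, map_mul, map_inv]
      show (toM22 S c * ky * (toM22 S c)⁻¹)⁻¹ * yy = 1
      rw [hne, inv_mul_cancel])
    rw [show y = ((c : G) * k * (c : G)⁻¹) * (((c : G) * k * (c : G)⁻¹)⁻¹ * y) by group,
      hmulcube hq hu, hP3 huP, conj_pow, hk3, mul_one, mul_one, mul_inv_cancel]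
  rcases (Nat.dvd_prime (show Nat.Prime 3 by norm_num)).mp
    (Monoid.exponent_dvd_of_forall_pow_eq_one fun x : ↥(R : Subgroup G) => Subtype.ext (hall x x.2)) with h | h
  · exfalso
    have h1 := Monoid.pow_exponent_eq_one (⟨a, ha⟩ : ↥(R : Subgroup G))
    rw [h, pow_one] at h1
    refine haP ?_
    rw [show a = 1 from congrArg Subtype.val h1]
    exact one_mem P
  · exact h

theorem normalizer_le_np : normalizer ((R : Subgroup G) : Set G) ≤ normalizer (P : Set G) := fun n hn => by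
  refine mem_normalizer_fintype fun a ha => ?_
  have hmem : ∀ r ∈ (R : Subgroup G), n * r * n⁻¹ ∈ (R : Subgroup G) :=
    fun r hr => (mem_normalizer_iff.mp hn r).mp hr
  have hc : (⟨n * a * n⁻¹, hmem a (hP ha)⟩ : ↥(R : Subgroup G)) ∈ center ↥(R : Subgroup G) := by
    refine mem_center_iff.mpr fun b => Subtype.ext ?_
    show (b : G) * (n * a * n⁻¹) = n * a * n⁻¹ * b
    have hb' : n⁻¹ * (b : G) * n ∈ (R : Subgroup G) := by
      refine (mem_normalizer_iff.mp hn _).mpr ?_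
      rw [show n * (n⁻¹ * (b : G) * n) * n⁻¹ = b by group]
      exact b.2
    have h := (R_le_cp S R hR hP hb').2 a ha
    calc (b : G) * (n * a * n⁻¹) = n * (n⁻¹ * b * n * a) * n⁻¹ := by group
      _ = n * (a * (n⁻¹ * b * n)) * n⁻¹ := by rw [← h]
      _ = n * a * n⁻¹ * b := by group
  rw [center_R S R hR hP, mem_subgroupOf] at hc
  exact hc

theorem exists_outside : ∃ m ∈ np z P, m ∈ normalizer ((R : Subgroup G) : Set G) ∧ m ∉ cp z P := by
  haveI : Fact (Nat.Prime 3) := ⟨by norm_num⟩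
  obtain ⟨m, hm, hmC⟩ : ∃ m ∈ np z P, m ∉ cp z P :=
    SetLike.exists_of_lt (lt_of_le_of_ne cp_le_np (Ne.symm S.ne))
  set C' := (cp z P).subgroupOf (np z P)
  haveI : C'.Normal := normal_of_index_eq_two (cp_relIndex S)
  let RM : Sylow 3 ↥(np z P) := R.subtype (R_le_np S R hR hP)
  have hRC : (RM : Subgroup ↥(np z P)) ≤ C' := fun x hx => R_le_cp S R hR hP hx
  have htop := Sylow.normalizer_sup_eq_top' RM hRC
  by_contra hne
  push Not at hne
  have hle : normalizer (RM : Set ↥(np z P)) ≤ C' := fun x hx => by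
    refine hne x x.2 (mem_normalizer_fintype fun r hr => ?_)
    have := (mem_normalizer_iff.mp hx ⟨r, R_le_np S R hR hP hr⟩).mp hr
    exact this
  rw [sup_eq_right.mpr hle] at htop
  exact hmC (show (⟨m, hm⟩ : ↥(np z P)) ∈ C' from htop ▸ mem_top _)

theorem card_normalizer_inf : Nat.card ↥(normalizer ((R : Subgroup G) : Set G) ⊓ cp z P : Subgroup G) = 432 := by
  letI := Fintype.ofFinite ↥Spor.M22
  set K := normalizer ((imgR S R hR hP : Subgroup ↥Spor.M22) : Set ↥Spor.M22)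
  have heq : (K.comap (toM22 S)).map (cp z P).subtype = normalizer ((R : Subgroup G) : Set G) ⊓ cp z P := by
    ext x
    constructor
    · rintro ⟨c, hc, rfl⟩
      exact mem_inf.mpr ⟨norm_of_img S R hR hP hc, c.2⟩
    · intro hx
      obtain ⟨hxR, hxC⟩ := mem_inf.mp hx
      refine ⟨⟨x, hxC⟩, mem_comap.mpr (mem_normalizer_fintype fun y hy => ?_), rfl⟩
      obtain ⟨w, hw, rfl⟩ := (mem_imgR S R hR hP).mp hy
      refine (mem_imgR S R hR hP).mpr ⟨⟨x, hxC⟩ * w * ⟨x, hxC⟩⁻¹, ?_, by rw [map_mul, map_mul, map_inv]⟩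
      exact (mem_normalizer_iff.mp hxR w).mp hw
  rw [← heq, ← Nat.card_congr ((K.comap (toM22 S)).equivMapOfInjective _ (cp z P).subtype_injective).toEquiv]
  have h1 := (K.comap (toM22 S)).card_mul_index
  rw [index_comap_of_surjective _ (toM22_surj S), card_cp S] at h1
  have h2 := K.card_mul_index
  rw [card_normalizer_sylow3 CfsgLib.MTwentyTwoUnique.local_M22 _ (fun s hs => imgR_cube S R hR hP hs),
    CfsgLib.Golay.card_sporM22] at h2
  have hK : K.index = 6160 := by omega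
  rw [hK] at h1
  omega

theorem card_normalizer (hNP : normalizer (P : Set G) ≤ cz z) :
    normalizer ((R : Subgroup G) : Set G) ≤ cz z ∧
      Nat.card ↥(normalizer ((R : Subgroup G) : Set G)) = 864 := by
  have hle : normalizer ((R : Subgroup G) : Set G) ≤ np z P :=
    le_inf ((normalizer_le_np S R hR hP).trans hNP) (normalizer_le_np S R hR hP)
  refine ⟨hle.trans inf_le_left, ?_⟩
  obtain ⟨m, hm, hmN, hmC⟩ := exists_outside S R hR hP
  set NR := normalizer ((R : Subgroup G) : Set G)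
  set C' := (cp z P).subgroupOf (np z P)
  have hidx : C'.index = 2 := cp_relIndex S
  have hrel : (NR ⊓ cp z P).relIndex NR = 2 := by
    rw [inf_relIndex_left]
    refine relIndex_eq_two_iff.mpr ⟨m, hmN, fun b hb => ?_⟩
    have h := (mul_mem_iff_of_index_two hidx (a := ⟨b, hle hb⟩) (b := ⟨m, hm⟩))
    simp only [C', mem_subgroupOf, coe_mul, hmC, iff_false] at h
    by_cases hbC : b ∈ cp z P
    · exact Or.inr ⟨hbC, fun h' => h.mp h' hbC⟩
    · exact Or.inl ⟨h.mpr hbC, hbC⟩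
  have := ((NR ⊓ cp z P).subgroupOf NR).card_mul_index
  rw [show ((NR ⊓ cp z P).subgroupOf NR).index = 2 from hrel,
    Nat.card_congr (subgroupOfEquivOfLe (inf_le_left : NR ⊓ cp z P ≤ NR)).toEquiv,
    card_normalizer_inf S R hR hP] at this
  omega

end CfsgLib.JankoFour
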