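import Cfsg.Agent.Lib.JankoFour.SylowThree
import Mathlib

/-!
Groups of Janko-four type: every Sylow 3-subgroup in the centralizer of the involution, given that the
normalizer of `P` lies there.
-/

set_option autoImplicit false
set_option linter.style.haveILetI false
set_option linter.unusedSectionVars false

namespace CfsgLib.JankoFour

open Subgroup Cfsg

variable {G : Type*} [Group G] [Finite G] {z : G} {P : Subgroup G}

open scoped Pointwise in
theorem exists_sylow_conj (S : Setting z P) (R : Sylow 3 G) (hR : (R : Subgroup G) ≤ cz z) :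
    ∃ n ∈ cz z, P ≤ ((n • R : Sylow 3 G) : Subgroup G) ∧ ((n • R : Sylow 3 G) : Subgroup G) ≤ cz z := by
  haveI : Fact (Nat.Prime 3) := ⟨by norm_num⟩
  obtain ⟨Q, hQ⟩ := (IsPGroup.of_card (p := 3) (n := 1)
    (by rw [Nat.card_congr (subgroupOfEquivOfLe (P_le_cz S)).toEquiv, S.card_P, pow_one]) :
      IsPGroup 3 (P.subgroupOf (cz z))).exists_le_sylow
  obtain ⟨n, hn⟩ := MulAction.exists_smul_eq ↥(cz z) (R.subtype hR) Q
  have hmem : ∀ x, x ∈ ((((n : G) • R : Sylow 3 G)) : Subgroup G) ↔ (n : G)⁻¹ * x * n ∈ (R : Subgroup G) := by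
    intro x
    rw [Sylow.coe_subgroup_smul, mem_pointwise_smul_iff_inv_smul_mem]
    simp [MulAut.smul_def, MulAut.conj_inv_apply]
  refine ⟨n, n.2, fun a ha => (hmem a).mpr ?_, fun x hx => ?_⟩
  · have h : (⟨a, P_le_cz S ha⟩ : ↥(cz z)) ∈ ((n • R.subtype hR : Sylow 3 ↥(cz z)) : Subgroup ↥(cz z)) := by
      rw [hn]; exact hQ (mem_subgroupOf.mpr ha)
    rw [Sylow.coe_subgroup_smul, mem_pointwise_smul_iff_inv_smul_mem] at h
    simpa [MulAut.smul_def, MulAut.conj_inv_apply, mem_subgroupOf] using h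
  · have h := mul_mem (mul_mem n.2 (hR ((hmem x).mp hx))) (inv_mem n.2)
    rwa [show (n : G) * ((n : G)⁻¹ * x * n) * (n : G)⁻¹ = x by group] at h

open scoped Pointwise in
/-- The Sylow 3-subgroup and its normalizer. -/
theorem sylow_three (S : Setting z P) (hNP : normalizer (P : Set G) ≤ cz z) (R : Sylow 3 G)
    (hR : (R : Subgroup G) ≤ cz z) :
    IsExtraspecial 3 ↥(R : Subgroup G) ∧ Nat.card ↥(R : Subgroup G) = 27 ∧
      Monoid.exponent ↥(R : Subgroup G) = 3 ∧
      normalizer ((R : Subgroup G) : Set G) ≤ cz z ∧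
      Nat.card ↥(normalizer ((R : Subgroup G) : Set G)) = 864 := by
  obtain ⟨n, hn, hP, hR'⟩ := exists_sylow_conj S R hR
  set R' : Sylow 3 G := n • R with hRdef
  have he : (R' : Subgroup G) = (R : Subgroup G).map (MulAut.conj n).toMonoidHom := by
    rw [hRdef, Sylow.coe_subgroup_smul]; rfl
  let e : ↥(R : Subgroup G) ≃* ↥(R' : Subgroup G) :=
    (equivMapOfInjective _ (MulAut.conj n).toMonoidHom (MulAut.conj n).injective).trans
      (MulEquiv.subgroupCongr he.symm)
  have hN : normalizer ((R' : Subgroup G) : Set G) =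
      (normalizer ((R : Subgroup G) : Set G)).map (MulAut.conj n).toMonoidHom := by
    rw [he, map_equiv_normalizer_eq]
  obtain ⟨h1, h2⟩ := card_normalizer S R' hR' hP hNP
  rw [hN] at h1 h2
  refine ⟨?_, card_R S R hR, ?_, fun x hx => ?_, ?_⟩
  · haveI : Fact (Nat.Prime 3) := ⟨by norm_num⟩
    obtain ⟨a, b, hab⟩ := not_comm S R' hR' hP
    exact CfsgLib.HJType.isExtraspecial_of_nonabelian_cube (by rw [card_R S R hR]; norm_num)
      ⟨e.symm a, e.symm b, fun h => hab (e.symm.injective (by rw [map_mul, map_mul]; exact h))⟩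
  · rw [Monoid.exponent_eq_of_mulEquiv e, exponent_three S R' hR' hP]
  · have h := mul_mem (mul_mem (inv_mem hn) (h1 ⟨x, hx, rfl⟩)) hn
    simpa [mul_assoc] using h
  · rw [← h2]
    exact (card_map_of_injective (MulAut.conj n).injective).symm

end CfsgLib.JankoFour
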